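import Cfsg.Agent.H67.SZ
import Cfsg.Agent.Hall.Hall
import Cfsg.Agent.Solv.MinNormal
import Cfsg.Agent.S0143

set_option autoImplicit false

/-!
# Groups all of whose `p`-regular classes have `p`-power size (helper67)
-/

namespace Cfsg.Agent.H67

open Subgroup Cfsg.Agent.Solv Cfsg

universe u

/-- class size condition -/
def PRegClassPPower (p : ℕ) (G : Type u) [Group G] : Prop :=
  ∀ x : G, (orderOf x).Coprime p → ∃ k : ℕ, (centralizer ({x} : Set G)).index = p ^ k

theorem relIndex_dvd_index_of_normal_top {G : Type u} [Group G] [Finite G] (C N : Subgroup G) [N.Normal] :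
    C.relIndex N ∣ C.index := by
  have h1 := mul_card_sup_of_normal C N
  have h2 := natCard_mul_relIndex C (C ⊔ N) le_sup_left
  have h3 := natCard_mul_relIndex (C ⊓ N) N inf_le_right
  rw [inf_relIndex_right] at h3
  have h4 : C.relIndex (C ⊔ N) = C.relIndex N := by
    have hC : 0 < Nat.card C := Nat.card_pos
    have hCN : 0 < Nat.card (C ⊓ N : Subgroup G) := Nat.card_pos
    rw [← h2, ← h3] at h1
    have h5 : Nat.card C * Nat.card (C ⊓ N : Subgroup G) * C.relIndex (C ⊔ N) =
        Nat.card C * Nat.card (C ⊓ N : Subgroup G) * C.relIndex N := by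
      calc _ = Nat.card C * C.relIndex (C ⊔ N) * Nat.card (C ⊓ N : Subgroup G) := by ring
        _ = _ := by rw [h1]; ring
    exact Nat.eq_of_mul_eq_mul_left (Nat.mul_pos hC hCN) h5
  rw [← h4]
  exact relIndex_dvd_index_of_le le_sup_left

theorem centralizer_subgroupOf_singleton {G : Type u} [Group G] (N : Subgroup G) (x : N) :
    centralizer ({x} : Set N) = (centralizer ({(x : G)} : Set G)).subgroupOf N := by
  ext y
  rw [mem_subgroupOf, mem_centralizer_singleton_iff, mem_centralizer_singleton_iff]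
  constructor
  · intro h
    exact congrArg Subtype.val h
  · intro h
    exact Subtype.ext h

theorem PRegClassPPower.normal {G : Type u} [Group G] [Finite G] {p : ℕ} (hp : p.Prime)
    (h : PRegClassPPower p G) (N : Subgroup G) [N.Normal] : PRegClassPPower p N := by
  intro x hx
  obtain ⟨k, hk⟩ := h x (by rwa [orderOf_coe])
  have h1 : (centralizer ({x} : Set N)).index ∣ p ^ k := by
    rw [centralizer_subgroupOf_singleton, ← hk]
    exact relIndex_dvd_index_of_normal_top _ N
  obtain ⟨j, -, hj⟩ := (Nat.dvd_prime_pow hp).mp h1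
  exact ⟨j, hj⟩

/-- decomposition into `p`-part and `p'`-part -/
theorem exists_p_decomp {G : Type u} [Group G] [Finite G] {p : ℕ} (hp : p.Prime) (g : G) :
    ∃ i j k : ℕ, g = g ^ i * g ^ j ∧ orderOf (g ^ i) = p ^ k ∧ (orderOf (g ^ j)).Coprime p := by
  obtain ⟨k, m, hm, hkm⟩ := Nat.exists_eq_pow_mul_and_not_dvd (orderOf_pos g).ne' p hp.one_lt.ne'
  have hcop : (p ^ k).Coprime m := Nat.Coprime.pow_left k ((Nat.Prime.coprime_iff_not_dvd hp).mpr hm)
  obtain ⟨i, j, hg, hi, hj⟩ := exists_decomp g (p ^ k) m hkm hcop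
  refine ⟨i, j, k, hg, hi, ?_⟩
  rw [hj]
  exact ((Nat.Prime.coprime_iff_not_dvd hp).mpr hm).symm

theorem exists_pRegular_lift {G : Type u} [Group G] [Finite G] {p : ℕ} (hp : p.Prime) (N : Subgroup G)
    [N.Normal] (y : G ⧸ N) (hy : (orderOf y).Coprime p) :
    ∃ x : G, QuotientGroup.mk' N x = y ∧ (orderOf x).Coprime p := by
  obtain ⟨g, rfl⟩ := QuotientGroup.mk'_surjective N y
  obtain ⟨i, j, k, hg, hi, hj⟩ := exists_p_decomp hp g
  refine ⟨g ^ j, ?_, hj⟩
  have h1 : QuotientGroup.mk' N (g ^ i) = 1 := by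
    rw [← orderOf_eq_one_iff]
    have h2 : orderOf (QuotientGroup.mk' N (g ^ i)) ∣ p ^ k := hi ▸ orderOf_map_dvd _ _
    have h3 : orderOf (QuotientGroup.mk' N (g ^ i)) ∣ orderOf (QuotientGroup.mk' N g) := by
      rw [map_pow]; exact orderOf_pow_dvd i
    exact Nat.eq_one_of_dvd_coprimes (Nat.Coprime.pow_right k hy) h3 h2
  calc QuotientGroup.mk' N (g ^ j) = QuotientGroup.mk' N (g ^ i) * QuotientGroup.mk' N (g ^ j) := by
        rw [h1, one_mul]
    _ = QuotientGroup.mk' N g := by rw [← map_mul, ← hg]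

theorem PRegClassPPower.quotient {G : Type u} [Group G] [Finite G] {p : ℕ} (hp : p.Prime)
    (h : PRegClassPPower p G) (N : Subgroup G) [N.Normal] : PRegClassPPower p (G ⧸ N) := by
  intro y hy
  obtain ⟨x, hx, hxp⟩ := exists_pRegular_lift hp N y hy
  obtain ⟨k, hk⟩ := h x hxp
  have h1 : (centralizer ({y} : Set (G ⧸ N))).index ∣ p ^ k := by
    rw [← hk]
    refine dvd_trans (index_dvd_of_le (H := (centralizer ({x} : Set G)).map (QuotientGroup.mk' N)) ?_)
      (index_map_dvd _ (QuotientGroup.mk'_surjective N))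
    rintro _ ⟨z, hz, rfl⟩
    have hz' := mem_centralizer_singleton_iff.mp hz
    rw [mem_centralizer_singleton_iff, ← hx, ← map_mul, hz', map_mul]
  obtain ⟨j, -, hj⟩ := (Nat.dvd_prime_pow hp).mp h1
  exact ⟨j, hj⟩

theorem PRegClassPPower.isSolvable_aux {p : ℕ} (hp : p.Prime) (n : ℕ) :
    ∀ (G : Type u) [Group G] [Finite G], Nat.card G = n → PRegClassPPower p G → Group.IsSolvable G := by
  induction n using Nat.strong_induction_on with
  | _ n ih =>
  intro G _ _ hn h
  by_cases hsub : Subsingleton G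
  · infer_instance
  have hnt : Nontrivial G := not_subsingleton_iff_nontrivial.mp hsub
  by_cases hsimple : ∀ N : Subgroup G, N.Normal → N = ⊥ ∨ N = ⊤
  · have hS : IsSimpleGroup G := ⟨hsimple⟩
    by_cases hex : ∃ x : G, x ≠ 1 ∧ (orderOf x).Coprime p
    · obtain ⟨x, hx1, hx⟩ := hex
      obtain ⟨k, hk⟩ := h x hx
      have hprime := S0143.result p k hp x hx1 hk
      have : Fact (Nat.card G).Prime := ⟨hprime⟩
      have hc : IsCyclic G := isCyclic_of_prime_card rfl
      exact Group.isSolvable_of_comm (fun a b => (hc.isMulCommutative.is_comm.comm a b))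
    · -- G is a p-group
      push Not at hex
      have : Fact p.Prime := ⟨hp⟩
      have hpg : IsPGroup p G := by
        rw [IsPGroup.iff_orderOf]
        intro g
        obtain ⟨i, j, k, hg, hi, hj⟩ := exists_p_decomp hp g
        have h1 : g ^ j = 1 := by
          by_contra hne
          exact hex _ hne hj
        rw [h1, mul_one] at hg
        exact ⟨k, by rw [hg]; exact hi⟩
      have := hpg.isNilpotent
      infer_instance
  · push Not at hsimple
    obtain ⟨N, hN, hNb, hNt⟩ := hsimple
    have h1 : Nat.card N < n := by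
      rw [← hn]
      exact lt_of_le_of_ne (card_le_card_group N) (fun he => hNt ((card_eq_iff_eq_top N).mp he))
    have h2 : Nat.card (G ⧸ N) < n := by
      rw [← hn, ← index_eq_card]
      have h1 := N.card_mul_index
      have h2 : 1 < Nat.card N := (one_lt_card_iff_ne_bot N).mpr hNb
      have h3 : 0 < N.index := Nat.pos_of_ne_zero FiniteIndex.index_ne_zero
      rw [← h1]
      nlinarith
    have s1 := ih _ h1 N rfl (h.normal hp N)
    have s2 := ih _ h2 (G ⧸ N) rfl (h.quotient hp N)
    exact (Group.isSolvable_iff_subgroup_quotient N).mpr ⟨s1, s2⟩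

theorem PRegClassPPower.isSolvable {p : ℕ} (hp : p.Prime) {G : Type u} [Group G] [Finite G]
    (h : PRegClassPPower p G) : Group.IsSolvable G :=
  PRegClassPPower.isSolvable_aux hp _ G rfl h

/-- a `p`-regular element centralizes every normal `p'`-subgroup -/
theorem PRegClassPPower.le_centralizer {p : ℕ} (hp : p.Prime) {G : Type u} [Group G] [Finite G]
    (h : PRegClassPPower p G) (K : Subgroup G) [K.Normal] (hK : (Nat.card K).Coprime p) (y : G)
    (hy : (orderOf y).Coprime p) : K ≤ centralizer ({y} : Set G) := by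
  obtain ⟨k, hk⟩ := h y hy
  have h1 : (centralizer ({y} : Set G)).relIndex K ∣ p ^ k := hk ▸ relIndex_dvd_index_of_normal_top _ K
  have h2 : (centralizer ({y} : Set G)).relIndex K ∣ Nat.card K := relIndex_dvd_card _ _
  rw [← relIndex_eq_one]
  exact Nat.eq_one_of_dvd_coprimes (Nat.Coprime.pow_right k hK) h2 h1

theorem PRegClassPPower.exists_abelian_complement_aux {p : ℕ} (hp : p.Prime) (n : ℕ) :
    ∀ (G : Type u) [Group G] [Finite G], Nat.card G = n → PRegClassPPower p G →
    ∃ H : Subgroup G, IsMulCommutative H ∧ ¬ p ∣ Nat.card H ∧ ∃ k : ℕ, H.index = p ^ k := by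
  induction n using Nat.strong_induction_on with
  | _ n ih =>
  intro G _ _ hn h
  have hfact : Fact p.Prime := ⟨hp⟩
  have hsol : Group.IsSolvable G := h.isSolvable hp
  by_cases hO : pCore p G = ⊥
  · -- `F(G)` is a `p'`-group
    have hFK : fittingSubgroup G ≤ pPrimeCore p G := by
      refine (fitting_le_iSup_pCore).trans (iSup_le fun q => ?_)
      by_cases hq : (q : ℕ) = p
      · rw [hq, hO]; exact bot_le
      · have hqf : Fact (q : ℕ).Prime := ⟨q.2⟩
        apply le_pPrimeCore inferInstance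
        obtain ⟨k, hk⟩ := IsPGroup.iff_card.mp (pCore_isPGroup (q : ℕ) (G := G))
        rw [hk]
        exact Nat.Coprime.pow_left k ((Nat.coprime_primes q.2 hp).mpr hq)
    have hKcop : (Nat.card (pPrimeCore p G)).Coprime p := pPrimeCore_card_coprime p
    have key : ∀ y : G, (orderOf y).Coprime p → y ∈ fittingSubgroup G := by
      intro y hy
      apply centralizer_fitting_le
      rw [mem_centralizer_iff]
      intro x hx
      have := h.le_centralizer hp (pPrimeCore p G) hKcop y hy (hFK hx)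
      exact (mem_centralizer_singleton_iff.mp this)
    -- Hall `p'`-subgroup
    obtain ⟨m, k, hk, hmk⟩ := Nat.exists_eq_pow_mul_and_not_dvd (Nat.card_pos (α := G)).ne' p hp.one_lt.ne'
    obtain ⟨H, hH⟩ := Hall.hall_exists (G := G) k (p ^ m) (by rw [hmk, mul_comm])
      (Nat.Coprime.pow_right m (Nat.coprime_comm.mp ((Nat.Prime.coprime_iff_not_dvd hp).mpr hk)))
    have hHp : ¬ p ∣ Nat.card H := by rw [hH]; exact hk
    have hHreg : ∀ y ∈ H, (orderOf y).Coprime p := by
      intro y hy
      have h1 : orderOf y ∣ Nat.card H := by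
        have := orderOf_dvd_natCard (⟨y, hy⟩ : H)
        rwa [← orderOf_coe] at this
      exact Nat.Coprime.coprime_dvd_left h1 (Nat.coprime_comm.mp ((Nat.Prime.coprime_iff_not_dvd hp).mpr hHp))
    refine ⟨H, ?_, hHp, m, ?_⟩
    · constructor
      constructor
      rintro ⟨a, ha⟩ ⟨b, hb⟩
      apply Subtype.ext
      show a * b = b * a
      have h1 := h.le_centralizer hp (pPrimeCore p G) hKcop b (hHreg b hb) (hFK (key a (hHreg a ha)))
      exact mem_centralizer_singleton_iff.mp h1
    · have h1 := H.card_mul_index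
      rw [hH, hmk, mul_comm] at h1
      exact Nat.eq_of_mul_eq_mul_right (Nat.pos_of_ne_zero (by rintro rfl; exact hk (dvd_zero p))) h1
  · -- pass to the quotient by `O_p(G)`
    set N := pCore p G with hN
    have hlt : Nat.card (G ⧸ N) < n := by
      rw [← hn, ← index_eq_card]
      have h1 := N.card_mul_index
      have h2 : 1 < Nat.card N := (one_lt_card_iff_ne_bot N).mpr hO
      have h3 : 0 < N.index := Nat.pos_of_ne_zero FiniteIndex.index_ne_zero
      rw [← h1]
      nlinarith
    obtain ⟨Hb, hHb, hHbp, k, hk⟩ := ih _ hlt (G ⧸ N) rfl (h.quotient hp N)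
    set L := Hb.comap (QuotientGroup.mk' N) with hL
    have hNL : N ≤ L := by
      intro x hx
      rw [hL, mem_comap, (QuotientGroup.mk'_apply N x), (QuotientGroup.eq_one_iff x).mpr hx]
      exact one_mem _
    have hsurj := QuotientGroup.mk'_surjective N
    have hLmap : L.map (QuotientGroup.mk' N) = Hb := map_comap_eq_self_of_surjective hsurj Hb
    have hidxL : L.index = p ^ k := by rw [hL, index_comap_of_surjective _ hsurj, hk]
    -- relative index of N in L is |Hb|
    have hrel : N.relIndex L = Nat.card Hb := by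
      have h1 := relIndex_ker (K := L) (QuotientGroup.mk' N)
      rw [QuotientGroup.ker_mk', hLmap] at h1
      exact h1
    obtain ⟨c, hc⟩ := IsPGroup.iff_card.mp (pCore_isPGroup p (G := G))
    have hc' : Nat.card N = p ^ c := hc
    have hcop : (Nat.card (N.subgroupOf L)).Coprime (N.subgroupOf L).index := by
      have h1 : Nat.card (N.subgroupOf L) = Nat.card N := Nat.card_congr (subgroupOfEquivOfLe hNL).toEquiv
      have h2 : (N.subgroupOf L).index = N.relIndex L := rfl
      rw [h1, h2, hrel, hc']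
      exact Nat.Coprime.pow_left c ((Nat.Prime.coprime_iff_not_dvd hp).mpr hHbp)
    obtain ⟨H', hH'⟩ := exists_right_complement'_of_coprime hcop
    have hHcard : Nat.card H' = Nat.card Hb := by
      rw [← hH'.symm.index_eq_card]
      exact hrel
    set H := H'.map L.subtype with hHdef
    have hHc : Nat.card H = Nat.card Hb := by
      rw [hHdef, card_map_of_injective L.subtype_injective, hHcard]
    refine ⟨H, ?_, by rw [hHc]; exact hHbp, ?_⟩
    · -- `H` embeds in `Hb`
      have hinj : ∀ a ∈ H, QuotientGroup.mk' N a = 1 → a = 1 := by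
        rintro _ ⟨a, ha, rfl⟩ h1
        have h2 : a ∈ N.subgroupOf L := by
          rw [mem_subgroupOf]
          exact (QuotientGroup.eq_one_iff _).mp h1
        have h3 := (hH'.disjoint).le_bot (⟨h2, ha⟩ : a ∈ N.subgroupOf L ⊓ H')
        rw [mem_bot] at h3
        rw [h3, map_one]
      have hHL : H ≤ L := map_subtype_le H'
      constructor
      constructor
      rintro ⟨a, ha⟩ ⟨b, hb⟩
      apply Subtype.ext
      show a * b = b * a
      have h1 : a * b * (b * a)⁻¹ ∈ H := H.mul_mem (H.mul_mem ha hb) (H.inv_mem (H.mul_mem hb ha))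
      have h2 : QuotientGroup.mk' N (a * b * (b * a)⁻¹) = 1 := by
        rw [map_mul, map_inv, mul_inv_eq_one, map_mul, map_mul]
        have ha' : QuotientGroup.mk' N a ∈ Hb := hHL ha
        have hb' : QuotientGroup.mk' N b ∈ Hb := hHL hb
        exact congrArg Subtype.val (hHb.is_comm.comm (⟨_, ha'⟩ : Hb) ⟨_, hb'⟩)
      exact mul_inv_eq_one.mp (hinj _ h1 h2)
    · refine ⟨c + k, ?_⟩
      have h1 := H.card_mul_index
      have h2 := L.card_mul_index
      have h3 := natCard_mul_relIndex N L hNL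
      rw [hrel, ← hHc, hc'] at h3
      rw [hidxL, ← h3, ← h1] at h2
      have hpos : 0 < Nat.card H := Nat.card_pos
      apply Nat.eq_of_mul_eq_mul_left hpos
      rw [← h2, pow_add]
      ring

/-- A `p`-regular element is conjugate into an abelian `p`-complement. -/
theorem exists_conj_mem_of_abelian_complement {p : ℕ} (hp : p.Prime) (n : ℕ) :
    ∀ (G : Type u) [Group G] [Finite G] (H : Subgroup G), (∀ a ∈ H, ∀ b ∈ H, a * b = b * a) →
    (∃ k : ℕ, H.index = p ^ k) → ∀ x : G, orderOf x = n → n.Coprime p → ∃ g : G, g * x * g⁻¹ ∈ H := by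
  induction n using Nat.strong_induction_on with
  | _ n ih =>
  intro G _ _ H hab hidx x hx hn
  by_cases hn1 : n = 1
  · refine ⟨1, ?_⟩
    rw [hn1, orderOf_eq_one_iff] at hx
    simp [hx]
  obtain ⟨q, hq, hqn⟩ := Nat.exists_prime_and_dvd hn1
  have hqf : Fact q.Prime := ⟨hq⟩
  have hqp : q ≠ p := by
    rintro rfl
    exact hq.one_lt.ne' (Nat.eq_one_of_dvd_coprimes hn hqn dvd_rfl)
  obtain ⟨i, j, k, hxij, hi, hj⟩ := exists_p_decomp hq x
  have hqdvd : q ∣ orderOf (x ^ i) := by
    -- otherwise k = 0 and x = x ^ j is q-regular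
    rw [hi]
    apply dvd_pow_self
    rintro rfl
    rw [pow_zero, orderOf_eq_one_iff] at hi
    rw [hi, one_mul] at hxij
    rw [← hxij, hx] at hj
    exact hq.one_lt.ne' (Nat.eq_one_of_dvd_coprimes hj hqn dvd_rfl)
  -- `H` contains a Sylow `q`-subgroup of `G`
  obtain ⟨e, he⟩ := hidx
  obtain ⟨Q⟩ : Nonempty (Sylow q H) := inferInstance
  have hQG : IsPGroup q ((Q : Subgroup H).map H.subtype) := Q.2.map _
  have hQidx : ¬ q ∣ ((Q : Subgroup H).map H.subtype).index := by
    rw [index_map_subtype, hq.dvd_mul, not_or]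
    refine ⟨Q.not_dvd_index, ?_⟩
    rw [he]
    intro hd
    exact hqp ((Nat.prime_dvd_prime_iff_eq hq hp).mp (hq.dvd_of_dvd_pow hd))
  let Q' : Sylow q G := hQG.toSylow hQidx
  have hQ'H : (Q' : Subgroup G) ≤ H := map_subtype_le _
  have hxi : IsPGroup q (zpowers (x ^ i)) := IsPGroup.of_card (n := k) (by rw [Nat.card_zpowers, hi])
  obtain ⟨R, hR⟩ := hxi.exists_le_sylow
  obtain ⟨c, hc⟩ := MulAction.exists_smul_eq G R Q'
  have hcx : c * x ^ i * c⁻¹ ∈ H := by
    apply hQ'H
    rw [← hc]
    exact smul_mem_pointwise_smul _ (MulAut.conj c) (R : Subgroup G) (hR (mem_zpowers _))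
  -- replace x by its conjugate
  set y := c * x * c⁻¹ with hy
  have hyi : y ^ i ∈ H := by rw [hy, conj_pow]; exact hcx
  have hyij : y = y ^ i * y ^ j := by
    rw [hy, conj_pow, conj_pow]
    nth_rewrite 1 [hxij]; group
  have hyj : orderOf (y ^ j) = orderOf (x ^ j) := by rw [hy, conj_pow, orderOf_conj_eq]
  have hyi' : orderOf (y ^ i) = orderOf (x ^ i) := by rw [hy, conj_pow, orderOf_conj_eq]
  set C := centralizer ({y ^ i} : Set G) with hC
  have hHC : H ≤ C := by
    intro a ha
    rw [hC, mem_centralizer_singleton_iff]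
    exact hab a ha _ hyi
  have hyjC : y ^ j ∈ C := by
    rw [hC, mem_centralizer_singleton_iff, ← pow_add, ← pow_add, add_comm]
  have hlt : orderOf (⟨y ^ j, hyjC⟩ : C) < n := by
    rw [← orderOf_coe]
    show orderOf (y ^ j) < n
    rw [hyj]
    have h1 : orderOf (x ^ j) ∣ n := hx ▸ orderOf_pow_dvd j
    have hn0 : 0 < n := hx ▸ orderOf_pos x
    refine lt_of_le_of_ne (Nat.le_of_dvd hn0 h1) fun heq => ?_
    rw [heq] at hj
    exact hq.one_lt.ne' (Nat.eq_one_of_dvd_coprimes hj hqn dvd_rfl)
  have hcopj : (orderOf (⟨y ^ j, hyjC⟩ : C)).Coprime p := by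
    rw [← orderOf_coe]
    show (orderOf (y ^ j)).Coprime p
    rw [hyj]
    exact Nat.Coprime.coprime_dvd_left (hx ▸ orderOf_pow_dvd j) hn
  obtain ⟨d, hd⟩ := ih _ hlt C (H.subgroupOf C) (by
      intro a ha b hb
      apply Subtype.ext
      exact hab _ ha _ hb) (by
      have h1 : (H.subgroupOf C).index ∣ p ^ e := by
        rw [← he]; exact relIndex_dvd_index_of_le hHC
      obtain ⟨f, -, hf⟩ := (Nat.dvd_prime_pow hp).mp h1
      exact ⟨f, hf⟩) ⟨y ^ j, hyjC⟩ rfl hcopj
  rw [mem_subgroupOf] at hd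
  refine ⟨d * c, ?_⟩
  have e1 : (d : G) * c * x * (d * c)⁻¹ = d * y * (d : G)⁻¹ := by rw [hy]; group
  rw [e1, hyij]
  have e2 : (d : G) * (y ^ i * y ^ j) * (d : G)⁻¹ = (d * y ^ i * (d : G)⁻¹) * (d * y ^ j * (d : G)⁻¹) := by
    group
  rw [e2]
  apply H.mul_mem _ hd
  have h3 := mem_centralizer_singleton_iff.mp d.2
  rw [h3, mul_inv_cancel_right]
  exact hyi

end Cfsg.Agent.H67
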