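import Cfsg.Agent.H67.Elem

set_option autoImplicit false

/-!
# A finite group is not the union of the conjugates of a proper subgroup (helper67)
-/

namespace Cfsg.Agent.H67

open Subgroup

universe u

variable {G : Type u} [Group G]

theorem eq_top_of_conj_cover [Finite G] (H : Subgroup G) (h : ∀ g : G, ∃ c : G, c * g * c⁻¹ ∈ H) :
    H = ⊤ := by
  classical
  have := Fintype.ofFinite G
  have := Fintype.ofFinite (G ⧸ H)
  have : Unique (Quotient (MulAction.orbitRel G (G ⧸ H))) := by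
    have : Subsingleton (Quotient (MulAction.orbitRel G (G ⧸ H))) :=
      MulAction.pretransitive_iff_subsingleton_quotient G (G ⧸ H) |>.mp inferInstance
    exact ⟨⟨Quotient.mk _ ((1 : G) : G ⧸ H)⟩, fun _ => Subsingleton.elim _ _⟩
  have h1 := MulAction.sum_card_fixedBy_eq_card_orbits_mul_card_group G (G ⧸ H)
  rw [Fintype.card_unique, one_mul] at h1
  have h2 : ∀ g : G, 1 ≤ Fintype.card (MulAction.fixedBy (G ⧸ H) g) := by
    intro g
    obtain ⟨c, hc⟩ := h g
    apply Fintype.card_pos_iff.mpr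
    refine ⟨⟨((c⁻¹ : G) : G ⧸ H), ?_⟩⟩
    rw [MulAction.mem_fixedBy, MulAction.Quotient.smul_coe, smul_eq_mul, eq_comm, QuotientGroup.eq]
    simpa [mul_assoc] using hc
  have h3 : ∀ g : G, Fintype.card (MulAction.fixedBy (G ⧸ H) g) = 1 := by
    intro g
    by_contra hne
    have hlt : 1 < Fintype.card (MulAction.fixedBy (G ⧸ H) g) := lt_of_le_of_ne (h2 g) (Ne.symm hne)
    have : ∑ g : G, 1 < ∑ g : G, Fintype.card (MulAction.fixedBy (G ⧸ H) g) :=
      Finset.sum_lt_sum (fun i _ => h2 i) ⟨g, Finset.mem_univ g, hlt⟩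
    rw [h1] at this
    simp at this
  have h4 := h3 1
  have h5 : Nat.card (MulAction.fixedBy (G ⧸ H) (1 : G)) = Nat.card (G ⧸ H) := by
    rw [MulAction.fixedBy_one_eq_univ, Nat.card_univ]
  rw [Nat.card_eq_fintype_card, h4] at h5
  rw [← index_eq_one, index, ← h5]

/-- Sylow-type peeling: if `p` does not divide the class size of the `p'`-part ... every element of
`G` is conjugate into `P ⊔ C(P)`. -/
theorem sylow_sup_centralizer_eq_top [Finite G] {p : ℕ} [Fact p.Prime]
    (h : ∀ x : G, (orderOf x).Coprime p → ¬ p ∣ (ConjClasses.mk x).carrier.ncard) (P : Sylow p G) :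
    (P : Subgroup G) ⊔ centralizer ((P : Subgroup G) : Set G) = ⊤ := by
  have hp : p.Prime := Fact.out
  apply eq_top_of_conj_cover
  intro g
  obtain ⟨k, m, hm, hkm⟩ := Nat.exists_eq_pow_mul_and_not_dvd (orderOf_pos g).ne' p hp.one_lt.ne'
  have hcop : (p ^ k).Coprime m := Nat.Coprime.pow_left k ((Nat.Prime.coprime_iff_not_dvd hp).mpr hm)
  obtain ⟨i, j, hg, hi, hj⟩ := exists_decomp g (p ^ k) m hkm hcop
  have hcopj : (orderOf (g ^ j)).Coprime p := by
    rw [hj]; exact ((Nat.Prime.coprime_iff_not_dvd hp).mpr hm).symm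
  have h1 := h (g ^ j) hcopj
  rw [ncard_carrier_eq_index] at h1
  set C := centralizer ({g ^ j} : Set G) with hC
  -- some Sylow p-subgroup of C is Sylow in G
  have hgi : g ^ i ∈ C := by
    rw [hC, mem_centralizer_singleton_iff, ← pow_add, ← pow_add, add_comm]
  -- p-subgroup ⟨g^i⟩ of C, contained in a Sylow p-subgroup of C
  have hpi : IsPGroup p (zpowers (⟨g ^ i, hgi⟩ : C)) := by
    apply IsPGroup.of_card (n := k)
    rw [Nat.card_zpowers]
    rw [← hi, ← orderOf_coe]
  obtain ⟨Q, hQ⟩ := hpi.exists_le_sylow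
  -- Q as a subgroup of G is Sylow
  have hQG : IsPGroup p ((Q : Subgroup C).map C.subtype) := Q.2.map _
  have hcard : ¬ p ∣ ((Q : Subgroup C).map C.subtype).index := by
    rw [index_map_subtype, hp.dvd_mul, not_or]
    exact ⟨Q.not_dvd_index, h1⟩
  let Q' : Sylow p G := hQG.toSylow hcard
  obtain ⟨c, hc⟩ := MulAction.exists_smul_eq G Q' P
  have hmem : ∀ z ∈ (Q' : Subgroup G), c * z * c⁻¹ ∈ (P : Subgroup G) := by
    intro z hz
    rw [← hc]
    exact smul_mem_pointwise_smul z (MulAut.conj c) (Q' : Subgroup G) hz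
  refine ⟨c, ?_⟩
  have e : c * g * c⁻¹ = (c * g ^ i * c⁻¹) * (c * g ^ j * c⁻¹) := by
    nth_rewrite 1 [hg]; group
  rw [e]
  apply mul_mem
  · apply (le_sup_left : (P : Subgroup G) ≤ _)
    apply hmem
    show g ^ i ∈ (Q : Subgroup C).map C.subtype
    exact ⟨⟨g ^ i, hgi⟩, hQ (mem_zpowers _), rfl⟩
  · apply (le_sup_right : centralizer ((P : Subgroup G) : Set G) ≤ _)
    rw [mem_centralizer_iff]
    intro y hy
    have hy' : c⁻¹ * y * c ∈ (Q' : Subgroup G) := by
      have : y ∈ (c • Q' : Sylow p G) := by rw [hc]; exact hy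
      obtain ⟨z, hz, hzy⟩ := this
      have hzy' : c * z * c⁻¹ = y := hzy
      rw [← hzy', show c⁻¹ * (c * z * c⁻¹) * c = z by group]
      exact hz
    obtain ⟨q, -, hq⟩ := hy'
    have hq2 : (q : G) = c⁻¹ * y * c := hq
    have h3 := mem_centralizer_singleton_iff.mp q.2
    rw [hq2] at h3
    calc y * (c * g ^ j * c⁻¹) = c * (c⁻¹ * y * c * g ^ j) * c⁻¹ := by group
      _ = c * (g ^ j * (c⁻¹ * y * c)) * c⁻¹ := by rw [h3]
      _ = _ := by group

end Cfsg.Agent.H67
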