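import Cfsg.Agent.S0169
import Cfsg.Agent.S0173
import Cfsg.Agent.S1901
import Cfsg.Agent.H75.Tools
import Cfsg.Agent.Char.Clifford
import Cfsg.Agent.H76.PSolvable
import Cfsg.Agent.H67.ConjCover

set_option autoImplicit false

/-!
# Irreducible characters of degree prime to `p` in `p`-solvable groups (helper67)
-/

namespace Cfsg.Agent.H67.CopDeg

open Subgroup Cfsg Cfsg.Agent.CharBase Cfsg.Agent.Char Cfsg.Agent.H75

universe u

variable {G : Type u} [Group G] [Finite G] {p : ℕ} [hp : Fact p.Prime]

/-- all irreducible degrees are prime to `p` -/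
def X (p : ℕ) (G : Type u) [Group G] : Prop := ∀ χ : IrrCharacter G, ¬ p ∣ charDegree (χ : G → ℂ)

omit [Finite G] hp in
theorem X.quotient (h : X p G) (N : Subgroup G) [N.Normal] : X p (G ⧸ N) := by
  intro χ hdvd
  have h1 := isIrrCharacter_comp_surjective χ.2 (QuotientGroup.mk' N) (QuotientGroup.mk'_surjective N)
  apply h ⟨_, h1⟩
  simpa [charDegree] using hdvd

omit hp in
theorem X.inertia_deg (h : X p G) (N : Subgroup G) [N.Normal] (θ : IrrCharacter N) :
    ¬ p ∣ (inertia N (θ : N → ℂ)).index * deg θ := by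
  have := Fintype.ofFinite G
  have := Fintype.ofFinite N
  obtain ⟨χ, hχ, hne⟩ := exists_over N θ.2
  have h1 := clifford_degree N hχ θ.2 hne
  obtain ⟨m, hm⟩ := classInner_natCast (isCharacter_restrict (isCharacter_of_isIrr hχ) N)
    (isCharacter_of_isIrr θ.2)
  rw [hm, deg_spec θ] at h1
  have h2 : charDegree χ = m * ((inertia N (θ : N → ℂ)).index * deg θ) :=
    charDegree_eq (by rw [h1]; push_cast; rfl)
  intro hdvd
  exact h ⟨χ, hχ⟩ (by
    show p ∣ charDegree χ
    rw [h2]; exact Dvd.dvd.mul_left hdvd _)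

omit hp in
theorem X.normal (h : X p G) (N : Subgroup G) [N.Normal] : X p N := by
  intro θ hdvd
  rw [charDegree_eq_deg] at hdvd
  exact h.inertia_deg N θ (Dvd.dvd.mul_left hdvd _)

theorem comm_of_pGroup (hG : IsPGroup p G) (h : X p G) (a b : G) : a * b = b * a := by
  classical
  have := Fintype.ofFinite (IrrCharacter G)
  have hlin : ∀ χ : IrrCharacter G, (χ : G → ℂ) 1 = 1 := by
    intro χ
    obtain ⟨n, hn⟩ := hG.exists_card_eq
    have h1 := deg_dvd χ
    rw [hn] at h1
    obtain ⟨k, -, hk⟩ := (Nat.dvd_prime_pow hp.out).mp h1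
    rcases k with _ | k
    · rw [deg_spec, hk]; simp
    · exfalso
      apply h χ
      rw [charDegree_eq_deg, hk]
      exact dvd_pow_self p (Nat.succ_ne_zero k)
  have h1 := sum_degree_mul (G := G) (a * b * a⁻¹ * b⁻¹)
  by_contra hne
  have hne' : a * b * a⁻¹ * b⁻¹ ≠ 1 := by
    intro h2
    apply hne
    have h3 : a * b * (b * a)⁻¹ = 1 := by rw [← h2]; group
    exact mul_inv_eq_one.mp h3
  rw [if_neg hne'] at h1
  have h2 : ∀ χ : IrrCharacter G, (χ : G → ℂ) 1 * (χ : G → ℂ) (a * b * a⁻¹ * b⁻¹) = 1 := by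
    intro χ
    rw [linear_commutator (irr_isCharacter χ) (hlin χ), hlin χ, one_mul]
  simp only [h2, Finset.sum_const, Finset.card_univ, nsmul_eq_mul, mul_one, Nat.cast_eq_zero] at h1
  have : Nonempty (IrrCharacter G) := ⟨oneIrr G⟩
  exact Fintype.card_ne_zero h1

/-- in a group with a normal `p'`-subgroup of `p`-power index -/
theorem commute_of_normal (h : X p G) (N : Subgroup G) [N.Normal] (hN : ¬ p ∣ Nat.card N) {k : ℕ}
    (hk : N.index = p ^ k) {x : G} {j : ℕ} (hx : x ^ p ^ j = 1) {n : G} (hn : n ∈ N) :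
    x * n = n * x := by
  classical
  have := Fintype.ofFinite N
  -- every character of N is fixed
  have hfix : ∀ θ : IrrCharacter N, inertia N (θ : N → ℂ) = ⊤ := by
    intro θ
    have h1 := h.inertia_deg N θ
    have h2 : (inertia N (θ : N → ℂ)).index ∣ p ^ k := by
      rw [← hk]
      exact index_dvd_of_le (le_inertia N (irr_isClassFunction θ))
    obtain ⟨i, -, hi⟩ := (Nat.dvd_prime_pow hp.out).mp h2
    rcases i with _ | i
    · rw [pow_zero] at hi
      exact index_eq_one.mp hi
    · exfalso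
      apply h1
      rw [hi]
      exact Dvd.dvd.mul_right (dvd_pow_self p (Nat.succ_ne_zero i)) _
  let α : N ≃* N := MulAut.conjNormal x
  have hα : ∀ y : N, ((α y : N) : G) = x * y * x⁻¹ := fun y => MulAut.conjNormal_apply x y
  have hall : ∀ χ : IrrCharacter N, (χ : N → ℂ) ∘ α = (χ : N → ℂ) := by
    intro χ
    have h1 : x ∈ inertia N (χ : N → ℂ) := by rw [hfix]; exact mem_top x
    rw [mem_inertia_iff] at h1
    funext y
    have h2 := h1 y
    rw [Function.comp_apply, ← h2]
    congr 1
  have hc := S0173.result (G := N) α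
  have hc1 : Nat.card {χ : IrrCharacter N // (χ : N → ℂ) ∘ α = (χ : N → ℂ)} = Nat.card (IrrCharacter N) :=
    Nat.card_congr (Equiv.subtypeUnivEquiv hall)
  have hc2 := S0173.result (G := N) (MulEquiv.refl N)
  have hc3 : Nat.card {χ : IrrCharacter N // (χ : N → ℂ) ∘ (MulEquiv.refl N) = (χ : N → ℂ)} =
      Nat.card (IrrCharacter N) := Nat.card_congr (Equiv.subtypeUnivEquiv (fun _ => rfl))
  have hc4 : Nat.card {C : ConjClasses N // ConjClasses.map (MulEquiv.refl N).toMonoidHom C = C} =
      Nat.card (ConjClasses N) := by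
    apply Nat.card_congr (Equiv.subtypeUnivEquiv ?_)
    intro C
    induction C using Quotient.inductionOn with
    | h y => rfl
  have hc5 : Nat.card {C : ConjClasses N // ConjClasses.map α.toMonoidHom C = C} = Nat.card (ConjClasses N) := by
    rw [hc, hc1, ← hc3, ← hc2, hc4]
  have hfixC : ∀ C : ConjClasses N, ConjClasses.map α.toMonoidHom C = C := by
    have : Fintype (ConjClasses N) := Fintype.ofFinite _
    by_contra hcon
    push Not at hcon
    obtain ⟨C, hC⟩ := hcon
    have := Finite.card_subtype_lt (p := fun C : ConjClasses N => ConjClasses.map α.toMonoidHom C = C) hC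
    omega
  -- powers of α
  have hαp : (α : MulAut N) ^ p ^ j = 1 := by
    show (MulAut.conjNormal x) ^ p ^ j = 1
    rw [← map_pow, hx, map_one]
  -- the fixed points
  let H : Subgroup N := (centralizer ({x} : Set G)).subgroupOf N
  have hH : H = ⊤ := by
    apply eq_top_of_conj_cover
    intro y
    let C := ConjClasses.mk y
    have hiff : ∀ z : N, α z ∈ C.carrier ↔ z ∈ C.carrier := by
      intro z
      rw [ConjClasses.mem_carrier_iff_mk_eq, ConjClasses.mem_carrier_iff_mk_eq]
      have h1 : ConjClasses.mk (α z) = ConjClasses.mk z := hfixC (ConjClasses.mk z)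
      rw [h1]
    let σ : Equiv.Perm {z : N // z ∈ C.carrier} := Equiv.Perm.subtypePerm (α.toEquiv : Equiv.Perm N) hiff
    have hσ : σ ^ p ^ j = 1 := by
      rw [Equiv.Perm.subtypePerm_pow]
      apply Equiv.ext
      intro z
      apply Subtype.ext
      have h1 : ∀ (m : ℕ) (w : N), ((α.toEquiv : Equiv.Perm N) ^ m) w = ((α : MulAut N) ^ m) w := by
        intro m
        induction m with
        | zero => intro w; rfl
        | succ m ih => intro w; rw [pow_succ, pow_succ, Equiv.Perm.mul_apply, MulAut.mul_apply, ih]; rfl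
      show ((α.toEquiv : Equiv.Perm N) ^ p ^ j) z.1 = z.1
      rw [h1, hαp]
      rfl
    have hcard : ¬ p ∣ Fintype.card {z : N // z ∈ C.carrier} := by
      intro hdvd
      apply hN
      refine hdvd.trans ?_
      have : Fintype.card {z : N // z ∈ C.carrier} = (centralizer ({y} : Set N)).index := by
        rw [← Nat.card_eq_fintype_card]
        rw [← ncard_carrier_eq_index]
        rfl
      rw [this]
      exact index_dvd_card _
    obtain ⟨z, hz⟩ := Equiv.Perm.exists_fixed_point_of_prime hcard hσ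
    have hz1 : α z.1 = z.1 := congrArg Subtype.val hz
    have hz2 : IsConj y z.1 := by
      have := z.2
      rw [ConjClasses.mem_carrier_iff_mk_eq] at this
      exact (ConjClasses.mk_eq_mk_iff_isConj.mp this).symm
    obtain ⟨c, hc⟩ := isConj_iff.mp hz2
    refine ⟨c, ?_⟩
    rw [hc]
    show (z.1 : G) ∈ centralizer ({x} : Set G)
    rw [mem_centralizer_singleton_iff]
    have h3 := hα z.1
    rw [hz1] at h3
    calc (z.1 : G) * x = (x * (z.1 : G) * x⁻¹) * x := by rw [← h3]
      _ = x * z.1 := by group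
  have h1 : (⟨n, hn⟩ : N) ∈ H := by rw [hH]; exact mem_top _
  exact (mem_centralizer_singleton_iff.mp h1).symm

theorem main_aux (m : ℕ) : ∀ (G : Type u) [Group G] [Finite G], Nat.card G = m → IsPSolvable p G → X p G →
    ∀ P : Sylow p G, (P : Subgroup G).Normal ∧ ∀ a ∈ P, ∀ b ∈ P, a * b = b * a := by
  induction m using Nat.strong_induction_on with
  | _ m ih =>
  intro G _ _ hcard hsolv hX P
  rcases subsingleton_or_nontrivial G with hs | hnt
  · refine ⟨?_, fun a _ b _ => Subsingleton.elim _ _⟩
    have : (P : Subgroup G) = ⊥ := Subsingleton.elim _ _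
    rw [this]; infer_instance
  have hlt : ∀ N : Subgroup G, N.Normal → N ≠ ⊥ → Nat.card (G ⧸ N) < m := by
    intro N hN hne
    rw [← hcard, N.card_eq_card_quotient_mul_card_subgroup]
    have h1 : 1 < Nat.card N := (one_lt_card_iff_ne_bot N).mpr hne
    have h2 : 0 < Nat.card (G ⧸ N) := Nat.card_pos
    nlinarith
  by_cases hN' : pPrimeCore p G = ⊥
  · have hN : pCore p G ≠ ⊥ := (S1901.exists_core_ne_bot hsolv).resolve_right (not_not.mpr hN')
    set N := pCore p G with hNdef
    have hNP : N ≤ P := Solv.pCore_le_sylow P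
    let f := QuotientGroup.mk' N
    have hf : Function.Surjective f := QuotientGroup.mk'_surjective N
    have h1 := (ih _ (hlt N inferInstance hN) (G ⧸ N) rfl (H76.isPSolvable_quotient N hsolv) (hX.quotient N)
      (P.mapSurjective hf)).1
    have hPn : (P : Subgroup G).Normal := by
      have h2 : (P : Subgroup G) = ((P : Subgroup G).map f).comap f := by
        rw [comap_map_eq, QuotientGroup.ker_mk', sup_eq_left.mpr hNP]
      rw [h2]
      have : ((P : Subgroup G).map f).Normal := h1
      infer_instance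
    refine ⟨hPn, ?_⟩
    intro a ha b hb
    exact congrArg Subtype.val (comm_of_pGroup P.2 (hX.normal (P : Subgroup G)) (⟨a, ha⟩ : (P : Subgroup G)) ⟨b, hb⟩)
  · set N := pPrimeCore p G with hNdef
    have hNc : (Nat.card N).Coprime p := Solv.pPrimeCore_card_coprime p
    have hNp : ¬ p ∣ Nat.card N := (Nat.Prime.coprime_iff_not_dvd hp.out).mp hNc.symm
    let f := QuotientGroup.mk' N
    have hf : Function.Surjective f := QuotientGroup.mk'_surjective N
    obtain ⟨h1, h2⟩ := ih _ (hlt N inferInstance hN') (G ⧸ N) rfl (H76.isPSolvable_quotient N hsolv) (hX.quotient N)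
      (P.mapSurjective hf)
    have hPN : (P : Subgroup G) ⊓ N = ⊥ := by
      obtain ⟨j, hj⟩ := P.2.exists_card_eq
      apply inf_eq_bot_of_coprime
      rw [hj]
      exact Nat.Coprime.pow_left j hNc.symm
    have hab : ∀ a ∈ P, ∀ b ∈ P, a * b = b * a := by
      intro a ha b hb
      have h3 := h2 (f a) ⟨a, ha, rfl⟩ (f b) ⟨b, hb, rfl⟩
      have h4 : a * b * (b * a)⁻¹ ∈ N := by
        rw [← QuotientGroup.eq_one_iff]
        show f (a * b * (b * a)⁻¹) = 1
        rw [map_mul, map_inv, map_mul, map_mul, h3, mul_inv_cancel]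
      have ha' : a ∈ (P : Subgroup G) := ha
      have hb' : b ∈ (P : Subgroup G) := hb
      have h5 : a * b * (b * a)⁻¹ ∈ (P : Subgroup G) ⊓ N :=
        mem_inf.mpr ⟨mul_mem (mul_mem ha' hb') (inv_mem (mul_mem hb' ha')), h4⟩
      rw [hPN, mem_bot] at h5
      exact mul_inv_eq_one.mp h5
    refine ⟨?_, hab⟩
    -- the normal subgroup K = P N
    set K := ((P : Subgroup G).map f).comap f with hK
    have hKn : K.Normal := by
      have : ((P : Subgroup G).map f).Normal := h1
      rw [hK]; infer_instance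
    have hKeq : K = (P : Subgroup G) ⊔ N := by
      rw [hK, comap_map_eq, QuotientGroup.ker_mk']
    have hNK : N ≤ K := by rw [hKeq]; exact le_sup_right
    have hPK : (P : Subgroup G) ≤ K := by rw [hKeq]; exact le_sup_left
    obtain ⟨j, hj⟩ := P.2.exists_card_eq
    have hidx : ∃ k, (N.subgroupOf K).index = p ^ k := by
      have h3 : N.relIndex K ∣ p ^ j := by
        rw [hKeq, relIndex_sup_right, ← hj]
        exact relIndex_dvd_card N (P : Subgroup G)
      obtain ⟨k, -, hk⟩ := (Nat.dvd_prime_pow hp.out).mp h3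
      exact ⟨k, hk⟩
    obtain ⟨k, hk⟩ := hidx
    have hNn : (N.subgroupOf K).Normal := normal_subgroupOf
    have hNp' : ¬ p ∣ Nat.card (N.subgroupOf K) := by
      rw [Nat.card_congr (subgroupOfEquivOfLe hNK).toEquiv]
      exact hNp
    have hcomm : ∀ x ∈ P, ∀ n ∈ N, x * n = n * x := by
      intro x hx n hn
      obtain ⟨i, hi⟩ := P.2 ⟨x, hx⟩
      have hi' : x ^ p ^ i = 1 := by simpa using congrArg Subtype.val hi
      have h3 := commute_of_normal (hX.normal K) (N.subgroupOf K) hNp' hk (x := ⟨x, hPK hx⟩) (j := i)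
        (Subtype.ext (by simpa using hi')) (n := ⟨n, hNK hn⟩) (by rw [mem_subgroupOf]; exact hn)
      exact congrArg Subtype.val h3
    constructor
    intro x hx g
    have h3 : g * x * g⁻¹ ∈ K := hKn.conj_mem x (hPK hx) g
    rw [hKeq, ← SetLike.mem_coe, mul_normal, Set.mem_mul] at h3
    obtain ⟨y, hy, n, hn, hyn⟩ := h3
    obtain ⟨i, hi⟩ := P.2 ⟨x, hx⟩
    have hi' : x ^ p ^ i = 1 := by simpa using congrArg Subtype.val hi
    obtain ⟨i', hi''⟩ := P.2 ⟨y, hy⟩
    have hy' : y ^ p ^ i' = 1 := by simpa using congrArg Subtype.val hi''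
    have h4 : (y * n) ^ p ^ (i + i') = 1 := by
      rw [hyn, ← MulAut.conj_apply, ← map_pow, pow_add, pow_mul, hi', one_pow, map_one]
    have hc : Commute y n := hcomm y hy n hn
    have h5 : n ^ p ^ (i + i') = 1 := by
      rw [hc.mul_pow] at h4
      have : y ^ p ^ (i + i') = 1 := by rw [add_comm, pow_add, pow_mul, hy', one_pow]
      rwa [this, one_mul] at h4
    have h6 : n = 1 := by
      rw [← orderOf_eq_one_iff, ← Nat.dvd_one]
      have h7 : (Nat.card N).Coprime (p ^ (i + i')) := Nat.Coprime.pow_right _ hNc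
      rw [← h7]
      refine Nat.dvd_gcd ?_ (orderOf_dvd_of_pow_eq_one h5)
      have := orderOf_dvd_natCard (⟨n, hn⟩ : N)
      rwa [Subgroup.orderOf_mk] at this
    rw [← hyn, h6, mul_one]
    exact hy

end Cfsg.Agent.H67.CopDeg
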