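import Mathlib
import Cfsg.Prelude.Def_RootSubgroups

set_option autoImplicit false

/-!
The solvable radical of a finite group: normal, solvable, characteristic; the radical quotient has
trivial radical.
-/

namespace Cfsg.Agent.H67

open Subgroup Cfsg

universe u v

theorem isSolvable_sup_of_normal {G : Type u} [Group G] (H K : Subgroup G) [H.Normal]
    (hH : Group.IsSolvable H) (hK : Group.IsSolvable K) : Group.IsSolvable (H ⊔ K : Subgroup G) := by
  have h1 : Group.IsSolvable ((H ⊔ K : Subgroup G) ⧸ H.subgroupOf (H ⊔ K)) := by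
    let f : K →* (H ⊔ K : Subgroup G) ⧸ H.subgroupOf (H ⊔ K) :=
      (QuotientGroup.mk' _).comp (inclusion le_sup_right)
    have hf : Function.Surjective f := by
      intro y
      obtain ⟨⟨g, hg⟩, rfl⟩ := QuotientGroup.mk'_surjective _ y
      obtain ⟨h, hh, k, hk, rfl⟩ := Subgroup.mem_sup_of_normal_left.mp hg
      refine ⟨⟨k, hk⟩, ?_⟩
      change QuotientGroup.mk' _ _ = QuotientGroup.mk' _ _
      rw [QuotientGroup.mk'_apply, QuotientGroup.mk'_apply, eq_comm, QuotientGroup.eq]
      rw [mem_subgroupOf]
      have e : ((⟨h * k, hg⟩ : (H ⊔ K : Subgroup G))⁻¹ * (inclusion le_sup_right ⟨k, hk⟩ : (H ⊔ K : Subgroup G)) : (H ⊔ K : Subgroup G)) =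
        (k⁻¹ * h⁻¹ * k : G) := by
          simp [mul_assoc]
      rw [e]
      have := ‹H.Normal›.conj_mem h⁻¹ (inv_mem hh) k⁻¹
      simpa using this
    exact Group.isSolvable_of_surjective hf
  have h2 : Group.IsSolvable (H.subgroupOf (H ⊔ K)) :=
    Group.isSolvable_of_surjective (f := (subgroupOfEquivOfLe (le_sup_left : H ≤ H ⊔ K)).symm.toMonoidHom)
      (subgroupOfEquivOfLe (le_sup_left : H ≤ H ⊔ K)).symm.surjective
  exact Group.isSolvable_of_ker_le_range (f := (H.subgroupOf (H ⊔ K)).subtype)
    (g := QuotientGroup.mk' (H.subgroupOf (H ⊔ K))) (by simp)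

theorem solvableRadical_normal (G : Type u) [Group G] : (solvableRadical G).Normal := by
  constructor
  intro x hx g
  rw [← MulAut.conj_apply]
  change x ∈ (solvableRadical G).comap (MulAut.conj g).toMonoidHom
  refine (sSup_le ?_ : solvableRadical G ≤ _) hx
  rintro N ⟨hN, hNs⟩ y hy
  exact (le_sSup (show N ∈ {N : Subgroup G | N.Normal ∧ Group.IsSolvable N} from ⟨hN, hNs⟩))
    (hN.conj_mem y hy g)

theorem le_solvableRadical {G : Type u} [Group G] {N : Subgroup G} (hN : N.Normal)
    (hs : Group.IsSolvable N) : N ≤ solvableRadical G :=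
  le_sSup ⟨hN, hs⟩

theorem solvableRadical_isSolvable (G : Type u) [Group G] [Finite G] :
    Group.IsSolvable (solvableRadical G) := by
  obtain ⟨R, hR⟩ := (Set.toFinite {N : Subgroup G | N.Normal ∧ Group.IsSolvable N}).exists_maximal
    ⟨⊥, inferInstance, inferInstance⟩
  have hRn : R.Normal := hR.1.1
  have hRs : Group.IsSolvable R := hR.1.2
  have h1 : solvableRadical G = R := by
    apply le_antisymm
    · refine sSup_le ?_
      rintro N ⟨hN, hNs⟩
      have h2 : R ⊔ N ∈ {N : Subgroup G | N.Normal ∧ Group.IsSolvable N} :=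
        ⟨inferInstance, isSolvable_sup_of_normal R N hRs hNs⟩
      exact le_sup_right.trans (hR.2 h2 le_sup_left)
    · exact le_solvableRadical hRn hRs
  rw [h1]
  exact hRs

theorem solvableRadical_characteristic (G : Type u) [Group G] : (solvableRadical G).Characteristic := by
  rw [Subgroup.characteristic_iff_le_comap]
  intro φ
  refine sSup_le ?_
  rintro N ⟨hN, hNs⟩
  rw [← Subgroup.map_le_iff_le_comap]
  refine le_solvableRadical (hN.map _ φ.surjective) ?_
  exact Group.isSolvable_of_surjective (f := (φ.toMonoidHom.subgroupMap N)) (φ.toMonoidHom.subgroupMap_surjective N)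

theorem isSolvable_normalClosure_of_mem {G : Type u} [Group G] [Finite G] {x : G}
    (hx : x ∈ solvableRadical G) : Group.IsSolvable (normalClosure ({x} : Set G)) := by
  haveI := solvableRadical_normal G
  haveI := solvableRadical_isSolvable G
  have h1 : normalClosure ({x} : Set G) ≤ solvableRadical G :=
    normalClosure_le_normal (Set.singleton_subset_iff.mpr hx)
  exact Group.isSolvable_of_isSolvable_injective (inclusion_injective h1)

theorem mem_solvableRadical_of_isSolvable_normalClosure {G : Type u} [Group G] {x : G}
    (hx : Group.IsSolvable (normalClosure ({x} : Set G))) : x ∈ solvableRadical G :=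
  le_solvableRadical normalClosure_normal hx (subset_normalClosure rfl)

/-- The radical of a normal subgroup is contained in the radical. -/
theorem map_solvableRadical_le {G : Type u} [Group G] [Finite G] (K : Subgroup G) [K.Normal] :
    (solvableRadical K).map K.subtype ≤ solvableRadical G := by
  haveI := solvableRadical_characteristic K
  haveI := solvableRadical_isSolvable K
  apply le_solvableRadical
  · infer_instance
  · exact Group.isSolvable_of_surjective (f := (K.subtype.subgroupMap (solvableRadical K)))
      (K.subtype.subgroupMap_surjective _)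

end Cfsg.Agent.H67
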