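import Mathlib
import Cfsg.Agent.Blk.Orth
import Cfsg.Agent.H76.Congr
import Cfsg.Agent.Char.BurnsideClass
import Cfsg.Agent.Char.Linear
import Cfsg.Agent.H79.LinChar
import Cfsg.Agent.H67.Basic
import Cfsg.Agent.H67.Radical
import Cfsg.Agent.H67.PRegular

set_option autoImplicit false

/-!
Kazarin's theorem: if the class of `x` has prime power order, then the normal closure of `x` is solvable.
-/

namespace Cfsg.Agent.H67

open Subgroup Cfsg Cfsg.Agent.Blk Cfsg.Agent.CharBase Module
open scoped ComplexConjugate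

universe u

/-- The linear characters in the principal block, as a subgroup. -/
def linPrincipal (G : Type u) [Group G] [Finite G] (M : Ideal AlgInt) [M.IsPrime] :
    Subgroup (G →* ℂˣ) where
  carrier := {l | ∀ g : G, MemLocalIdeal M (((centralizer ({g} : Set G)).index : ℂ) * (1 - ((l g : ℂˣ) : ℂ)))}
  one_mem' := by
    intro g
    simpa using mli_zero
  mul_mem' := by
    intro a b ha hb g
    have h1 : (((centralizer ({g} : Set G)).index : ℂ) * (1 - (((a * b) g : ℂˣ) : ℂ))) =
        (((centralizer ({g} : Set G)).index : ℂ) * (1 - ((a g : ℂˣ) : ℂ))) +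
        ((a g : ℂˣ) : ℂ) * (((centralizer ({g} : Set G)).index : ℂ) * (1 - ((b g : ℂˣ) : ℂ))) := by
      rw [MonoidHom.mul_apply, Units.val_mul]; ring
    rw [h1]
    have h2 : IsIntegral ℤ ((a g : ℂˣ) : ℂ) := by
      refine IsIntegral.of_pow (n := Nat.card G) Nat.card_pos ?_
      rw [← Units.val_pow_eq_pow_val, ← map_pow, pow_card_eq_one', map_one, Units.val_one]
      exact isIntegral_one
    exact mli_add (ha g) (mli_mul_left (mlr_of_isIntegral h2) (hb g))
  inv_mem' := by
    intro a ha g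
    have h1 : (((centralizer ({g} : Set G)).index : ℂ) * (1 - (((a⁻¹) g : ℂˣ) : ℂ))) =
        - (((a⁻¹) g : ℂˣ) : ℂ) * (((centralizer ({g} : Set G)).index : ℂ) * (1 - ((a g : ℂˣ) : ℂ))) := by
      rw [MonoidHom.inv_apply, Units.val_inv_eq_inv_val]
      have : ((a g : ℂˣ) : ℂ) ≠ 0 := (a g).ne_zero
      field_simp
      ring
    rw [h1]
    have h2 : IsIntegral ℤ (((a⁻¹) g : ℂˣ) : ℂ) := by
      refine IsIntegral.of_pow (n := Nat.card G) Nat.card_pos ?_
      rw [← Units.val_pow_eq_pow_val, ← map_pow, pow_card_eq_one', map_one, Units.val_one]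
      exact isIntegral_one
    exact mli_mul_left (mlr_neg (mlr_of_isIntegral h2)) (ha g)

theorem mem_linPrincipal {G : Type u} [Group G] [Finite G] {M : Ideal AlgInt} [M.IsPrime] {l : G →* ℂˣ} :
    l ∈ linPrincipal G M ↔
      ∀ g : G, MemLocalIdeal M (((centralizer ({g} : Set G)).index : ℂ) * (1 - ((l g : ℂˣ) : ℂ))) := Iff.rfl

theorem mem_principalBlock_iff_linear {G : Type u} [Group G] [Finite G] {M : Ideal AlgInt} [M.IsPrime]
    (χ : IrrCharacter G) (h1 : (χ : G → ℂ) 1 = 1) :
    χ ∈ principalBlock M G ↔ ∀ g : G, MemLocalIdeal M (((centralizer ({g} : Set G)).index : ℂ) *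
      (1 - (χ : G → ℂ) g)) := by
  change (∀ g : G, MemLocalIdeal M (centralChar (fun _ => 1) g - centralChar (χ : G → ℂ) g)) ↔ _
  refine forall_congr' fun g => ?_
  unfold centralChar
  rw [h1]
  have : (((centralizer ({g} : Set G)).index : ℂ) * (fun _ => (1:ℂ)) g / (fun _ => (1:ℂ)) (1 : G)) -
      (((centralizer ({g} : Set G)).index : ℂ) * (χ : G → ℂ) g / 1) =
      ((centralizer ({g} : Set G)).index : ℂ) * (1 - (χ : G → ℂ) g) := by
    simp only [mul_one, div_one]; ring
  rw [← this]

/-- the set of linear characters in the principal block has the size of `linPrincipal`. -/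
theorem card_linear_principal {G : Type u} [Group G] [Finite G] {M : Ideal AlgInt} [M.IsPrime] :
    Nat.card (linPrincipal G M) =
      Nat.card {χ : IrrCharacter G // χ ∈ principalBlock M G ∧ (χ : G → ℂ) 1 = 1} := by
  refine Nat.card_congr (Equiv.ofBijective (fun l => ⟨⟨(Units.coeHom ℂ).comp l.1,
    Char.isIrrCharacter_of_hom _⟩, ?_, ?_⟩) ⟨?_, ?_⟩)
  · rw [mem_principalBlock_iff_linear]
    · intro g
      exact l.2 g
    · simp
  · simp
  · intro l l' h
    apply Subtype.ext
    ext g
    exact congrFun (congrArg (fun t => (t.1.1 : G → ℂ)) h) g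
  · rintro ⟨χ, hχB, hχ1⟩
    have hc : IsCharacter G (χ : G → ℂ) := irr_isCharacter χ
    let l : G →* ℂˣ := (Char.linHom hc hχ1).toHomUnits
    have hl : ∀ g, ((l g : ℂˣ) : ℂ) = (χ : G → ℂ) g := fun g => rfl
    refine ⟨⟨l, ?_⟩, ?_⟩
    · intro g
      rw [hl]
      exact (mem_principalBlock_iff_linear χ hχ1).mp hχB g
    · apply Subtype.ext
      apply Subtype.ext
      funext g
      rfl

/-- If `x` has a class of `p`-power size and generates `G` as normal closure, the commutator subgroup of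
`G` is a `p`-group. -/
theorem not_dvd_card_commutator {G : Type u} [Group G] [Finite G] {p k : ℕ} (hp : p.Prime) (x : G)
    (hx : (centralizer ({x} : Set G)).index = p ^ k) (htop : normalClosure ({x} : Set G) = ⊤)
    {q : ℕ} (hq : q.Prime) (hqp : q ≠ p) : ¬ q ∣ Nat.card (commutator G) := by
  classical
  intro hdvd
  haveI : Fact q.Prime := ⟨hq⟩
  haveI : Fact p.Prime := ⟨hp⟩
  haveI := Fintype.ofFinite G
  haveI := Fintype.ofFinite (IrrCharacter G)
  obtain ⟨y, hy⟩ := exists_prime_orderOf_dvd_card' (G := commutator G) q hdvd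
  obtain ⟨M, hM⟩ := H76.exists_isPModular hq
  haveI hMp : M.IsPrime := hM.2.1.isPrime
  have hpow : ∀ j : ℕ, ¬ MemLocalIdeal M ((p ^ j : ℕ) : ℂ) := by
    intro j
    rw [mli_natCast_iff hM]
    intro h
    exact hqp ((Nat.prime_dvd_prime_iff_eq hq hp).mp (hq.dvd_of_dvd_pow h))
  set B := principalBlock M G with hB
  -- nonlinear characters in the principal block
  have h1 : ∀ χ : IrrCharacter G, χ ∈ B → (χ : G → ℂ) 1 ≠ 1 →
      ∃ z : ℂ, IsIntegral ℤ z ∧ (χ : G → ℂ) 1 = p * z := by
    intro χ hχ hχ1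
    obtain ⟨n, ρ, hρ, hρχ⟩ := χ.2
    have hdeg : (χ : G → ℂ) 1 = (n : ℂ) := by
      rw [← hρχ, Representation.char_one]; simp
    by_cases hpn : p ∣ n
    · obtain ⟨m, rfl⟩ := hpn
      exact ⟨m, isIntegral_int_natCast m, by rw [hdeg]; push_cast; ring⟩
    · exfalso
      have hcop : Nat.Coprime (finrank ℂ (Fin n → ℂ))
          (Subgroup.centralizer ({x} : Set G)).index := by
        rw [hx, Module.finrank_fin_fun]
        exact ((Nat.Prime.coprime_iff_not_dvd hp).mpr hpn).symm.pow_right k
      rcases Char.character_eq_zero_or_norm_eq ρ x hcop with h0 | h0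
      · have h2 := hχ x
        have h3 : centralChar (fun _ : G => (1 : ℂ)) x - centralChar (χ : G → ℂ) x = ((p ^ k : ℕ) : ℂ) := by
          unfold centralChar
          rw [hx, ← hρχ, h0]
          simp
        rw [h3] at h2
        exact hpow k h2
      · have h2 := (Char.rep_norm_character_eq_iff ρ x).mp h0
        have h3 : x ∈ Char.scalarSubgroup ρ := h2
        haveI := Char.scalarSubgroup_normal ρ
        have h4 : normalClosure ({x} : Set G) ≤ Char.scalarSubgroup ρ :=
          normalClosure_le_normal (Set.singleton_subset_iff.mpr h3)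
        rw [htop] at h4
        have h5 := Char.finrank_eq_one_of_scalar ρ (fun g => h4 (mem_top g))
        apply hχ1
        rw [hdeg]
        rw [Module.finrank_fin_fun] at h5
        rw [h5]; simp
  -- weak block orthogonality
  have hBB : IsPBlock M B := ⟨oneIrr G, rfl⟩
  have h2 := weak_block_orthogonality hM hBB (x := (1 : G)) (y := (y : G))
    (by rw [orderOf_one]; exact fun h => hq.one_lt.ne' (Nat.dvd_one.mp h))
    (by rw [orderOf_coe, hy])
  have h3 : ∑ᶠ χ ∈ B, (χ : G → ℂ) 1 * conj ((χ : G → ℂ) (y : G)) =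
      ∑ χ ∈ Finset.univ.filter (· ∈ B), (χ : G → ℂ) 1 * conj ((χ : G → ℂ) (y : G)) := by
    rw [← finsum_mem_coe_finset]
    simp
  rw [h3, ← Finset.sum_filter_add_sum_filter_not _ (fun χ : IrrCharacter G => (χ : G → ℂ) 1 = 1),
    Finset.filter_filter, Finset.filter_filter] at h2
  have hlin : ∑ χ ∈ Finset.univ.filter (fun χ : IrrCharacter G => χ ∈ B ∧ (χ : G → ℂ) 1 = 1),
      (χ : G → ℂ) 1 * conj ((χ : G → ℂ) (y : G)) = (Nat.card (linPrincipal G M) : ℂ) := by
    rw [Finset.sum_congr rfl (g := fun _ => (1 : ℂ))]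
    · rw [Finset.sum_const, card_linear_principal, Nat.card_eq_fintype_card, Fintype.card_subtype]
      simp [hB]
    · intro χ hχ
      rw [Finset.mem_filter] at hχ
      rw [hχ.2.2, H79.linear_of_mem_commutator (irr_isCharacter χ) hχ.2.2 y.2]
      simp
  choose! z hz hz' using h1
  have hnl : ∑ χ ∈ Finset.univ.filter (fun χ : IrrCharacter G => χ ∈ B ∧ ¬ (χ : G → ℂ) 1 = 1),
      (χ : G → ℂ) 1 * conj ((χ : G → ℂ) (y : G)) =
      p * ∑ χ ∈ Finset.univ.filter (fun χ : IrrCharacter G => χ ∈ B ∧ ¬ (χ : G → ℂ) 1 = 1),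
        z χ * conj ((χ : G → ℂ) (y : G)) := by
    rw [Finset.mul_sum]
    refine Finset.sum_congr rfl (fun χ hχ => ?_)
    rw [Finset.mem_filter] at hχ
    rw [hz' χ hχ.2.1 hχ.2.2]
    ring
  rw [hlin, hnl] at h2
  set w := ∑ χ ∈ Finset.univ.filter (fun χ : IrrCharacter G => χ ∈ B ∧ ¬ (χ : G → ℂ) 1 = 1),
        z χ * conj ((χ : G → ℂ) (y : G)) with hw
  have hwi : IsIntegral ℤ w := by
    refine IsIntegral.sum _ (fun χ hχ => ?_)
    rw [Finset.mem_filter] at hχ
    refine (hz χ hχ.2.1 hχ.2.2).mul ?_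
    rw [← irr_inv]
    exact irr_isIntegral χ _
  have hdvd2 : p ∣ Nat.card (linPrincipal G M) := by
    apply Char.dvd_of_isIntegral_div hp.ne_zero
    have hp0 : (p : ℂ) ≠ 0 := by exact_mod_cast hp.ne_zero
    have : (Nat.card (linPrincipal G M) : ℂ) / (p : ℂ) = -w := by
      field_simp
      linear_combination h2
    rw [this]
    exact hwi.neg
  obtain ⟨l, hl⟩ := exists_prime_orderOf_dvd_card' (G := linPrincipal G M) p hdvd2
  have hl1 : (l : G →* ℂˣ) ≠ 1 := by
    intro h
    have : l = 1 := Subtype.ext h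
    rw [this, orderOf_one] at hl
    exact hp.one_lt.ne hl
  set ζ : ℂ := (((l : G →* ℂˣ) x : ℂˣ) : ℂ) with hζ
  have hζp : ζ ^ p = 1 := by
    have h4 : (l : G →* ℂˣ) ^ p = 1 := by
      rw [← hl, ← Subgroup.coe_pow, pow_orderOf_eq_one]; rfl
    have h5 := DFunLike.congr_fun h4 x
    rw [MonoidHom.pow_apply, MonoidHom.one_apply] at h5
    rw [hζ, ← Units.val_pow_eq_pow_val, h5, Units.val_one]
  have hζ1 : ζ ≠ 1 := by
    intro h
    apply hl1
    have h6 : x ∈ (l : G →* ℂˣ).ker := by
      rw [MonoidHom.mem_ker]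
      exact Units.ext h
    have h7 : normalClosure ({x} : Set G) ≤ (l : G →* ℂˣ).ker :=
      normalClosure_le_normal (Set.singleton_subset_iff.mpr h6)
    rw [htop] at h7
    ext g
    have := h7 (mem_top g)
    rw [MonoidHom.mem_ker] at this
    rw [this]; rfl
  have hζi : IsIntegral ℤ ζ := by
    refine IsIntegral.of_pow (n := p) hp.pos ?_
    rw [hζp]
    exact isIntegral_one
  have h8 := (mem_linPrincipal.mp l.2) x
  rw [hx] at h8
  -- `p = (1 - ζ) * u`
  have h9 : ∑ i ∈ Finset.range p, ζ ^ i = 0 := by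
    have := geom_sum_mul ζ p
    rw [hζp, sub_self] at this
    exact (mul_eq_zero.mp this).resolve_right (sub_ne_zero.mpr hζ1)
  have h10 : (p : ℂ) = (1 - ζ) * ∑ i ∈ Finset.range p, ∑ j ∈ Finset.range i, ζ ^ j := by
    rw [Finset.mul_sum]
    have h11 : ∀ i ∈ Finset.range p, (1 - ζ) * ∑ j ∈ Finset.range i, ζ ^ j = 1 - ζ ^ i := by
      intro i _
      exact mul_neg_geom_sum ζ i
    rw [Finset.sum_congr rfl h11, Finset.sum_sub_distrib, h9]
    simp
  have h12 : IsIntegral ℤ (∑ i ∈ Finset.range p, ∑ j ∈ Finset.range i, ζ ^ j) :=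
    IsIntegral.sum _ (fun i _ => IsIntegral.sum _ (fun j _ => hζi.pow j))
  apply hpow (k + 1)
  have h13 : ((p ^ (k + 1) : ℕ) : ℂ) = (((p ^ k : ℕ) : ℂ) * (1 - ζ)) *
      ∑ i ∈ Finset.range p, ∑ j ∈ Finset.range i, ζ ^ j := by
    rw [mul_assoc, ← h10]
    push_cast
    ring
  rw [h13]
  exact mli_mul_right h8 (mlr_of_isIntegral h12)


/-- Kazarin: a class of prime power size generates a solvable normal subgroup. -/
theorem kazarin_aux (n : ℕ) : ∀ {G : Type u} [Group G] [Finite G], Nat.card G = n →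
    ∀ (x : G) {p : ℕ} (_ : p.Prime) (k : ℕ) (_ : (centralizer ({x} : Set G)).index = p ^ k),
    Group.IsSolvable (normalClosure ({x} : Set G)) := by
  induction n using Nat.strong_induction_on with
  | _ n ih =>
  intro G _ _ hn x p hp k hx
  haveI : Fact p.Prime := ⟨hp⟩
  by_cases htop : normalClosure ({x} : Set G) = ⊤
  · -- the commutator subgroup is a `p`-group
    have h1 : IsPGroup p (commutator G) := by
      rw [IsPGroup.iff_card]
      refine ⟨(Nat.card (commutator G)).primeFactorsList.length, ?_⟩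
      refine Nat.eq_prime_pow_of_unique_prime_dvd Nat.card_pos.ne' ?_
      intro q hq hqd
      by_contra hqp
      exact not_dvd_card_commutator hp x hx htop hq hqp hqd
    haveI h2 : Group.IsNilpotent (commutator G) := h1.isNilpotent
    have h3 : Group.IsSolvable G := by
      rw [Group.isSolvable_iff_subgroup_quotient (commutator G)]
      exact ⟨inferInstance, Group.isSolvable_of_comm (G := Abelianization G) (fun a b => mul_comm a b)⟩
    infer_instance
  · set K := normalClosure ({x} : Set G) with hK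
    have hxK : x ∈ K := subset_normalClosure rfl
    have hlt : Nat.card K < n := by
      rw [← hn]
      refine lt_of_le_of_ne (Nat.le_of_dvd Nat.card_pos (card_subgroup_dvd_card K)) ?_
      intro h
      exact htop (eq_top_of_card_eq K h)
    have hidx : ∃ j, (centralizer ({(⟨x, hxK⟩ : K)} : Set K)).index = p ^ j := by
      have h4 : (centralizer ({x} : Set G)).relIndex K ∣ (centralizer ({x} : Set G)).index :=
        relIndex_dvd_index_of_normal_top _ K
      rw [hx] at h4
      obtain ⟨j, -, hj⟩ := (Nat.dvd_prime_pow hp).mp h4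
      refine ⟨j, ?_⟩
      rw [← hj, relIndex]
      congr 1
      ext y
      rw [mem_centralizer_singleton_iff, mem_subgroupOf, mem_centralizer_singleton_iff]
      exact ⟨fun h => congrArg Subtype.val h, fun h => Subtype.ext h⟩
    obtain ⟨j, hj⟩ := hidx
    have h5 := ih _ hlt rfl (⟨x, hxK⟩ : K) hp j hj
    have h6 := mem_solvableRadical_of_isSolvable_normalClosure h5
    apply isSolvable_normalClosure_of_mem
    exact map_solvableRadical_le K ⟨_, h6, rfl⟩

theorem kazarin {G : Type u} [Group G] [Finite G] (x : G) {p : ℕ} (hp : p.Prime) (k : ℕ)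
    (hx : (ConjClasses.mk x).carrier.ncard = p ^ k) : Group.IsSolvable (normalClosure ({x} : Set G)) :=
  kazarin_aux _ rfl x hp k (by rw [← ncard_carrier_eq_index, hx])

end Cfsg.Agent.H67
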