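import Cfsg.Agent.H67.PyrC
import Cfsg.Agent.H62.PyrDef

set_option autoImplicit false
set_option linter.unusedSectionVars false
set_option maxHeartbeats 400000

/-!
RES: the existence of a transvection.
-/

namespace Cfsg.Agent.H67.Pyr

open Subgroup Cfsg.Agent.H62.Pyr

universe u

theorem core' {E : Type u} [Group E] [Finite E] {L : Subgroup (MulAut E)} {g : MulAut E} {e0 : E}
    (sq : ∀ x : E, x * x = 1) (card : 8 ≤ Nat.card E)
    (two : ∀ a b c d : E, a ≠ 1 → b ≠ 1 → a ≠ b → c ≠ 1 → d ≠ 1 → c ≠ d → ∃ α ∈ L, α a = c ∧ α b = d)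
    (reg : ∀ α ∈ L, Odd (orderOf α) → ∀ a b : E, a ≠ 1 → b ≠ 1 → a ≠ b → α a = a → α b = b → α = 1)
    (mem : g ∈ L) (ord : orderOf g = 3) (ene : e0 ≠ 1) (fix : g e0 = e0) :
    ∃ t ∈ L, t ≠ 1 ∧ ∀ v, t v = v ∨ t v = v * e0 := by
  have hinv : ∀ x : E, x⁻¹ = x := fun x => inv_eq_of_mul_eq_one_left (sq x)
  letI : CommGroup E := { ‹Group E› with
    mul_comm := fun a b => by
      have h := hinv (a * b)
      rw [mul_inv_rev, hinv, hinv] at h
      exact h.symm }
  exact (Hy.mk (L := L) (g := g) (e0 := e0) sq card two reg mem ord ene fix).core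

section four
variable {G : Type u} [Group G]

/-- the four-group generated by two commuting involutions. -/
def four (a b : G) (ha : a * a = 1) (hb : b * b = 1) (hab : b * a = a * b) : Subgroup G where
  carrier := {x | x = 1 ∨ x = a ∨ x = b ∨ x = a * b}
  one_mem' := Or.inl rfl
  mul_mem' := by
    have h1 : a * (a * b) = b := by rw [← mul_assoc, ha, one_mul]
    have h2 : a * b * a = b := by rw [mul_assoc, hab, h1]
    have h3 : b * (a * b) = a := by rw [← mul_assoc, hab, mul_assoc, hb, mul_one]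
    have h4 : a * b * b = a := by rw [mul_assoc, hb, mul_one]
    have h5 : a * b * (a * b) = 1 := by rw [mul_assoc, h3, ha]
    rintro x y (rfl | rfl | rfl | rfl) (rfl | rfl | rfl | rfl) <;>
      simp [ha, hb, hab, h1, h2, h3, h4, h5]
  inv_mem' := by
    have h1 : a⁻¹ = a := inv_eq_of_mul_eq_one_left ha
    have h2 : b⁻¹ = b := inv_eq_of_mul_eq_one_left hb
    have h3 : (a * b)⁻¹ = a * b := by rw [mul_inv_rev, h1, h2, hab]
    rintro x (rfl | rfl | rfl | rfl)
    · left; simp
    · right; left; exact h1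
    · right; right; left; exact h2
    · right; right; right; exact h3

theorem mem_four {a b : G} {ha : a * a = 1} {hb : b * b = 1} {hab : b * a = a * b} {x : G} :
    x ∈ four a b ha hb hab ↔ x = 1 ∨ x = a ∨ x = b ∨ x = a * b := Iff.rfl

/-- the sign of the permutation induced on a finite subgroup. -/
noncomputable def sgn [Finite G] (F : Subgroup G) : normalizer (F : Set G) →* ℤˣ :=
  by
    classical
    haveI : Fintype F := Fintype.ofFinite F
    exact (Equiv.Perm.sign.comp (MulAut.toPerm F)).comp F.normalizerMonoidHom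

theorem units_odd {u : ℤˣ} {n : ℕ} (hn : Odd n) (h : u ^ n = 1) : u = 1 := by
  rcases Int.units_eq_one_or u with h1 | h1
  · exact h1
  · rw [h1, hn.neg_one_pow] at h
    exact absurd h (by decide)

end four

/-- the element of order a power of three. -/
theorem exists_z {G : Type u} [Group G] [Finite G] (E : Subgroup G) [E.Normal]
    (hE : ∀ x : G, x ∈ E ↔ x * x = 1) (h2 : TwoTr E) {a b : G} (ha : a ∈ E) (hb : b ∈ E)
    (ha1 : a ≠ 1) (hb1 : b ≠ 1) (hab : a ≠ b) :
    ∃ z : G, Odd (orderOf z) ∧ z * a * z⁻¹ ≠ a ∧ z ^ 3 * a = a * z ^ 3 ∧ z ^ 3 * b = b * z ^ 3 ∧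
      ∃ i ∈ E, i ≠ 1 ∧ z * i = i * z := by
  classical
  haveI : Fact (Nat.Prime 3) := ⟨Nat.prime_three⟩
  have haa := (hE a).1 ha
  have hbb := (hE b).1 hb
  have hcomm : b * a = a * b := by
    have h := (hE (a * b)).1 (E.mul_mem ha hb)
    have h1 : a⁻¹ = a := inv_eq_of_mul_eq_one_left haa
    have h2' : b⁻¹ = b := inv_eq_of_mul_eq_one_left hbb
    have h3 : (a * b)⁻¹ = a * b := inv_eq_of_mul_eq_one_left h
    rw [mul_inv_rev, h1, h2'] at h3
    exact h3
  set F := four a b haa hbb hcomm with hF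
  have haF : a ∈ F := Or.inr (Or.inl rfl)
  have hbF : b ∈ F := Or.inr (Or.inr (Or.inl rfl))
  have hnorm : ∀ x : G, x * a * x⁻¹ ∈ F → x * b * x⁻¹ ∈ F → x ∈ normalizer (F : Set G) := by
    intro x hxa hxb
    apply mem_normalizer_fintype
    rintro n (rfl | rfl | rfl | rfl)
    · rw [mul_one, mul_inv_cancel]; exact F.one_mem
    · exact hxa
    · exact hxb
    · have : x * (a * b) * x⁻¹ = (x * a * x⁻¹) * (x * b * x⁻¹) := by group
      rw [this]
      exact F.mul_mem hxa hxb
  have hab1 : a * b ≠ 1 := fun h => hab (by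
    rw [← inv_eq_of_mul_eq_one_left hbb]; exact eq_inv_of_mul_eq_one_left h)
  obtain ⟨τ, hτa, hτb⟩ := h2 a ha b hb b hb a ha ha1 hb1 hab hb1 ha1 hab.symm
  obtain ⟨z, hza, hzb⟩ := h2 a ha b hb b hb (a * b) (E.mul_mem ha hb) ha1 hb1 hab hb1 hab1
    (fun h => ha1 (by simpa using h))
  have hτN : τ ∈ normalizer (F : Set G) := hnorm τ (by rw [hτa]; exact hbF) (by rw [hτb]; exact haF)
  have hzN : z ∈ normalizer (F : Set G) := hnorm z (by rw [hza]; exact hbF)
    (by rw [hzb]; exact F.mul_mem haF hbF)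
  -- the sign of `τ`
  have hsτ : sgn F ⟨τ, hτN⟩ = -1 := by
    haveI : Fintype F := Fintype.ofFinite F
    have h1 : MulAut.toPerm F (F.normalizerMonoidHom ⟨τ, hτN⟩) =
        Equiv.swap (⟨a, haF⟩ : F) ⟨b, hbF⟩ := by
      ext x
      have hx : ((MulAut.toPerm F (F.normalizerMonoidHom ⟨τ, hτN⟩)) x : G) = τ * x * τ⁻¹ := rfl
      rw [hx]
      obtain ⟨x, hxF⟩ := x
      rcases hxF with rfl | rfl | rfl | rfl
      · rw [Equiv.swap_apply_of_ne_of_ne]
        · simp
        · intro h; exact ha1 (congrArg Subtype.val h).symm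
        · intro h; exact hb1 (congrArg Subtype.val h).symm
      · rw [Equiv.swap_apply_left]; exact hτa
      · rw [Equiv.swap_apply_right]; exact hτb
      · rw [Equiv.swap_apply_of_ne_of_ne]
        · change τ * (a * b) * τ⁻¹ = a * b
          have : τ * (a * b) * τ⁻¹ = (τ * a * τ⁻¹) * (τ * b * τ⁻¹) := by group
          rw [this, hτa, hτb, hcomm]
        · intro h; exact hb1 (by simpa using congrArg Subtype.val h)
        · intro h; exact ha1 (by simpa using congrArg Subtype.val h)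
    unfold sgn
    simp only [MonoidHom.comp_apply]
    have h3 := congrArg Equiv.Perm.sign h1
    rw [Equiv.Perm.sign_swap (fun h => hab (congrArg Subtype.val h))] at h3
    convert h3
  -- the three-part of `z`
  have hzC3 : z ^ 3 * a = a * z ^ 3 ∧ z ^ 3 * b = b * z ^ 3 := by
    have e1 : z * a = b * z := by rw [← hza]; group
    have e2 : z * b = a * b * z := by rw [← hzb]; group
    have e3 : z * (a * b) = a * z := by
      rw [← mul_assoc, e1, mul_assoc, e2, ← mul_assoc, ← mul_assoc, hcomm, mul_assoc a b b, hbb, mul_one]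
    have e4 : z ^ 3 = z * (z * z) := by rw [pow_succ, pow_two, mul_assoc]
    rw [e4]
    constructor
    · calc z * (z * z) * a = z * (z * (z * a)) := by simp only [mul_assoc]
        _ = z * (z * b) * z := by rw [e1]; simp only [mul_assoc]
        _ = (z * (a * b)) * z * z := by rw [e2]; simp only [mul_assoc]
        _ = a * (z * (z * z)) := by rw [e3]; simp only [mul_assoc]
    · calc z * (z * z) * b = z * (z * (z * b)) := by simp only [mul_assoc]
        _ = z * (z * (a * b)) * z := by rw [e2]; simp only [mul_assoc]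
        _ = (z * a) * z * z := by rw [e3]; simp only [mul_assoc]
        _ = b * (z * (z * z)) := by rw [e1]; simp only [mul_assoc]
  obtain ⟨k, m, hm, hkm⟩ := Nat.exists_eq_pow_mul_and_not_dvd (orderOf_pos z).ne' 3 (by norm_num)
  have hord : orderOf (z ^ m) = 3 ^ k := by
    have hm0 : m ≠ 0 := by rintro rfl; exact hm (dvd_zero _)
    rw [orderOf_pow_of_dvd hm0 ⟨3 ^ k, by rw [hkm, mul_comm]⟩, hkm]
    exact Nat.mul_div_cancel _ (Nat.pos_of_ne_zero hm0)
  set w := z ^ m with hw
  have hodd : Odd (orderOf w) := by rw [hord]; exact Odd.pow (by decide)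
  have hwa : w * a * w⁻¹ ≠ a := by
    intro h
    have hC : ∀ x : G, x ∈ centralizer ({a} : Set G) ↔ x * a = a * x := fun x =>
      mem_centralizer_singleton_iff
    have h1 : w ∈ centralizer ({a} : Set G) := by
      rw [hC]
      calc w * a = w * a * w⁻¹ * w := by group
        _ = a * w := by rw [h]
    have h3 : z ^ 3 ∈ centralizer ({a} : Set G) := (hC _).2 hzC3.1
    have h4 : z ∈ centralizer ({a} : Set G) := by
      have h5 : m = 3 * (m / 3) + m % 3 := by omega
      have h6 : m % 3 = 1 ∨ m % 3 = 2 := by omega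
      have h7 : w = (z ^ 3) ^ (m / 3) * z ^ (m % 3) := by
        rw [← pow_mul, ← pow_add, ← h5]
      have h8 : z ^ (m % 3) ∈ centralizer ({a} : Set G) := by
        have : z ^ (m % 3) = ((z ^ 3) ^ (m / 3))⁻¹ * w := by rw [h7, inv_mul_cancel_left]
        rw [this]
        exact mul_mem (inv_mem (pow_mem h3 _)) h1
      rcases h6 with h6 | h6
      · rw [h6, pow_one] at h8; exact h8
      · rw [h6] at h8
        have : z = z ^ 3 * (z ^ 2)⁻¹ := by rw [pow_succ z 2]; group
        rw [this]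
        exact mul_mem h3 (inv_mem h8)
    rw [hC] at h4
    apply hab
    rw [← hza, h4]; group
  have hw3 : w ^ 3 * a = a * w ^ 3 ∧ w ^ 3 * b = b * w ^ 3 := by
    have h3 : w ^ 3 = (z ^ 3) ^ m := by rw [hw, ← pow_mul, ← pow_mul, mul_comm]
    rw [h3]
    exact ⟨(Commute.pow_left (show Commute (z ^ 3) a from hzC3.1) m).eq,
      (Commute.pow_left (show Commute (z ^ 3) b from hzC3.2) m).eq⟩
  refine ⟨w, hodd, hwa, hw3.1, hw3.2, ?_⟩
  have hwN : w ∈ normalizer (F : Set G) := pow_mem hzN _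
  set w' : normalizer (F : Set G) := ⟨w, hwN⟩ with hw'
  have hsw : sgn F w' = 1 := by
    apply units_odd hodd
    rw [← map_pow]
    have : w' ^ orderOf w = 1 := Subtype.ext (pow_orderOf_eq_one w)
    rw [this, map_one]
  set Y := (sgn F).ker with hY
  haveI hYn : Y.Normal := inferInstance
  set w'' : Y := ⟨w', hsw⟩ with hw''
  have hp3 : IsPGroup 3 (zpowers w'') := by
    apply IsPGroup.of_card (n := k)
    rw [Nat.card_zpowers, ← hord, ← Subgroup.orderOf_coe, ← Subgroup.orderOf_coe]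
  obtain ⟨R, hR⟩ := hp3.exists_le_sylow
  have hfr := Sylow.normalizer_sup_eq_top R
  have hτ : (⟨τ, hτN⟩ : normalizer (F : Set G)) ∈
      normalizer ((R.map Y.subtype : Subgroup (normalizer (F : Set G))) : Set (normalizer (F : Set G))) ⊔ Y := by
    rw [hfr]; exact mem_top _
  rw [mem_sup_of_normal_right] at hτ
  obtain ⟨x, hx, y, hy, hxy⟩ := hτ
  have hsx : sgn F x = -1 := by
    have h1 : sgn F y = 1 := hy
    rw [← hsτ, ← hxy, map_mul, h1, mul_one]
  have heven : Even (orderOf x) := by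
    by_contra hcon
    rw [Nat.not_even_iff_odd] at hcon
    have h1 : sgn F x = 1 := by
      apply units_odd hcon
      rw [← map_pow, pow_orderOf_eq_one, map_one]
    rw [hsx] at h1
    exact absurd h1 (by decide)
  obtain ⟨n, hn⟩ := heven
  have hn0 : n ≠ 0 := by
    rintro rfl
    exact (orderOf_pos x).ne' hn
  set i' := x ^ n with hi'
  have hi2 : i' * i' = 1 := by rw [hi', ← pow_add, ← hn, pow_orderOf_eq_one]
  have hi1 : i' ≠ 1 := by
    intro h
    have := orderOf_dvd_of_pow_eq_one h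
    have := Nat.le_of_dvd (Nat.pos_of_ne_zero hn0) this
    omega
  have hi2' : (i' : G) * i' = 1 := congrArg Subtype.val hi2
  have hiE : (i' : G) ∈ E := (hE _).2 hi2'
  refine ⟨i', hiE, fun h => hi1 (Subtype.ext h), ?_⟩
  -- the commutator of `i'` and `w`
  have hin := pow_mem hx n
  rw [← hi', mem_normalizer_iff] at hin
  have hwR : w' ∈ (R.map Y.subtype : Subgroup (normalizer (F : Set G))) :=
    ⟨w'', hR (mem_zpowers _), rfl⟩
  have hc1 : i' * w' * i'⁻¹ * w'⁻¹ ∈ (R.map Y.subtype : Subgroup (normalizer (F : Set G))) :=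
    mul_mem ((hin w').1 hwR) (inv_mem hwR)
  set c := i' * w' * i'⁻¹ * w'⁻¹ with hc
  have hc2 : (c : G) * c = 1 := by
    rw [← hE]
    have : (c : G) = i' * (w * (i' : G)⁻¹ * w⁻¹) := by
      rw [hc, hw']
      push_cast
      group
    rw [this]
    exact E.mul_mem hiE (Subgroup.Normal.conj_mem inferInstance _ (E.inv_mem hiE) _)
  have hc3 : c = 1 := by
    have hRp : IsPGroup 3 (R.map Y.subtype : Subgroup (normalizer (F : Set G))) := R.isPGroup'.map _
    obtain ⟨j, hj⟩ := (isPGroup_iff_pow_pow_eq_one.1 hRp) ⟨c, hc1⟩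
    have hj' : c ^ 3 ^ j = 1 := congrArg Subtype.val hj
    have h2' : c ^ 2 = 1 := Subtype.ext (by rw [pow_two]; exact hc2)
    have h3 : Nat.Coprime (3 ^ j) 2 := Nat.Coprime.pow_left _ (by norm_num)
    have h4 := orderOf_dvd_of_pow_eq_one hj'
    have h5 := orderOf_dvd_of_pow_eq_one h2'
    have h6 := Nat.eq_one_of_dvd_coprimes h3 h4 h5
    exact orderOf_eq_one_iff.1 h6
  have hc4 : (i' : G) * w * (i' : G)⁻¹ * w⁻¹ = 1 := by
    have := congrArg Subtype.val hc3
    rw [hc] at this
    simpa using this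
  have hc5 : (i' : G) * w = w * i' := by
    have := mul_inv_eq_one.1 hc4
    calc (i' : G) * w = (i' * w * (i' : G)⁻¹) * i' := by group
      _ = w * i' := by rw [this]
  exact hc5.symm

/-- **RES** -/
theorem resid {G : Type u} [Group G] [Finite G] (E : Subgroup G) [E.Normal]
    (hE : ∀ x : G, x ∈ E ↔ x * x = 1) (h8 : 8 ≤ Nat.card E) (h2 : TwoTr E)
    (hR : ∀ x : G, Odd (orderOf x) → (∃ a ∈ E, ∃ b ∈ E, a ≠ 1 ∧ b ≠ 1 ∧ a ≠ b ∧ x * a = a * x ∧
      x * b = b * x) → ∀ c ∈ E, x * c = c * x) :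
    ∃ e ∈ E, e ≠ 1 ∧ ∃ t : G, (∀ v ∈ E, t * v * t⁻¹ = v ∨ t * v * t⁻¹ = v * e) ∧
      ∃ v ∈ E, t * v * t⁻¹ ≠ v := by
  classical
  -- two elements
  obtain ⟨a, b, ha1, hb1, hab⟩ : ∃ a b : E, a ≠ 1 ∧ b ≠ 1 ∧ a ≠ b := by
    haveI : Nontrivial E := Finite.one_lt_card_iff_nontrivial.1 (by omega)
    obtain ⟨a, ha⟩ := exists_ne (1 : E)
    by_contra hcon
    push Not at hcon
    have h1 : (Set.univ : Set E) ⊆ {1, a} := by
      intro x _
      by_cases hx : x = 1
      · left; exact hx
      · right; exact (hcon a x ha hx).symm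
    have h3 := Set.ncard_le_ncard h1
    rw [Set.ncard_univ, Set.ncard_pair ha.symm] at h3
    omega
  obtain ⟨z, hz, hza, hz3a, hz3b, i, hiE, hi1, hzi⟩ := exists_z E hE h2 a.2 b.2
    (fun h => ha1 (Subtype.ext h)) (fun h => hb1 (Subtype.ext h)) (fun h => hab (Subtype.ext h))
  have hz3 : ∀ c ∈ E, z ^ 3 * c = c * z ^ 3 := by
    apply hR
    · have h1 : orderOf (z ^ 3) ∣ orderOf z := orderOf_pow_dvd 3
      exact Odd.of_dvd_nat hz h1
    · exact ⟨a, a.2, b, b.2, fun h => ha1 (Subtype.ext h), fun h => hb1 (Subtype.ext h),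
        fun h => hab (Subtype.ext h), hz3a, hz3b⟩
  set φ : G →* MulAut E := MulAut.conjNormal with hφ
  have hφv : ∀ (x : G) (v : E), ((φ x v : E) : G) = x * v * x⁻¹ := fun x v => MulAut.conjNormal_apply _ _
  have hfix : ∀ (x : G) (v : E), φ x v = v ↔ x * v = v * x := by
    intro x v
    rw [Subtype.ext_iff, hφv]
    exact mul_inv_eq_iff_eq_mul
  obtain ⟨t, ht, ht1, htv⟩ := core' (E := E) (L := φ.range) (g := φ z) (e0 := ⟨i, hiE⟩)
    (fun x => Subtype.ext ((hE _).1 x.2)) h8
    (by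
      intro a b c d ha hb hab hc hd hcd
      obtain ⟨g, h3, h4⟩ := h2 a a.2 b b.2 c c.2 d d.2 (fun h => ha (Subtype.ext h))
        (fun h => hb (Subtype.ext h)) (fun h => hab (Subtype.ext h)) (fun h => hc (Subtype.ext h))
        (fun h => hd (Subtype.ext h)) (fun h => hcd (Subtype.ext h))
      exact ⟨φ g, ⟨g, rfl⟩, Subtype.ext (by rw [hφv, h3]), Subtype.ext (by rw [hφv, h4])⟩)
    (by
      rintro _ ⟨x, rfl⟩ ho a b ha hb hab hxa hxb
      rw [hfix] at hxa hxb
      obtain ⟨k, m, hm, hkm⟩ := Nat.exists_eq_two_pow_mul_odd (n := orderOf x) (orderOf_pos x).ne'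
      have h3 : orderOf (x ^ 2 ^ k) = m := by
        rw [orderOf_pow_of_dvd (by positivity) ⟨m, hkm⟩, hkm, Nat.mul_div_cancel_left _ (by positivity)]
      have h4 := hR (x ^ 2 ^ k) (by rw [h3]; exact hm) ⟨a, a.2, b, b.2, fun h => ha (Subtype.ext h),
        fun h => hb (Subtype.ext h), fun h => hab (Subtype.ext h),
        (Commute.pow_left (show Commute x (a : G) from hxa) _).eq,
        (Commute.pow_left (show Commute x (b : G) from hxb) _).eq⟩
      have h5 : φ x ^ 2 ^ k = 1 := by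
        rw [← map_pow]
        apply MulEquiv.ext
        intro v
        exact (hfix _ v).2 (h4 v v.2)
      have h6 := orderOf_dvd_of_pow_eq_one h5
      have h7 : Nat.Coprime (orderOf (φ x)) (2 ^ k) := Nat.Coprime.pow_right _ ho.coprime_two_right
      exact orderOf_eq_one_iff.1 (Nat.Coprime.eq_one_of_dvd h7 h6))
    ⟨z, rfl⟩
    (by
      refine orderOf_eq_prime ?_ ?_
      · rw [← map_pow]
        apply MulEquiv.ext
        intro v
        exact (hfix _ v).2 (hz3 v v.2)
      · intro h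
        apply hza
        have := congrArg (fun α : MulAut E => ((α a : E) : G)) h
        simpa [hφv] using this)
    (fun h => hi1 (congrArg Subtype.val h))
    ((hfix _ _).2 hzi)
  obtain ⟨t, rfl⟩ := ht
  refine ⟨i, hiE, hi1, t, ?_, ?_⟩
  · intro v hv
    rcases htv ⟨v, hv⟩ with h | h
    · left
      have := congrArg Subtype.val h
      rwa [hφv] at this
    · right
      have := congrArg Subtype.val h
      rwa [hφv] at this
  · by_contra hcon
    push Not at hcon
    apply ht1
    apply MulEquiv.ext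
    intro v
    apply Subtype.ext
    rw [hφv]
    exact hcon v v.2

end Cfsg.Agent.H67.Pyr
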