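import Cfsg.Agent.CharBase.Column
import Cfsg.Agent.CharBase.Central
import Cfsg.Agent.H33.OneClass
import Cfsg.Agent.H67.Elem
import Cfsg.Agent.H75.Tools

set_option autoImplicit false

/-!
# Class constants, integral columns, the (3,3,3) triangle group (helper67)
-/

namespace Cfsg.Agent.H67.Col

open Subgroup Cfsg Cfsg.Agent.CharBase
open scoped ComplexConjugate

universe u

variable {G : Type u} [Group G]

open Classical in
/-- class constants through characters -/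
theorem count_formula [Fintype G] [Fintype (IrrCharacter G)] (u v w : G) :
    (Nat.card (centralizer ({w} : Set G)) : ℂ) *
      ((Finset.univ.filter (fun x : G => IsConj (u * (x * v * x⁻¹)) w)).card : ℂ) =
    (Nat.card G : ℂ) * ∑ χ : IrrCharacter G,
      (χ : G → ℂ) u * (χ : G → ℂ) v * conj ((χ : G → ℂ) w) / (χ : G → ℂ) 1 := by
  have h1 : ∑ x : G, ∑ χ : IrrCharacter G, (χ : G → ℂ) (u * (x * v * x⁻¹)) * conj ((χ : G → ℂ) w) =
      (Nat.card G : ℂ) * ∑ χ : IrrCharacter G,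
      (χ : G → ℂ) u * (χ : G → ℂ) v * conj ((χ : G → ℂ) w) / (χ : G → ℂ) 1 := by
    rw [Finset.sum_comm, Finset.mul_sum]
    refine Finset.sum_congr rfl fun χ _ => ?_
    rw [← Finset.sum_mul, sum_conj_mul χ.2]
    ring
  rw [← h1]
  have h2 : ∀ x : G, ∑ χ : IrrCharacter G, (χ : G → ℂ) (u * (x * v * x⁻¹)) * conj ((χ : G → ℂ) w) =
      if IsConj (u * (x * v * x⁻¹)) w then (Nat.card (centralizer ({w} : Set G)) : ℂ) else 0 := by
    intro x
    by_cases hc : IsConj (u * (x * v * x⁻¹)) w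
    · rw [if_pos hc, ← column_orthogonality_of_isConj (IsConj.refl w)]
      refine Finset.sum_congr rfl fun χ _ => ?_
      rw [classFun_eq_of_isConj (irr_isClassFunction χ) hc]
    · rw [if_neg hc, column_orthogonality_of_not_isConj hc]
  rw [Finset.sum_congr rfl (fun t _ => h2 t), ← Finset.sum_filter, Finset.sum_const, nsmul_eq_mul,
    mul_comm]

/-- conjugate elements have centralizers of the same order -/
theorem card_centralizer_of_isConj [Finite G] {u v : G} (h : IsConj u v) :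
    Nat.card (centralizer ({u} : Set G)) = Nat.card (centralizer ({v} : Set G)) := by
  have := Fintype.ofFinite (IrrCharacter G)
  have h1 := column_orthogonality_of_isConj h
  have h2 := column_orthogonality_of_isConj (IsConj.refl v)
  have h3 : ((Nat.card (centralizer ({u} : Set G)) : ℕ) : ℂ) = Nat.card (centralizer ({v} : Set G)) := by
    rw [← h1, ← h2]
    refine Finset.sum_congr rfl fun χ _ => ?_
    rw [classFun_eq_of_isConj (irr_isClassFunction χ) h]
  exact_mod_cast h3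

open Classical in
/-- orthogonality of integral columns -/
theorem col_int [Finite G] [Fintype (IrrCharacter G)] {u v : G} {a b : IrrCharacter G → ℤ}
    (ha : ∀ χ : IrrCharacter G, (χ : G → ℂ) u = a χ) (hb : ∀ χ : IrrCharacter G, (χ : G → ℂ) v = b χ) :
    ∑ χ, a χ * b χ = if IsConj u v then (Nat.card (centralizer ({u} : Set G)) : ℤ) else 0 := by
  have h := column_orthogonality u v
  simp only [ha, hb, map_intCast] at h
  split_ifs with hc
  · rw [if_pos hc] at h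
    exact_mod_cast h
  · rw [if_neg hc] at h
    exact_mod_cast h

theorem col_deg [Finite G] [Fintype (IrrCharacter G)] {u : G} {a : IrrCharacter G → ℤ} (hu : u ≠ 1)
    (ha : ∀ χ : IrrCharacter G, (χ : G → ℂ) u = a χ) :
    ∑ χ, a χ * (H75.deg χ : ℤ) = 0 := by
  classical
  have h := sum_degree_mul u
  rw [if_neg hu] at h
  simp only [ha, H75.deg_spec] at h
  have h2 : ((∑ χ, a χ * (H75.deg χ : ℤ) : ℤ) : ℂ) = ((0 : ℤ) : ℂ) := by
    push_cast
    rw [← h]
    exact Finset.sum_congr rfl fun χ _ => mul_comm _ _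
  exact_mod_cast h2

open Classical in
theorem count_real [Fintype G] [Fintype (IrrCharacter G)] {u v w : G} {a b c : IrrCharacter G → ℤ}
    (ha : ∀ χ : IrrCharacter G, (χ : G → ℂ) u = a χ) (hb : ∀ χ : IrrCharacter G, (χ : G → ℂ) v = b χ)
    (hc : ∀ χ : IrrCharacter G, (χ : G → ℂ) w = c χ) :
    (Nat.card (centralizer ({w} : Set G)) : ℝ) *
      ((Finset.univ.filter (fun x : G => IsConj (u * (x * v * x⁻¹)) w)).card : ℝ) =
    (Nat.card G : ℝ) * ∑ χ : IrrCharacter G, (a χ : ℝ) * b χ * c χ / ((H75.deg χ : ℤ) : ℝ) := by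
  have h := count_formula u v w
  simp only [ha, hb, hc, map_intCast, H75.deg_spec] at h
  have h2 : (((Nat.card (centralizer ({w} : Set G)) : ℝ) *
      ((Finset.univ.filter (fun x : G => IsConj (u * (x * v * x⁻¹)) w)).card : ℝ) : ℝ) : ℂ) =
      (((Nat.card G : ℝ) * ∑ χ : IrrCharacter G, (a χ : ℝ) * b χ * c χ / ((H75.deg χ : ℤ) : ℝ) : ℝ) : ℂ) := by
    push_cast
    exact h
  exact_mod_cast h2

open Classical in
theorem card_fiber [Fintype G] {v w : G} (h : IsConj v w) :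
    (Finset.univ.filter (fun x : G => x * v * x⁻¹ = w)).card = Nat.card (centralizer ({v} : Set G)) := by
  obtain ⟨c, hc⟩ := isConj_iff.mp h
  rw [Nat.card_eq_fintype_card, ← Finset.card_univ]
  symm
  apply Finset.card_bij (fun (y : centralizer ({v} : Set G)) _ => c * (y : G))
  · intro y _
    rw [Finset.mem_filter]
    refine ⟨Finset.mem_univ _, ?_⟩
    have hy := mem_centralizer_singleton_iff.mp y.2
    calc c * (y : G) * v * (c * (y : G))⁻¹ = c * ((y : G) * v) * (y : G)⁻¹ * c⁻¹ := by group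
      _ = c * (v * y) * (y : G)⁻¹ * c⁻¹ := by rw [hy]
      _ = c * v * c⁻¹ := by group
      _ = w := hc
  · intro y _ y' _ h
    exact Subtype.ext (mul_left_cancel h)
  · intro x hx
    rw [Finset.mem_filter] at hx
    refine ⟨⟨c⁻¹ * x, ?_⟩, Finset.mem_univ _, by simp⟩
    rw [mem_centralizer_singleton_iff]
    have h1 : x * v * x⁻¹ = c * v * c⁻¹ := by rw [hx.2, hc]
    calc c⁻¹ * x * v = c⁻¹ * (x * v * x⁻¹) * x := by group
      _ = c⁻¹ * (c * v * c⁻¹) * x := by rw [h1]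
      _ = v * (c⁻¹ * x) := by group

/-- An integral vector of norm two orthogonal to the degrees. -/
theorem exc_vec {I : Type*} [Fintype I] [DecidableEq I] (deg f : I → ℤ) (hdeg : ∀ i, 0 < deg i)
    (h2 : ∑ i, f i ^ 2 = 2) (h0 : ∑ i, f i * deg i = 0) :
    ∃ p q, p ≠ q ∧ f p = 1 ∧ f q = -1 ∧ (∀ i, i ≠ p → i ≠ q → f i = 0) ∧ deg p = deg q := by
  have hne : ∃ i, f i ≠ 0 := by
    by_contra hcon
    push Not at hcon
    simp [hcon] at h2
  obtain ⟨i₀, hi₀⟩ := hne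
  have hp : ∃ p, 0 < f p := by
    by_contra hcon
    push Not at hcon
    have : ∑ i, f i * deg i < 0 := by
      apply Finset.sum_neg' (fun i _ => mul_nonpos_of_nonpos_of_nonneg (hcon i) (hdeg i).le)
        ⟨i₀, Finset.mem_univ _, mul_neg_of_neg_of_pos (lt_of_le_of_ne (hcon i₀) hi₀) (hdeg i₀)⟩
    omega
  have hq : ∃ q, f q < 0 := by
    by_contra hcon
    push Not at hcon
    have : 0 < ∑ i, f i * deg i := by
      apply Finset.sum_pos' (fun i _ => mul_nonneg (hcon i) (hdeg i).le)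
        ⟨i₀, Finset.mem_univ _, mul_pos (lt_of_le_of_ne (hcon i₀) hi₀.symm) (hdeg i₀)⟩
    omega
  obtain ⟨p, hp⟩ := hp
  obtain ⟨q, hq⟩ := hq
  have hpq : p ≠ q := by rintro rfl; omega
  have hsplit : ∀ g : I → ℤ, ∑ i, g i = g p + (g q + ∑ i ∈ (Finset.univ.erase p).erase q, g i) := by
    intro g
    rw [Finset.add_sum_erase _ _ (Finset.mem_erase.mpr ⟨hpq.symm, Finset.mem_univ q⟩),
      Finset.add_sum_erase _ _ (Finset.mem_univ p)]
  rw [hsplit] at h2
  have hR : 0 ≤ ∑ i ∈ (Finset.univ.erase p).erase q, f i ^ 2 := Finset.sum_nonneg fun i _ => sq_nonneg _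
  have hp1 : 1 ≤ f p ^ 2 := by nlinarith
  have hq1 : 1 ≤ f q ^ 2 := by nlinarith
  have hp2 : f p ^ 2 = 1 := by omega
  have hq2 : f q ^ 2 = 1 := by omega
  have hR0 : ∑ i ∈ (Finset.univ.erase p).erase q, f i ^ 2 = 0 := by omega
  have hfp : f p = 1 := by nlinarith
  have hfq : f q = -1 := by nlinarith
  have hz : ∀ i, i ≠ p → i ≠ q → f i = 0 := by
    intro i h1 h2
    have := (Finset.sum_eq_zero_iff_of_nonneg (fun i _ => sq_nonneg (f i))).mp hR0 i
      (Finset.mem_erase.mpr ⟨h2, Finset.mem_erase.mpr ⟨h1, Finset.mem_univ i⟩⟩)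
    exact pow_eq_zero_iff (two_ne_zero) |>.mp this
  refine ⟨p, q, hpq, hfp, hfq, hz, ?_⟩
  rw [hsplit, Finset.sum_eq_zero, hfp, hfq] at h0
  · linarith
  · intro i hi
    rw [Finset.mem_erase, Finset.mem_erase] at hi
    rw [hz i hi.2.1 hi.1, zero_mul]

/-- The translations of the (3,3,3) triangle group commute. -/
theorem triangle_commute {x t : G} (hx : x ^ 3 = 1) (h1 : (x * t) ^ 3 = 1)
    (h2 : (x ^ 2 * t) ^ 3 = 1) :
    x * t * x⁻¹ * (x ^ 2 * t * (x ^ 2)⁻¹) = t⁻¹ ∧ Commute (x * t * x⁻¹) (x ^ 2 * t * (x ^ 2)⁻¹) ∧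
      Commute (x * t * x⁻¹) t ∧ Commute (x ^ 2 * t * (x ^ 2)⁻¹) t := by
  have e1 : x * t * x⁻¹ * (x ^ 2 * t * (x ^ 2)⁻¹) * t = 1 := by
    have : (x * t) ^ 3 = x * t * x⁻¹ * (x ^ 2 * t * (x ^ 2)⁻¹) * (x ^ 3 * t) := by
      simp only [pow_succ, pow_zero, one_mul]; group
    rw [hx, one_mul] at this
    rw [← this, h1]
  have e2 : x ^ 2 * t * (x ^ 2)⁻¹ * (x * t * x⁻¹) * t = 1 := by
    have h3 : (x ^ 2 * t) ^ 3 = x ^ 2 * t * (x ^ 2)⁻¹ * (x ^ 3 * (x * t * x⁻¹) * (x ^ 3)⁻¹) * (x ^ 3 * x ^ 3 * t) := by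
      have : (x ^ 2 * t) ^ 3 = x ^ 2 * t * (x ^ 2 * t) * (x ^ 2 * t) := by
        simp only [pow_succ, pow_zero, one_mul]
      rw [this]
      group
    rw [hx] at h3
    simp only [one_mul, inv_one, mul_one] at h3
    rw [← h3, h2]
  set t1 := x * t * x⁻¹ with ht1
  set t2 := x ^ 2 * t * (x ^ 2)⁻¹ with ht2
  have c12 : t1 * t2 = t⁻¹ := eq_inv_of_mul_eq_one_left e1
  have c21 : t2 * t1 = t⁻¹ := eq_inv_of_mul_eq_one_left e2
  have c0 : Commute t1 t2 := c12.trans c21.symm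
  refine ⟨c12, c0, ?_, ?_⟩
  · have h3 : Commute t1 t⁻¹ := by rw [← c12]; exact (Commute.refl t1).mul_right c0
    exact Commute.inv_right_iff.mp h3
  · have h3 : Commute t2 t⁻¹ := by rw [← c12]; exact c0.symm.mul_right (Commute.refl t2)
    exact Commute.inv_right_iff.mp h3

/-- The regular part of the (3,3,3) triangle group: the product by an element of order prime to 3. -/
theorem isConj_mul_of_coprime [Finite G] {x t : G} (hx : x ^ 3 = 1) (h1 : (x * t) ^ 3 = 1)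
    (h2 : (x ^ 2 * t) ^ 3 = 1) (ht : ¬ 3 ∣ orderOf t) : IsConj x (x * t) := by
  obtain ⟨c12, c0, c1, c2⟩ := triangle_commute hx h1 h2
  set t1 := x * t * x⁻¹ with ht1
  set t2 := x ^ 2 * t * (x ^ 2)⁻¹ with ht2
  -- an inverse of 3
  have hcop : Nat.Coprime 3 (orderOf t) := (Nat.Prime.coprime_iff_not_dvd Nat.prime_three).mpr ht
  obtain ⟨m, hm⟩ := exists_pow_eq_self_of_coprime hcop
  have cx1 : x⁻¹ * t1 * x = t := by rw [ht1]; group
  have cx0 : x⁻¹ * t * x = t2 := by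
    have hx' : x⁻¹ = x ^ 2 := by
      rw [inv_eq_iff_mul_eq_one, ← hx]; group
    rw [ht2, ← hx', inv_inv]
  have cl : x⁻¹ * (t1 * t⁻¹) * x = t * t2⁻¹ := by
    calc x⁻¹ * (t1 * t⁻¹) * x = (x⁻¹ * t1 * x) * (x⁻¹ * t * x)⁻¹ := by group
      _ = t * t2⁻¹ := by rw [cx1, cx0]
  have clm : x⁻¹ * (t1 * t⁻¹) ^ m * x = (t * t2⁻¹) ^ m := by
    have h4 := conj_pow (i := m) (a := x⁻¹) (b := t1 * t⁻¹)
    rw [inv_inv, cl] at h4
    exact h4.symm
  have cc : Commute (t * t2⁻¹) (t1 * t⁻¹)⁻¹ := by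
    apply Commute.inv_right
    apply Commute.mul_left
    · exact (c1.symm).mul_right (Commute.refl t).inv_right
    · exact (c0.symm.mul_right c2.inv_right).inv_left
  rw [isConj_iff]
  refine ⟨(t1 * t⁻¹) ^ m, ?_⟩
  calc (t1 * t⁻¹) ^ m * x * ((t1 * t⁻¹) ^ m)⁻¹ = x * (x⁻¹ * (t1 * t⁻¹) ^ m * x) * ((t1 * t⁻¹) ^ m)⁻¹ := by group
    _ = x * ((t * t2⁻¹) ^ m * ((t1 * t⁻¹)⁻¹) ^ m) := by rw [clm, inv_pow, mul_assoc]
    _ = x * ((t * t2⁻¹) * (t1 * t⁻¹)⁻¹) ^ m := by rw [cc.mul_pow]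
    _ = x * (t ^ 3) ^ m := by
        congr 2
        have h5 : t * t2⁻¹ * (t1 * t⁻¹)⁻¹ = t * (t2⁻¹ * t) * t1⁻¹ := by group
        rw [h5, (c2.inv_left).eq]
        have h6 : t * (t * t2⁻¹) * t1⁻¹ = t * t * (t1 * t2)⁻¹ := by group
        rw [h6, c12, inv_inv]
        simp only [pow_succ, pow_zero, one_mul]
    _ = x * t := by rw [hm]

end Cfsg.Agent.H67.Col
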