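import Cfsg.Agent.H67.ColThreeVec
import Cfsg.Agent.H17.Basic
import Cfsg.Agent.H17.Orbits
import Cfsg.Agent.S0497
import Cfsg.Agent.H79.LinChar

set_option autoImplicit false

/-!
# Higman's theorem: self-centralizing Sylow 3-subgroups of order 9 (helper67)
-/

namespace Cfsg.Agent.H67.Col

open Subgroup Cfsg Cfsg.Agent.CharBase
open scoped ComplexConjugate Pointwise

universe u

variable {G : Type u} [Group G] [Finite G]

structure CC (S : Subgroup G) : Prop where
  comm : ∀ a ∈ S, ∀ b ∈ S, a * b = b * a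
  exp : ∀ a ∈ S, a ^ 3 = 1
  card : Nat.card S = 9
  cent : ∀ s ∈ S, s ≠ 1 → centralizer ({s} : Set G) = S

variable {S : Subgroup G}

theorem CC.ti (h : CC S) {s g : G} (hs : s ∈ S) (hs1 : s ≠ 1) (hg : g * s * g⁻¹ ∈ S) :
    g ∈ normalizer (S : Set G) := by
  have h1 : g * s * g⁻¹ ≠ 1 := by rwa [Ne, conj_eq_one_iff]
  rw [mem_normalizer_iff]
  intro x
  constructor
  · intro hx
    rw [← h.cent _ hg h1, mem_centralizer_singleton_iff]
    have := h.comm x hx s hs
    calc g * x * g⁻¹ * (g * s * g⁻¹) = g * (x * s) * g⁻¹ := by group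
      _ = g * (s * x) * g⁻¹ := by rw [this]
      _ = g * s * g⁻¹ * (g * x * g⁻¹) := by group
  · intro hx
    rw [← h.cent _ hs hs1, mem_centralizer_singleton_iff]
    have := h.comm _ hx _ hg
    have h2 : g * (x * s) * g⁻¹ = g * (s * x) * g⁻¹ := by
      calc g * (x * s) * g⁻¹ = g * x * g⁻¹ * (g * s * g⁻¹) := by group
        _ = g * s * g⁻¹ * (g * x * g⁻¹) := this
        _ = _ := by group
    exact mul_left_cancel (mul_right_cancel h2)

theorem exists_conj_mem (P : Sylow 3 G) {k : G} (hk : ∃ j, k ^ 3 ^ j = 1) : ∃ g : G, g * k * g⁻¹ ∈ (P : Subgroup G) := by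
  obtain ⟨j, hj⟩ := hk
  obtain ⟨Q, hQ⟩ := H33.exists_sylow_of_pow hj
  obtain ⟨g, hg⟩ := MulAction.exists_smul_eq G Q P
  refine ⟨g, ?_⟩
  rw [← hg]
  exact ⟨k, hQ, by simp⟩

theorem CC.triangle (h : CC S) (P : Sylow 3 G) (hP : (P : Subgroup G) = S) {u v : G} (hu : u ∈ S) (hu1 : u ≠ 1)
    (hv : v ^ 3 = 1) (huv : (u * v) ^ 3 = 1) : v ∈ S ∨ (IsConj u v ∧ IsConj (u ^ 2) (u * v)) := by
  have hu3 := h.exp u hu
  set t := u⁻¹ * v with ht
  have e1 : u * t = v := by rw [ht]; group
  have hu2 : u ^ 2 = u⁻¹ := by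
    symm; rw [inv_eq_iff_mul_eq_one, ← hu3]; group
  have e2 : u ^ 2 * t = u * v := by
    rw [ht]; group
  have h1 : (u * t) ^ 3 = 1 := by rw [e1, hv]
  have h2 : (u ^ 2 * t) ^ 3 = 1 := by rw [e2, huv]
  by_cases h3 : 3 ∣ orderOf t
  · left
    obtain ⟨c12, c0, c1, c2⟩ := triangle_commute hu3 h1 h2
    obtain ⟨j, hj⟩ := h3
    have hk : orderOf (t ^ j) = 3 := by
      rw [orderOf_pow_of_dvd (by rintro rfl; have := orderOf_pos t; omega) ⟨3, by rw [hj]; ring⟩, hj]
      have : 0 < j := by
        rcases Nat.eq_zero_or_pos j with h | h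
        · subst h; have := orderOf_pos t; omega
        · exact h
      exact Nat.mul_div_cancel _ this
    set k := t ^ j with hkdef
    have hk1 : k ≠ 1 := by
      intro h; rw [h, orderOf_one] at hk; omega
    -- the centralizer of k is a 3-group
    have hCk : IsPGroup 3 (centralizer ({k} : Set G)) := by
      obtain ⟨g, hg⟩ := exists_conj_mem P (k := k) ⟨1, by rw [pow_one, ← hk, pow_orderOf_eq_one]⟩
      rw [hP] at hg
      have h4 : IsConj k (g * k * g⁻¹) := isConj_iff.mpr ⟨g, rfl⟩
      have h5 := card_centralizer_of_isConj h4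
      rw [h.cent _ hg (by rwa [Ne, conj_eq_one_iff]), h.card] at h5
      exact IsPGroup.of_card (n := 2) (by rw [h5]; norm_num)
    set t1 := u * t * u⁻¹ with ht1
    set t2 := u ^ 2 * t * (u ^ 2)⁻¹ with ht2
    set K := closure ({t, t1, t2} : Set G) with hK
    have hKC : K ≤ centralizer ({k} : Set G) := by
      rw [hK, closure_le]
      rintro x (rfl | rfl | rfl)
      · exact mem_centralizer_singleton_iff.mpr (Commute.refl _ |>.pow_right j)
      · exact mem_centralizer_singleton_iff.mpr (c1.pow_right j)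
      · exact mem_centralizer_singleton_iff.mpr (c2.pow_right j)
    have hKp : IsPGroup 3 K := hCk.to_le hKC
    have hup : IsPGroup 3 (zpowers u) := by
      apply IsPGroup.of_card (n := 1)
      rw [Nat.card_zpowers, orderOf_eq_prime hu3 hu1, pow_one]
    have hnorm : zpowers u ≤ normalizer (K : Set G) := by
      rw [zpowers_le]
      refine Subgroup.mem_normalizer_iff_map_conj_eq.mpr ?_
      show K.map (MulAut.conj u).toMonoidHom = K
      have h5 : K.map (MulAut.conj u).toMonoidHom = closure ((MulAut.conj u).toMonoidHom '' ({t, t1, t2} : Set G)) := by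
        rw [hK, MonoidHom.map_closure]
      rw [h5, hK]
      congr 1
      have e0 : (MulAut.conj u) t = t1 := by rw [MulAut.conj_apply]
      have e1 : (MulAut.conj u) t1 = t2 := by
        rw [MulAut.conj_apply, ht1, ht2]; simp only [pow_two]; group
      have e2 : (MulAut.conj u) t2 = t := by
        rw [MulAut.conj_apply, ht2]
        calc u * (u ^ 2 * t * (u ^ 2)⁻¹) * u⁻¹ = u ^ 3 * t * (u ^ 3)⁻¹ := by group
          _ = t := by rw [hu3]; group
      simp only [Set.image_insert_eq, Set.image_singleton, MulEquiv.coe_toMonoidHom, e0, e1, e2]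
      ext x
      simp only [Set.mem_insert_iff, Set.mem_singleton_iff]
      tauto
    have hsup := hup.to_sup_of_normal_right' hKp hnorm
    obtain ⟨P', hP'⟩ := hsup.exists_le_sylow
    have huP : u ∈ (P' : Subgroup G) := hP' (mem_sup_left (mem_zpowers u))
    have htP : t ∈ (P' : Subgroup G) := hP' (mem_sup_right (subset_closure (by simp)))
    have hcP : Nat.card P' = 3 ^ 2 := by
      have : Nat.card P' = Nat.card P := by rw [P'.card_eq_multiplicity, P.card_eq_multiplicity]
      rw [this]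
      have h6 : Nat.card P = Nat.card S := by rw [← hP]
      rw [h6, h.card]; norm_num
    have hcomm := IsPGroup.isMulCommutative_of_card_eq_prime_sq hcP
    have htS : t ∈ S := by
      rw [← h.cent u hu hu1, mem_centralizer_singleton_iff]
      exact congrArg Subtype.val (hcomm.is_comm.comm (⟨t, htP⟩ : P') ⟨u, huP⟩)
    rw [← e1]
    exact mul_mem hu htS
  · right
    constructor
    · have := isConj_mul_of_coprime hu3 h1 h2 h3
      rwa [e1] at this
    · have hu6 : (u ^ 2) ^ 3 = 1 := by rw [← pow_mul, mul_comm, pow_mul, hu3, one_pow]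
      have h4 : ((u ^ 2) ^ 2 * t) ^ 3 = 1 := by
        have : (u ^ 2) ^ 2 = u := by
          calc (u ^ 2) ^ 2 = u ^ 3 * u := by group
            _ = u := by rw [hu3, one_mul]
        rw [this, h1]
      have := isConj_mul_of_coprime hu6 h2 h4 h3
      rwa [e2] at this

open Classical in
/-- counting inside `S` -/
theorem CC.count [Fintype G] (h : CC S) (P : Sylow 3 G) (hP : (P : Subgroup G) = S) {u v w : G}
    (hu : u ∈ S) (hu1 : u ≠ 1) (hv : v ∈ S) (hv1 : v ≠ 1) (hw : w ∈ S)
    (hne : ¬ (IsConj u v ∧ IsConj (u ^ 2) w)) :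
    (Finset.univ.filter (fun x : G => IsConj (u * (x * v * x⁻¹)) w)).card =
      9 * (Finset.univ.filter (fun t : G => t ∈ S ∧ IsConj v t ∧ IsConj (u * t) w)).card := by
  rw [Finset.card_eq_sum_card_fiberwise (f := fun x => x * v * x⁻¹)
    (t := Finset.univ.filter (fun t : G => t ∈ S ∧ IsConj v t ∧ IsConj (u * t) w))]
  · rw [mul_comm, ← smul_eq_mul]
    apply Finset.sum_const_nat
    intro t ht
    rw [Finset.mem_filter] at ht
    have h1 : (Finset.univ.filter (fun x : G => IsConj (u * (x * v * x⁻¹)) w)).filter (fun x => x * v * x⁻¹ = t) =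
        Finset.univ.filter (fun x : G => x * v * x⁻¹ = t) := by
      ext x
      simp only [Finset.mem_filter, Finset.mem_univ, true_and]
      constructor
      · exact fun h => h.2
      · intro h
        exact ⟨by rw [h]; exact ht.2.2.2, h⟩
    rw [h1, card_fiber ht.2.2.1, h.cent v hv hv1, h.card]
  · intro x hx
    simp only [Finset.coe_filter, Finset.mem_univ, true_and, Set.mem_setOf_eq] at hx ⊢
    have hc : IsConj v (x * v * x⁻¹) := isConj_iff.mpr ⟨x, rfl⟩
    refine ⟨?_, hc, hx⟩
    have hv3 : (x * v * x⁻¹) ^ 3 = 1 := by rw [conj_pow, h.exp v hv]; group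
    have huv : (u * (x * v * x⁻¹)) ^ 3 = 1 := by
      obtain ⟨c, hc⟩ := isConj_iff.mp hx.symm
      rw [← hc, conj_pow, h.exp w hw]; group
    rcases h.triangle P hP hu hu1 hv3 huv with h1 | ⟨h1, h2⟩
    · exact h1
    · exact absurd ⟨h1.trans hc.symm, h2.trans hx⟩ hne

open Classical in
theorem CC.card_norm [Fintype G] (h : CC S) {s : G} (hs : s ∈ S) (hs1 : s ≠ 1) :
    Nat.card (normalizer (S : Set G)) = 9 * (Finset.univ.filter (fun t : G => t ∈ S ∧ IsConj s t)).card := by
  have h0 : Nat.card (normalizer (S : Set G)) = (Finset.univ.filter (fun x : G => x * s * x⁻¹ ∈ S)).card := by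
    rw [Nat.card_eq_fintype_card, Fintype.card_subtype]
    congr 1
    ext x
    simp only [Finset.mem_filter, Finset.mem_univ, true_and]
    constructor
    · intro hx
      exact (mem_normalizer_iff.mp hx s).mp hs
    · exact h.ti hs hs1
  rw [h0, Finset.card_eq_sum_card_fiberwise (f := fun x => x * s * x⁻¹)
    (t := Finset.univ.filter (fun t : G => t ∈ S ∧ IsConj s t))]
  · rw [mul_comm, ← smul_eq_mul]
    apply Finset.sum_const_nat
    intro t ht
    rw [Finset.mem_filter] at ht
    have h1 : (Finset.univ.filter (fun x : G => x * s * x⁻¹ ∈ S)).filter (fun x => x * s * x⁻¹ = t) =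
        Finset.univ.filter (fun x : G => x * s * x⁻¹ = t) := by
      ext x
      simp only [Finset.mem_filter, Finset.mem_univ, true_and]
      constructor
      · exact fun h => h.2
      · intro h
        exact ⟨by rw [h]; exact ht.2.1, h⟩
    rw [h1, card_fiber ht.2.2, h.cent s hs hs1, h.card]
  · intro x hx
    simp only [Finset.coe_filter, Finset.mem_univ, true_and, Set.mem_setOf_eq] at hx ⊢
    exact ⟨hx, isConj_iff.mpr ⟨x, rfl⟩⟩

/-- values on real elements of order 3 -/
theorem int_val_three {x : G} (hx : orderOf x = 3) (hr : IsConj x x⁻¹) (χ : IrrCharacter G) :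
    ∃ a : ℤ, (χ : G → ℂ) x = a ∧ (3 : ℤ) ∣ H75.deg χ - a := by
  have hcard : Nat.card (zpowers x) = 3 := by rw [Nat.card_zpowers, hx]
  obtain ⟨a, ha, hd⟩ := H33.int_val_of_const (zpowers x) (x := x) (by rw [hcard]; norm_num)
    (irr_isCharacter χ) (H75.deg_spec χ) (by
      intro y hy hy1
      classical
      rw [(isOfFinOrder_of_finite x).mem_zpowers_iff_mem_range_orderOf, hx] at hy
      simp only [Finset.mem_image, Finset.mem_range] at hy
      obtain ⟨i, hi, rfl⟩ := hy
      interval_cases i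
      · simp at hy1
      · rw [pow_one]
      · have : x ^ 2 = x⁻¹ := by
          symm
          rw [inv_eq_iff_mul_eq_one, ← pow_succ', show 2 + 1 = orderOf x by rw [hx], pow_orderOf_eq_one]
        rw [this]
        exact (classFun_eq_of_isConj (irr_isClassFunction χ) hr).symm)
  rw [hcard] at hd
  exact ⟨a, ha, hd⟩

theorem deg_one [Fintype (IrrCharacter G)] : (H75.deg (oneIrr G) : ℤ) = 1 := by
  have := H75.deg_spec (oneIrr G)
  rw [oneIrr_apply] at this
  exact_mod_cast this.symm

theorem eq_oneIrr_of_perfect (hG : commutator G = ⊤) {ψ : IrrCharacter G} (h : (H75.deg ψ : ℤ) = 1) :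
    ψ = oneIrr G := by
  have h1 : (ψ : G → ℂ) 1 = 1 := by
    rw [H75.deg_spec]
    exact_mod_cast h
  by_contra hne
  exact H79.commutator_ne_top_of_linear (irr_isCharacter ψ) h1 (fun h2 => hne (Subtype.ext h2)) hG

theorem higman_card [IsSimpleGroup G] (h : CC S) (P : Sylow 3 G) (hP : (P : Subgroup G) = S)
    {s₁ s₂ : G} (h1 : s₁ ∈ S) (h11 : s₁ ≠ 1) (h2 : s₂ ∈ S) (h21 : s₂ ≠ 1) (h12 : ¬ IsConj s₁ s₂) :
    Nat.card G = 360 := by
  classical
  haveI := Fintype.ofFinite G
  haveI := Fintype.ofFinite (IrrCharacter G)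
  have h9G : 9 ∣ Nat.card G := by rw [← h.card]; exact card_subgroup_dvd_card S
  have hGc : ¬ IsMulCommutative G := by
    apply H17.not_comm_of_not_prime
    intro hp
    have := (Nat.dvd_prime hp).mp (dvd_trans (by norm_num : 3 ∣ 9) h9G)
    rcases this with h | h
    · omega
    · rw [← h] at h9G; omega
  have hperf := H17.commutator_eq_top hGc
  have h3G : 3 ∣ Nat.card G := dvd_trans (by norm_num : 3 ∣ 9) h9G
  -- class sizes in S
  set E : G → Finset G := fun s => Finset.univ.filter (fun t : G => t ∈ S ∧ IsConj s t) with hE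
  have hN : ∀ s ∈ S, s ≠ 1 → Nat.card (normalizer (S : Set G)) = 9 * (E s).card := fun s hs hs1 =>
    h.card_norm hs hs1
  have hmE : ∀ s t : G, t ∈ E s ↔ t ∈ S ∧ IsConj s t := fun s t => by simp [hE]
  set e := (E s₁).card with he
  have hEe : ∀ s ∈ S, s ≠ 1 → (E s).card = e := by
    intro s hs hs1
    have := hN s hs hs1
    rw [hN s₁ h1 h11] at this
    omega
  set F := (Finset.univ.filter (fun t : G => t ∈ S)).erase 1 with hF
  have hFc : F.card = 8 := by
    rw [hF, Finset.card_erase_of_mem (by simp [one_mem])]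
    have : (Finset.univ.filter (fun t : G => t ∈ S)).card = 9 := by
      rw [← h.card, Nat.card_eq_fintype_card, Fintype.card_subtype]
    omega
  have hEF : ∀ s ∈ S, s ≠ 1 → E s ⊆ F := by
    intro s hs hs1 t ht
    rw [hmE] at ht
    rw [hF, Finset.mem_erase, Finset.mem_filter]
    refine ⟨?_, Finset.mem_univ _, ht.1⟩
    rintro rfl
    exact hs1 (isConj_one_right.mp ht.2.symm)
  have hdis : Disjoint (E s₁) (E s₂) := by
    rw [Finset.disjoint_left]
    intro t ht ht'
    rw [hmE] at ht ht'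
    exact h12 (ht.2.trans ht'.2.symm)
  have hele : e ≤ 4 := by
    have h3 : (E s₁ ∪ E s₂).card ≤ F.card :=
      Finset.card_le_card (Finset.union_subset (hEF s₁ h1 h11) (hEF s₂ h2 h21))
    rw [Finset.card_union_of_disjoint hdis, hEe s₂ h2 h21, hFc] at h3
    omega
  have he0 : e ≠ 0 := by
    rw [he, Finset.card_ne_zero]
    exact ⟨s₁, (hmE _ _).mpr ⟨h1, IsConj.refl _⟩⟩
  have hNG := H17.card_normalizer_mul P
  rw [hP, hN s₁ h1 h11, ← he] at hNG
  have he3 : e ≠ 3 := by
    intro h3
    rw [h3] at hNG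
    have h4 := (P : Subgroup G).card_mul_index
    rw [hP, h.card, ← hNG] at h4
    have h5 : ¬ 3 ∣ S.index := by rw [← hP]; exact P.not_dvd_index
    apply h5
    exact ⟨Nat.card (Sylow 3 G), by omega⟩
  have hSN : S ≤ normalizer (S : Set G) := le_normalizer
  have hNe := hN s₁ h1 h11
  rw [← he] at hNe
  have he1 : e ≠ 1 := by
    intro h3
    rw [h3] at hNe
    have h4 : S = normalizer (S : Set G) := Subgroup.eq_of_le_of_card_ge hSN (by rw [h.card]; omega)
    apply H17.not_normalizer_le_centralizer hGc h3G P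
    rw [hP, ← h4]
    intro x hx
    rw [mem_centralizer_iff]
    intro y hy
    exact h.comm y hy x hx
  have he24 : e = 2 ∨ e = 4 := by omega
  -- an involution in the normalizer
  obtain ⟨j, hj⟩ : ∃ j : normalizer (S : Set G), orderOf j = 2 := by
    apply exists_prime_orderOf_dvd_card'
    rw [hNe]
    rcases he24 with h | h <;> rw [h] <;> norm_num
  have hj2 : (j : G) * j = 1 := by
    have := pow_orderOf_eq_one j
    rw [hj, pow_two] at this
    exact congrArg Subtype.val this
  have hjS : (j : G) ∉ S := by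
    intro hjS
    have h3 := h.exp _ hjS
    rw [pow_succ, pow_two, hj2, one_mul] at h3
    have : j = 1 := Subtype.ext h3
    rw [this, orderOf_one] at hj
    omega
  have hinv : ∀ s ∈ S, IsConj s s⁻¹ := by
    intro s hs
    have hjs : (j : G) * s * (j : G)⁻¹ ∈ S := (mem_normalizer_iff.mp j.2 s).mp hs
    have hjinv : (j : G)⁻¹ = j := inv_eq_of_mul_eq_one_left hj2
    set y := s * ((j : G) * s * (j : G)⁻¹) with hy
    have hyS : y ∈ S := mul_mem hs hjs
    have hjy : (j : G) ∈ centralizer ({y} : Set G) := by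
      rw [mem_centralizer_singleton_iff]
      have h3 := h.comm s hs _ hjs
      calc (j : G) * y = (j : G) * s * (j : G)⁻¹ * ((j : G) * j) * s * (j : G)⁻¹ := by rw [hy]; group
        _ = (j : G) * s * (j : G)⁻¹ * s * (j : G)⁻¹ := by rw [hj2]; group
        _ = s * ((j : G) * s * (j : G)⁻¹) * (j : G)⁻¹ := by rw [← h3]
        _ = y * j := by rw [← hy, hjinv]
    by_cases hy1 : y = 1
    · rw [isConj_iff]
      exact ⟨j, eq_inv_of_mul_eq_one_right hy1⟩
    · rw [h.cent y hyS hy1] at hjy
      exact absurd hjy hjS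
  have hord : ∀ s ∈ S, s ≠ 1 → orderOf s = 3 := fun s hs hs1 => orderOf_eq_prime (h.exp s hs) hs1
  have hsq : ∀ s ∈ S, s * s = s⁻¹ := by
    intro s hs
    rw [eq_inv_iff_mul_eq_one, ← h.exp s hs]; simp only [pow_succ, pow_zero, one_mul]
  have hninv : ∀ s ∈ S, s ≠ 1 → s ≠ s⁻¹ := by
    intro s hs hs1 h3
    have h4 := hsq s hs
    rw [← h3] at h4
    exact hs1 (mul_eq_left.mp h4)
  have hinv1 : ∀ s : G, s ≠ 1 → s⁻¹ ≠ 1 := fun s hs h => hs (inv_eq_one.mp h)
  have hcent9 : ∀ s ∈ S, s ≠ 1 → Nat.card (centralizer ({s} : Set G)) = 9 := fun s hs hs1 => by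
    rw [h.cent s hs hs1, h.card]
  -- integral columns
  have hval : ∀ s : G, ∃ a : IrrCharacter G → ℤ, s ∈ S → s ≠ 1 →
      (∀ χ : IrrCharacter G, (χ : G → ℂ) s = a χ) ∧ ∀ χ, (3 : ℤ) ∣ H75.deg χ - a χ := by
    intro s
    by_cases hs : s ∈ S ∧ s ≠ 1
    · choose a ha hd using int_val_three (hord s hs.1 hs.2) (hinv s hs.1)
      exact ⟨a, fun _ _ => ⟨ha, hd⟩⟩
    · exact ⟨0, fun h3 h4 => absurd ⟨h3, h4⟩ hs⟩
  choose val hval using hval
  have hcol : ∀ s ∈ S, s ≠ 1 → ∀ t ∈ S, t ≠ 1 → ∑ χ, val s χ * val t χ = if IsConj s t then (9 : ℤ) else 0 := by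
    intro s hs hs1 t ht ht1
    rw [col_int (hval s hs hs1).1 (hval t ht ht1).1, hcent9 s hs hs1]
    by_cases hst : IsConj s t
    · rw [if_pos hst, if_pos hst]; norm_num
    · rw [if_neg hst, if_neg hst]
  have hcd : ∀ s ∈ S, s ≠ 1 → ∑ χ, val s χ * (H75.deg χ : ℤ) = 0 := fun s hs hs1 =>
    col_deg hs1 (hval s hs hs1).1
  have hone : ∀ s ∈ S, s ≠ 1 → val s (oneIrr G) = 1 := by
    intro s hs hs1
    have := (hval s hs hs1).1 (oneIrr G)
    rw [oneIrr_apply] at this
    exact_mod_cast this.symm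
  have hdpos : ∀ χ : IrrCharacter G, 0 < (H75.deg χ : ℤ) := fun χ => by exact_mod_cast H75.deg_pos χ
  have h3d : ∀ s ∈ S, s ≠ 1 → ∀ t ∈ S, t ≠ 1 → ∀ χ, (3 : ℤ) ∣ val s χ - val t χ := by
    intro s hs hs1 t ht ht1 χ
    have h3 := (hval s hs hs1).2 χ
    have h4 := (hval t ht ht1).2 χ
    omega
  rcases he24 with he2 | he4
  · -- four classes
    exfalso
    have hcls : ∀ s ∈ S, s ≠ 1 → ∀ t ∈ S, IsConj s t → t = s ∨ t = s⁻¹ := by
      intro s hs hs1 t ht hst
      have hsub : ({s, s⁻¹} : Finset G) ⊆ E s := by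
        intro x hx
        simp only [Finset.mem_insert, Finset.mem_singleton] at hx
        rw [hmE]
        rcases hx with rfl | rfl
        · exact ⟨hs, IsConj.refl _⟩
        · exact ⟨inv_mem hs, hinv s hs⟩
      have hc2 : ({s, s⁻¹} : Finset G).card = 2 := Finset.card_pair (hninv s hs hs1)
      have heq := Finset.eq_of_subset_of_card_le hsub (by rw [hc2, hEe s hs hs1, he2])
      have : t ∈ E s := (hmE _ _).mpr ⟨ht, hst⟩
      rw [← heq] at this
      simpa using this
    have hc := h.comm s₁ h1 s₂ h2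
    set s₃ := s₁ * s₂ with hs3
    set s₄ := s₁ * s₂⁻¹ with hs4
    have h3 : s₃ ∈ S := mul_mem h1 h2
    have h4 : s₄ ∈ S := mul_mem h1 (inv_mem h2)
    have ne12 : s₁ ≠ s₂ := fun h => h12 (h ▸ IsConj.refl _)
    have ne12' : s₁⁻¹ ≠ s₂ := fun h => h12 (h ▸ hinv s₁ h1)
    have q1 := hsq s₁ h1
    have q2 := hsq s₂ h2
    have h31 : s₃ ≠ 1 := fun h => ne12' (inv_eq_of_mul_eq_one_right h)
    have h41 : s₄ ≠ 1 := fun h => ne12 (mul_inv_eq_one.mp h)
    have n13 : ¬ IsConj s₁ s₃ := by
      intro hcj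
      rcases hcls s₁ h1 h11 s₃ h3 hcj with h5 | h5
      · exact h21 (mul_eq_left.mp h5)
      · rw [← q1] at h5
        exact ne12 (mul_left_cancel h5).symm
    have n14 : ¬ IsConj s₁ s₄ := by
      intro hcj
      rcases hcls s₁ h1 h11 s₄ h4 hcj with h5 | h5
      · exact hinv1 _ h21 (mul_eq_left.mp h5)
      · rw [← q1] at h5
        have h6 := mul_left_cancel h5
        exact ne12' (by rw [← h6, inv_inv])
    have n23 : ¬ IsConj s₂ s₃ := by
      intro hcj
      rcases hcls s₂ h2 h21 s₃ h3 hcj with h5 | h5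
      · exact h11 (mul_eq_right.mp h5)
      · rw [← q2] at h5
        exact ne12 (mul_right_cancel h5)
    have n24 : ¬ IsConj s₂ s₄ := by
      intro hcj
      rcases hcls s₂ h2 h21 s₄ h4 hcj with h5 | h5
      · have h6 : s₁ = s₄ * s₂ := by rw [hs4]; group
        rw [h5, q2] at h6
        exact ne12' (by rw [h6, inv_inv])
      · exact h11 (mul_eq_right.mp h5)
    have n34 : ¬ IsConj s₃ s₄ := by
      intro hcj
      rcases hcls s₃ h3 h31 s₄ h4 hcj with h5 | h5
      · exact hninv s₂ h2 h21 (mul_left_cancel h5).symm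
      · have h6 : s₁ * s₂⁻¹ = s₁⁻¹ * s₂⁻¹ := by
          rw [← hs4, h5, ← mul_inv_rev, ← hc]
        exact hninv s₁ h1 h11 (mul_right_cancel h6)
    have hf : ∀ t ∈ S, t ≠ 1 → ¬ IsConj s₁ t → ∃ f : IrrCharacter G → ℤ, (∀ χ, val s₁ χ - val t χ = 3 * f χ) := by
      intro t ht ht1 _
      choose f hf using h3d s₁ h1 h11 t ht ht1
      exact ⟨f, hf⟩
    obtain ⟨f2, hf2⟩ := hf s₂ h2 h21 h12
    obtain ⟨f3, hf3⟩ := hf s₃ h3 h31 n13
    obtain ⟨f4, hf4⟩ := hf s₄ h4 h41 n14
    have gram : ∀ {t t' : G} {f f' : IrrCharacter G → ℤ}, t ∈ S → t ≠ 1 → t' ∈ S → t' ≠ 1 →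
        ¬ IsConj s₁ t → ¬ IsConj s₁ t' → (∀ χ, val s₁ χ - val t χ = 3 * f χ) →
        (∀ χ, val s₁ χ - val t' χ = 3 * f' χ) →
        9 * ∑ χ, f χ * f' χ = 9 + if IsConj t t' then 9 else 0 := by
      intro t t' f f' ht ht1 ht' ht1' hn hn' hf hf'
      have e1 : ∑ χ, (val s₁ χ - val t χ) * (val s₁ χ - val t' χ) = 9 * ∑ χ, f χ * f' χ := by
        rw [Finset.mul_sum]
        exact Finset.sum_congr rfl fun χ _ => by rw [hf, hf']; ring
      rw [← e1]
      have e2 : ∀ χ, (val s₁ χ - val t χ) * (val s₁ χ - val t' χ) = val s₁ χ * val s₁ χ - val s₁ χ * val t' χ -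
          val s₁ χ * val t χ + val t χ * val t' χ := fun χ => by ring
      simp only [e2, Finset.sum_add_distrib, Finset.sum_sub_distrib]
      rw [hcol s₁ h1 h11 s₁ h1 h11, hcol s₁ h1 h11 t' ht' ht1', hcol s₁ h1 h11 t ht ht1, hcol t ht ht1 t' ht' ht1',
        if_pos (IsConj.refl _), if_neg hn, if_neg hn']
      ring
    have hfd : ∀ {t : G} {f : IrrCharacter G → ℤ}, t ∈ S → t ≠ 1 → (∀ χ, val s₁ χ - val t χ = 3 * f χ) →
        ∑ χ, f χ * (H75.deg χ : ℤ) = 0 := by
      intro t f ht ht1 hf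
      have e1 : ∑ χ, (val s₁ χ - val t χ) * (H75.deg χ : ℤ) = 3 * ∑ χ, f χ * (H75.deg χ : ℤ) := by
        rw [Finset.mul_sum]
        exact Finset.sum_congr rfl fun χ _ => by rw [hf]; ring
      simp only [sub_mul, Finset.sum_sub_distrib] at e1
      rw [hcd s₁ h1 h11, hcd t ht ht1] at e1
      omega
    have haf : ∀ {t : G} {f : IrrCharacter G → ℤ}, t ∈ S → t ≠ 1 → ¬ IsConj s₁ t →
        (∀ χ, val s₁ χ - val t χ = 3 * f χ) → ∑ χ, val s₁ χ * f χ = 3 := by
      intro t f ht ht1 hn hf
      have e1 : ∑ χ, val s₁ χ * (val s₁ χ - val t χ) = 3 * ∑ χ, val s₁ χ * f χ := by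
        rw [Finset.mul_sum]
        exact Finset.sum_congr rfl fun χ _ => by rw [hf]; ring
      simp only [mul_sub, Finset.sum_sub_distrib] at e1
      rw [hcol s₁ h1 h11 s₁ h1 h11, hcol s₁ h1 h11 t ht ht1, if_pos (IsConj.refl _), if_neg hn] at e1
      omega
    have hfo : ∀ {t : G} {f : IrrCharacter G → ℤ}, t ∈ S → t ≠ 1 →
        (∀ χ, val s₁ χ - val t χ = 3 * f χ) → f (oneIrr G) = 0 := by
      intro t f ht ht1 hf
      have := hf (oneIrr G)
      rw [hone s₁ h1 h11, hone t ht ht1] at this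
      omega
    have g22 := gram h2 h21 h2 h21 h12 h12 hf2 hf2
    have g33 := gram h3 h31 h3 h31 n13 n13 hf3 hf3
    have g44 := gram h4 h41 h4 h41 n14 n14 hf4 hf4
    have g23 := gram h2 h21 h3 h31 h12 n13 hf2 hf3
    have g24 := gram h2 h21 h4 h41 h12 n14 hf2 hf4
    have g34 := gram h3 h31 h4 h41 n13 n14 hf3 hf4
    rw [if_pos (IsConj.refl _)] at g22 g33 g44
    rw [if_neg n23] at g23
    rw [if_neg n24] at g24
    rw [if_neg n34] at g34
    have hT : ∑ χ, (val s₁ χ : ℝ) ^ 2 * (val s₁ χ - 3 * f2 χ) / ((H75.deg χ : ℤ) : ℝ) = 0 := by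
      have hcr := count_real (hval s₁ h1 h11).1 (hval s₁ h1 h11).1 (hval s₂ h2 h21).1
      have hcnt := h.count P hP h1 h11 h1 h11 h2 (by
        rintro ⟨-, h5⟩
        rw [pow_two, q1] at h5
        exact h12 ((hinv s₁ h1).trans h5))
      have hemp : (Finset.univ.filter (fun t : G => t ∈ S ∧ IsConj s₁ t ∧ IsConj (s₁ * t) s₂)) = ∅ := by
        rw [Finset.filter_eq_empty_iff]
        rintro t - ⟨ht, ht1, ht2⟩
        rcases hcls s₁ h1 h11 t ht ht1 with rfl | rfl
        · rw [q1] at ht2
          exact h12 ((hinv t h1).trans ht2)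
        · rw [mul_inv_cancel] at ht2
          exact h21 (isConj_one_right.mp ht2)
      rw [hemp, Finset.card_empty, mul_zero] at hcnt
      rw [hcnt] at hcr
      simp only [Nat.cast_zero, mul_zero] at hcr
      have hGne : (Nat.card G : ℝ) ≠ 0 := by exact_mod_cast Nat.card_pos.ne'
      have hz := (mul_eq_zero.mp hcr.symm).resolve_left hGne
      rw [← hz]
      refine Finset.sum_congr rfl fun χ _ => ?_
      have h5 : (val s₂ χ : ℝ) = val s₁ χ - 3 * f2 χ := by
        have h6 := hf2 χ
        have h7 : val s₂ χ = val s₁ χ - 3 * f2 χ := by omega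
        rw [h7]; push_cast; ring
      rw [h5]; ring
    obtain ⟨ψ, hψ, hψ1⟩ := case2 (o := oneIrr G) hdpos (hone s₁ h1 h11) deg_one
      (by simp only [pow_two]; rw [hcol s₁ h1 h11 s₁ h1 h11, if_pos (IsConj.refl _)]) (hcd s₁ h1 h11)
      (hfo h2 h21 hf2) (hfo h3 h31 hf3) (hfo h4 h41 hf4)
      (by simp only [pow_two]; omega) (by simp only [pow_two]; omega) (by simp only [pow_two]; omega)
      (by omega) (by omega) (by omega) (hfd h2 h21 hf2) (hfd h3 h31 hf3) (hfd h4 h41 hf4)
      (haf h2 h21 h12 hf2) (haf h3 h31 n13 hf3) (haf h4 h41 n14 hf4) hT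
    exact hψ (eq_oneIrr_of_perfect hperf hψ1)
  · -- two classes
    have hFu : E s₁ ∪ E s₂ = F := by
      apply Finset.eq_of_subset_of_card_le (Finset.union_subset (hEF s₁ h1 h11) (hEF s₂ h2 h21))
      rw [Finset.card_union_of_disjoint hdis, hEe s₂ h2 h21, hFc, ← he, he4]
    have hother : ∀ t ∈ S, t ≠ 1 → ¬ IsConj s₁ t → IsConj s₂ t := by
      intro t ht ht1 hn
      have : t ∈ F := by
        rw [hF, Finset.mem_erase, Finset.mem_filter]
        exact ⟨ht1, Finset.mem_univ _, ht⟩
      rw [← hFu, Finset.mem_union, hmE, hmE] at this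
      rcases this with h5 | h5
      · exact absurd h5.2 hn
      · exact h5.2
    -- a further element of the first class
    obtain ⟨c, hcE, hcn⟩ : ∃ c ∈ E s₁, c ∉ ({s₁, s₁⁻¹} : Finset G) := by
      by_contra hcon
      push Not at hcon
      have h5 : E s₁ ⊆ ({s₁, s₁⁻¹} : Finset G) := hcon
      have h6 := Finset.card_le_card h5
      have h7 : ({s₁, s₁⁻¹} : Finset G).card ≤ 2 := Finset.card_le_two
      omega
    simp only [Finset.mem_insert, Finset.mem_singleton, not_or] at hcn
    rw [hmE] at hcE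
    obtain ⟨hcS, hc1⟩ := hcE
    have hc11 : c ≠ 1 := by
      rintro rfl
      exact h11 (isConj_one_right.mp hc1.symm)
    have q1 := hsq s₁ h1
    have qc := hsq c hcS
    have hcinv : c⁻¹ ≠ s₁ ∧ c⁻¹ ≠ s₁⁻¹ := by
      constructor
      · intro h5; exact hcn.2 (by rw [← h5, inv_inv])
      · intro h5; exact hcn.1 (inv_injective h5)
    have hEs : E s₁ = {s₁, s₁⁻¹, c, c⁻¹} := by
      symm
      apply Finset.eq_of_subset_of_card_le
      · intro x hx
        simp only [Finset.mem_insert, Finset.mem_singleton] at hx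
        rw [hmE]
        rcases hx with rfl | rfl | rfl | rfl
        · exact ⟨h1, IsConj.refl _⟩
        · exact ⟨inv_mem h1, hinv _ h1⟩
        · exact ⟨hcS, hc1⟩
        · exact ⟨inv_mem hcS, hc1.trans (hinv _ hcS)⟩
      · rw [← he, he4]
        rw [Finset.card_insert_of_notMem, Finset.card_insert_of_notMem, Finset.card_pair (hninv c hcS hc11)]
        · simp only [Finset.mem_insert, Finset.mem_singleton, not_or]
          exact ⟨fun h => hcn.2 h.symm, fun h => hcinv.2 h.symm⟩
        · simp only [Finset.mem_insert, Finset.mem_singleton, not_or]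
          exact ⟨hninv s₁ h1 h11, fun h => hcn.1 h.symm, fun h => hcinv.1 h.symm⟩
    -- products
    have hprod : ∀ d : G, d ∈ S → d ≠ 1 → d ≠ s₁ → d ≠ s₁⁻¹ → IsConj s₁ d → (d = c ∨ d = c⁻¹) →
        IsConj (s₁ * d) s₂ := by
      intro d hd hd1 hds hds' hsd hdc
      have hm : s₁ * d ∈ S := mul_mem h1 hd
      have hm1 : s₁ * d ≠ 1 := fun h5 => hds' (inv_eq_of_mul_eq_one_right h5).symm
      apply (hother _ hm hm1 _).symm
      intro hcj
      have h5 : s₁ * d ∈ E s₁ := (hmE _ _).mpr ⟨hm, hcj⟩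
      rw [hEs] at h5
      simp only [Finset.mem_insert, Finset.mem_singleton] at h5
      have qd := hsq d hd
      rcases h5 with h5 | h5 | h5 | h5
      · exact hd1 (mul_eq_left.mp h5)
      · rw [← q1] at h5
        exact hds (mul_left_cancel h5)
      · rcases hdc with rfl | rfl
        · exact h11 (mul_eq_right.mp h5)
        · have h6 : s₁ = s₁ * c⁻¹ * c := by group
          rw [h5, qc] at h6
          exact hds h6.symm
      · rcases hdc with rfl | rfl
        · rw [← qc] at h5
          exact hds (mul_right_cancel h5).symm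
        · exact h11 (mul_eq_right.mp h5)
    have hset : (Finset.univ.filter (fun t : G => t ∈ S ∧ IsConj s₁ t ∧ IsConj (s₁ * t) s₂)) = {c, c⁻¹} := by
      ext t
      simp only [Finset.mem_filter, Finset.mem_univ, true_and, Finset.mem_insert, Finset.mem_singleton]
      constructor
      · rintro ⟨ht, ht1, ht2⟩
        have h5 : t ∈ E s₁ := (hmE _ _).mpr ⟨ht, ht1⟩
        rw [hEs] at h5
        simp only [Finset.mem_insert, Finset.mem_singleton] at h5
        rcases h5 with rfl | rfl | h5 | h5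
        · rw [q1] at ht2
          exact absurd ((hinv t h1).trans ht2) h12
        · rw [mul_inv_cancel] at ht2
          exact absurd (isConj_one_right.mp ht2) h21
        · exact Or.inl h5
        · exact Or.inr h5
      · rintro (rfl | rfl)
        · exact ⟨hcS, hc1, hprod _ hcS hc11 hcn.1 hcn.2 hc1 (Or.inl rfl)⟩
        · exact ⟨inv_mem hcS, hc1.trans (hinv _ hcS), hprod _ (inv_mem hcS) (hinv1 _ hc11) hcinv.1 hcinv.2
            (hc1.trans (hinv _ hcS)) (Or.inr rfl)⟩
    have hcnt := h.count P hP h1 h11 h1 h11 h2 (by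
      rintro ⟨-, h5⟩
      rw [pow_two, q1] at h5
      exact h12 ((hinv s₁ h1).trans h5))
    rw [hset, Finset.card_pair (hninv c hcS hc11)] at hcnt
    have hcr := count_real (hval s₁ h1 h11).1 (hval s₁ h1 h11).1 (hval s₂ h2 h21).1
    rw [hcnt, hcent9 s₂ h2 h21] at hcr
    -- the congruence modulo 9
    have h9 : ∀ χ, (9 : ℤ) ∣ (H75.deg χ : ℤ) + 4 * (val s₁ χ + val s₂ χ) := by
      intro χ
      haveI := Fintype.ofFinite S
      obtain ⟨n, hn⟩ := classInner_natCast (isCharacter_restrict (irr_isCharacter χ) S)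
        (isCharacter_of_isIrr (isIrrCharacter_one (G := S)))
      have hsum : ∑ y : S, (χ : G → ℂ) y = (9 : ℂ) * n := by
        rw [← hn]
        unfold classInner
        rw [h.card]
        push_cast
        rw [mul_inv_cancel_left₀ (by norm_num)]
        simp
      have hsum2 : ∑ y : S, (χ : G → ℂ) y = ∑ y ∈ Finset.univ.filter (fun t : G => t ∈ S), (χ : G → ℂ) y := by
        rw [Finset.sum_subtype (p := fun t => t ∈ S)]
        intro x; simp
      have hsum3 : ∑ y ∈ Finset.univ.filter (fun t : G => t ∈ S), (χ : G → ℂ) y =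
          (χ : G → ℂ) 1 + (4 * val s₁ χ + 4 * val s₂ χ) := by
        rw [← Finset.add_sum_erase _ _ (show (1 : G) ∈ Finset.univ.filter (fun t : G => t ∈ S) by simp [one_mem]),
          ← hF, ← hFu, Finset.sum_union hdis]
        congr 2
        · rw [Finset.sum_congr rfl (g := fun _ => (val s₁ χ : ℂ))]
          · rw [Finset.sum_const, ← he, he4, nsmul_eq_mul]; norm_num
          · intro x hx
            rw [hmE] at hx
            rw [← (hval s₁ h1 h11).1 χ]
            exact (classFun_eq_of_isConj (irr_isClassFunction χ) hx.2).symm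
        · rw [Finset.sum_congr rfl (g := fun _ => (val s₂ χ : ℂ))]
          · rw [Finset.sum_const, hEe s₂ h2 h21, he4, nsmul_eq_mul]; norm_num
          · intro x hx
            rw [hmE] at hx
            rw [← (hval s₂ h2 h21).1 χ]
            exact (classFun_eq_of_isConj (irr_isClassFunction χ) hx.2).symm
      refine ⟨n, ?_⟩
      rw [hsum2, hsum3, H75.deg_spec] at hsum
      have : (((H75.deg χ : ℤ) + 4 * (val s₁ χ + val s₂ χ) : ℤ) : ℂ) = ((9 * n : ℤ) : ℂ) := by
        push_cast
        rw [← hsum]; ring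
      exact_mod_cast this
    have hT := case4 (o := oneIrr G) hdpos (hone s₁ h1 h11) (hone s₂ h2 h21) deg_one
      (by simp only [pow_two]; rw [hcol s₁ h1 h11 s₁ h1 h11, if_pos (IsConj.refl _)])
      (by simp only [pow_two]; rw [hcol s₂ h2 h21 s₂ h2 h21, if_pos (IsConj.refl _)])
      (by rw [hcol s₁ h1 h11 s₂ h2 h21, if_neg h12]) (hcd s₁ h1 h11) (hcd s₂ h2 h21)
      (h3d s₁ h1 h11 s₂ h2 h21) h9
    have hTeq : ∑ χ, (val s₁ χ : ℝ) * val s₁ χ * val s₂ χ / ((H75.deg χ : ℤ) : ℝ) =
        ∑ χ, (val s₁ χ : ℝ) ^ 2 * val s₂ χ / ((H75.deg χ : ℤ) : ℝ) :=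
      Finset.sum_congr rfl fun χ _ => by ring
    rw [hTeq] at hcr
    have hle : Nat.card G ≤ 720 := by
      have hG0 : (0 : ℝ) < Nat.card G := by exact_mod_cast Nat.card_pos
      have h5 : (Nat.card G : ℝ) * (9 / 40) ≤ 162 := by
        have := mul_le_mul_of_nonneg_left hT hG0.le
        rw [← hcr] at this
        push_cast at this
        linarith
      have h6 : (Nat.card G : ℝ) ≤ 720 := by linarith
      exact_mod_cast h6
    -- number of Sylow subgroups
    set n := Nat.card (Sylow 3 G) with hn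
    rw [he4] at hNG
    have hmod : n ≡ 1 [MOD 3 ^ 2] := by
      apply H17.card_sylow_modEq_of_large_index P
      intro R hR
      have h5 : (R : Subgroup G).subgroupOf (P : Subgroup G) = ⊥ := by
        rw [Subgroup.subgroupOf_eq_bot, disjoint_iff, eq_bot_iff]
        rintro x ⟨hxR, hxP⟩
        rw [mem_bot]
        by_contra hx1
        apply hR
        have hxS : x ∈ S := by rw [← hP]; exact hxP
        obtain ⟨g, hg⟩ := MulAction.exists_smul_eq G R P
        have hgx : g * x * g⁻¹ ∈ S := by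
          rw [← hP, ← hg]
          exact ⟨x, hxR, by simp⟩
        have hgN := h.ti hxS hx1 hgx
        have hgN' : g • P = P := by
          rw [Sylow.smul_eq_iff_mem_normalizer]
          show g ∈ normalizer ((P : Subgroup G) : Set G)
          rw [hP]
          exact hgN
        have : g • R = g • P := by rw [hg, hgN']
        exact MulAction.injective g this
      have hPc : Nat.card P = 9 := by
        have h6 : Nat.card P = Nat.card S := by rw [← hP]
        rw [h6, h.card]
      rw [h5, Subgroup.index_bot, hPc]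
      norm_num
    have hn1 : n ≠ 1 := H17.card_sylow_ne_one hGc h3G
    have hmod' : n % 9 = 1 := hmod
    have hn20 : n ≤ 20 := by omega
    have hn' : n = 10 ∨ n = 19 := by omega
    rcases hn' with h5 | h5
    · rw [← hNG, h5]
    · exfalso
      rw [h5] at hNG
      haveI : Fact (Nat.Prime 19) := ⟨by norm_num⟩
      have h6 := H17.card_sylow_mem (p := 19) (G := G) (k := 1) (m := 36) (by rw [← hNG]; norm_num) (by norm_num)
      have h7 : Nat.card (Sylow 19 G) ≠ 1 := H17.card_sylow_ne_one hGc (by rw [← hNG]; norm_num)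
      rw [Finset.mem_filter] at h6
      have h8 := h6.1
      rw [show Nat.divisors 36 = {1, 2, 3, 4, 6, 9, 12, 18, 36} by decide +kernel] at h8
      simp only [Finset.mem_insert, Finset.mem_singleton] at h8
      have h9 := h6.2
      omega

end Cfsg.Agent.H67.Col
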