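import Cfsg.Agent.H67.ColCount

set_option autoImplicit false

/-!
# Integral columns for a self-centralizing Sylow 3-subgroup of order 9 (helper67)
-/

namespace Cfsg.Agent.H67.Col

variable {I : Type*} [Fintype I] [DecidableEq I]

theorem split3 {M : Type*} [AddCommMonoid M] {o p q : I} (hop : o ≠ p) (hoq : o ≠ q) (hpq : p ≠ q) (g : I → M) :
    ∑ i, g i = g o + (g p + (g q + ∑ i ∈ ((Finset.univ.erase o).erase p).erase q, g i)) := by
  rw [Finset.add_sum_erase _ _ (Finset.mem_erase.mpr ⟨hpq.symm, Finset.mem_erase.mpr ⟨hoq.symm, Finset.mem_univ q⟩⟩),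
    Finset.add_sum_erase _ _ (Finset.mem_erase.mpr ⟨hop.symm, Finset.mem_univ p⟩),
    Finset.add_sum_erase _ _ (Finset.mem_univ o)]

/-- two classes -/
theorem case4 {o : I} {deg a b : I → ℤ} (hdeg : ∀ i, 0 < deg i) (hao : a o = 1) (hbo : b o = 1)
    (hdo : deg o = 1) (haa : ∑ i, a i ^ 2 = 9) (hbb : ∑ i, b i ^ 2 = 9) (hab : ∑ i, a i * b i = 0)
    (had : ∑ i, a i * deg i = 0) (hbd : ∑ i, b i * deg i = 0) (h3 : ∀ i, 3 ∣ a i - b i)
    (h9 : ∀ i, 9 ∣ deg i + 4 * (a i + b i)) :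
    (9 / 40 : ℝ) ≤ ∑ i, (a i : ℝ) ^ 2 * b i / deg i := by
  choose f hf using h3
  have hf2 : ∑ i, f i ^ 2 = 2 := by
    have h1 : ∑ i, (a i - b i) ^ 2 = 18 := by
      have : ∀ i, (a i - b i) ^ 2 = a i ^ 2 - 2 * (a i * b i) + b i ^ 2 := fun i => by ring
      simp only [this, Finset.sum_add_distrib, Finset.sum_sub_distrib, ← Finset.mul_sum, haa, hbb, hab]
      norm_num
    have h2 : ∑ i, (a i - b i) ^ 2 = 9 * ∑ i, f i ^ 2 := by
      rw [Finset.mul_sum]
      exact Finset.sum_congr rfl fun i _ => by rw [hf]; ring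
    omega
  have hfd : ∑ i, f i * deg i = 0 := by
    have h2 : ∑ i, (a i - b i) * deg i = 3 * ∑ i, f i * deg i := by
      rw [Finset.mul_sum]
      exact Finset.sum_congr rfl fun i _ => by rw [hf]; ring
    have h1 : ∑ i, (a i - b i) * deg i = 0 := by
      simp only [sub_mul, Finset.sum_sub_distrib, had, hbd]; norm_num
    omega
  have haf : ∑ i, a i * f i = 3 := by
    have h2 : ∑ i, a i * (a i - b i) = 3 * ∑ i, a i * f i := by
      rw [Finset.mul_sum]
      exact Finset.sum_congr rfl fun i _ => by rw [hf]; ring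
    have h1 : ∑ i, a i * (a i - b i) = 9 := by
      have : ∀ i, a i * (a i - b i) = a i ^ 2 - a i * b i := fun i => by ring
      simp only [this, Finset.sum_sub_distrib, haa, hab]; norm_num
    omega
  obtain ⟨p, q, hpq, hfp, hfq, hfz, hdd⟩ := exc_vec deg f hdeg hf2 hfd
  have hfo : f o = 0 := by
    have := hf o
    rw [hao, hbo] at this
    omega
  have hop : o ≠ p := by rintro rfl; omega
  have hoq : o ≠ q := by rintro rfl; omega
  set R := ((Finset.univ.erase o).erase p).erase q with hR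
  have hmem : ∀ i ∈ R, i ≠ o ∧ i ≠ p ∧ i ≠ q := by
    intro i hi
    simp only [hR, Finset.mem_erase, Finset.mem_univ, and_true] at hi
    exact ⟨hi.2.2, hi.2.1, hi.1⟩
  rw [split3 hop hoq hpq, ← hR] at haf haa
  have hz : ∑ i ∈ R, a i * f i = 0 := Finset.sum_eq_zero fun i hi => by
    rw [hfz i (hmem i hi).2.1 (hmem i hi).2.2, mul_zero]
  rw [hz, hfo, hfp, hfq] at haf
  rw [hao] at haa
  have hRn : 0 ≤ ∑ i ∈ R, a i ^ 2 := Finset.sum_nonneg fun i _ => sq_nonneg _
  have haq : a q = a p - 3 := by omega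
  have hbp : b p = a p - 3 := by have := hf p; rw [hfp] at this; omega
  have hbq : b q = a p := by have := hf q; rw [hfq] at this; omega
  rw [haq] at haa
  have hap : a p = 1 ∨ a p = 2 := by
    have h1 : a p ^ 2 + (a p - 3) ^ 2 ≤ 8 := by omega
    have h2 : 0 < a p := by nlinarith
    have h3 : a p < 3 := by nlinarith
    omega
  have hR3 : ∑ i ∈ R, a i ^ 2 = 3 := by
    rcases hap with h | h <;> rw [h] at haa <;> omega
  rw [split3 hop hoq hpq, ← hR]
  -- the rest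
  have hrest : ∀ i ∈ R, -((a i : ℝ) ^ 2 / 8) ≤ (a i : ℝ) ^ 2 * b i / deg i := by
    intro i hi
    obtain ⟨-, h2, h3⟩ := hmem i hi
    have hbi : b i = a i := by have := hf i; rw [hfz i h2 h3] at this; omega
    have hle : a i ^ 2 ≤ 3 := by
      rw [← hR3]
      exact Finset.single_le_sum (f := fun i => a i ^ 2) (fun i _ => sq_nonneg _) hi
    have hd : (0 : ℝ) < deg i := by exact_mod_cast hdeg i
    have h4 : a i = -1 ∨ a i = 0 ∨ a i = 1 := by
      have h5 : -2 < a i := by nlinarith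
      have h6 : a i < 2 := by nlinarith
      omega
    rw [hbi]
    rcases h4 with h4 | h4 | h4
    · have h5 := h9 i
      rw [hbi, h4] at h5
      have h6 := hdeg i
      have h7 : (8 : ℤ) ≤ deg i := by omega
      have h8 : (8 : ℝ) ≤ deg i := by exact_mod_cast h7
      rw [h4, le_div_iff₀ hd]
      push_cast
      linarith
    · rw [h4]; simp
    · rw [h4]
      have : (0 : ℝ) ≤ ((1 : ℤ) : ℝ) ^ 2 * ((1 : ℤ) : ℝ) / deg i := by positivity
      push_cast at this ⊢
      linarith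
  have hsum : -(3 / 8 : ℝ) ≤ ∑ i ∈ R, (a i : ℝ) ^ 2 * b i / deg i := by
    refine le_trans ?_ (Finset.sum_le_sum hrest)
    rw [Finset.sum_neg_distrib, ← Finset.sum_div]
    have : (∑ i ∈ R, (a i : ℝ) ^ 2) = 3 := by exact_mod_cast hR3
    rw [this]
  have hdp : (0 : ℝ) < deg p := by exact_mod_cast hdeg p
  have hpq2 : -(2 / 5 : ℝ) ≤ (a p : ℝ) ^ 2 * b p / deg p + (a q : ℝ) ^ 2 * b q / deg q := by
    rw [← hdd, haq, hbp, hbq, ← add_div]
    rcases hap with h | h
    · rw [h]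
      have : (0 : ℝ) ≤ (((1 : ℤ) : ℝ) ^ 2 * ((1 - 3 : ℤ) : ℝ) + ((1 - 3 : ℤ) : ℝ) ^ 2 * ((1 : ℤ) : ℝ)) / deg p := by
        apply div_nonneg _ hdp.le
        norm_num
      linarith
    · have h5 := h9 p
      rw [hbp, h] at h5
      have h6 := hdeg p
      have h7 : (5 : ℤ) ≤ deg p := by omega
      have h8 : (5 : ℝ) ≤ deg p := by exact_mod_cast h7
      rw [h, le_div_iff₀ hdp]
      push_cast
      linarith
  rw [hao, hbo, hdo]
  push_cast
  linarith

/-- four classes -/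
theorem case2 {o : I} {deg a f2 f3 f4 : I → ℤ} (hdeg : ∀ i, 0 < deg i) (hao : a o = 1)
    (hdo : deg o = 1) (haa : ∑ i, a i ^ 2 = 9) (had : ∑ i, a i * deg i = 0)
    (h2o : f2 o = 0) (h3o : f3 o = 0) (h4o : f4 o = 0)
    (h22 : ∑ i, f2 i ^ 2 = 2) (h33 : ∑ i, f3 i ^ 2 = 2) (h44 : ∑ i, f4 i ^ 2 = 2)
    (h23 : ∑ i, f2 i * f3 i = 1) (h24 : ∑ i, f2 i * f4 i = 1) (h34 : ∑ i, f3 i * f4 i = 1)
    (h2d : ∑ i, f2 i * deg i = 0) (h3d : ∑ i, f3 i * deg i = 0) (h4d : ∑ i, f4 i * deg i = 0)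
    (ha2 : ∑ i, a i * f2 i = 3) (ha3 : ∑ i, a i * f3 i = 3) (ha4 : ∑ i, a i * f4 i = 3)
    (hT : ∑ i, (a i : ℝ) ^ 2 * (a i - 3 * f2 i) / deg i = 0) : ∃ ψ, ψ ≠ o ∧ deg ψ = 1 := by
  obtain ⟨p2, q2, hpq2, hfp2, hfq2, hz2, hd2⟩ := exc_vec deg f2 hdeg h22 h2d
  obtain ⟨p3, q3, hpq3, hfp3, hfq3, hz3, hd3⟩ := exc_vec deg f3 hdeg h33 h3d
  obtain ⟨p4, q4, hpq4, hfp4, hfq4, hz4, hd4⟩ := exc_vec deg f4 hdeg h44 h4d
  -- sums against an exceptional vector
  have key : ∀ {f : I → ℤ} {p q : I}, p ≠ q → f p = 1 → f q = -1 → (∀ i, i ≠ p → i ≠ q → f i = 0) →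
      ∀ g : I → ℤ, ∑ i, g i * f i = g p - g q := by
    intro f p q hpq hp hq hz g
    rw [← Finset.add_sum_erase _ _ (Finset.mem_univ p),
      ← Finset.add_sum_erase _ _ (Finset.mem_erase.mpr ⟨hpq.symm, Finset.mem_univ q⟩), Finset.sum_eq_zero, hp, hq]
    · ring
    · intro i hi
      rw [Finset.mem_erase, Finset.mem_erase] at hi
      rw [hz i hi.2.1 hi.1, mul_zero]
  rw [key hpq3 hfp3 hfq3 hz3] at h23
  rw [key hpq4 hfp4 hfq4 hz4] at h24 h34
  rw [key hpq2 hfp2 hfq2 hz2] at ha2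
  rw [key hpq3 hfp3 hfq3 hz3] at ha3
  rw [key hpq4 hfp4 hfq4 hz4] at ha4
  -- relation between two exceptional vectors
  have rel : ∀ {f : I → ℤ} {p q p' q' : I}, p ≠ q → p' ≠ q' → f p = 1 → f q = -1 →
      (∀ i, i ≠ p → i ≠ q → f i = 0) → f p' - f q' = 1 → (p' = p ∧ q' ≠ q) ∨ (q' = q ∧ p' ≠ p) := by
    intro f p q p' q' hpq hpq' hp hq hz h
    by_cases h1 : p' = p
    · left
      refine ⟨h1, ?_⟩
      rintro rfl
      rw [h1] at h
      omega
    · right
      refine ⟨?_, h1⟩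
      by_contra h2
      by_cases h3 : p' = q
      · subst h3
        by_cases h4 : q' = p
        · subst h4; omega
        · have := hz q' h4 h2; omega
      · have h5 := hz p' h1 h3
        by_cases h4 : q' = p
        · subst h4; omega
        · have := hz q' h4 h2; omega
  have r23 := rel hpq2 hpq3 hfp2 hfq2 hz2 h23
  have r24 := rel hpq2 hpq4 hfp2 hfq2 hz2 h24
  have r34 := rel hpq3 hpq4 hfp3 hfq3 hz3 h34
  have hop2 : o ≠ p2 := by rintro rfl; omega
  have hoq2 : o ≠ q2 := by rintro rfl; omega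
  have hop3 : o ≠ p3 := by rintro rfl; omega
  have hoq3 : o ≠ q3 := by rintro rfl; omega
  have hop4 : o ≠ p4 := by rintro rfl; omega
  have hoq4 : o ≠ q4 := by rintro rfl; omega
  -- splitting with five elements
  have split5 : ∀ {M : Type} [AddCommMonoid M] {c x y z : I}, o ≠ c → o ≠ x → o ≠ y → o ≠ z → c ≠ x → c ≠ y →
      c ≠ z → x ≠ y → x ≠ z → y ≠ z → ∀ g : I → M, ∑ i, g i = g o + (g c + (g x + (g y + (g z +
        ∑ i ∈ ((((Finset.univ.erase o).erase c).erase x).erase y).erase z, g i)))) := by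
    intro M _ c x y z h1 h2 h3 h4 h5 h6 h7 h8 h9 h10 g
    rw [Finset.add_sum_erase _ _ (by simp [h4.symm, h7.symm, h9.symm, h10.symm]),
      Finset.add_sum_erase _ _ (by simp [h3.symm, h6.symm, h8.symm]),
      Finset.add_sum_erase _ _ (by simp [h2.symm, h5.symm]),
      Finset.add_sum_erase _ _ (by simp [h1.symm]),
      Finset.add_sum_erase _ _ (Finset.mem_univ o)]
  -- one more
  have rest1 : ∀ {R : Finset I}, ∑ i ∈ R, a i ^ 2 = 1 → ∃ ψ ∈ R, (a ψ = 1 ∨ a ψ = -1) ∧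
      ∀ i ∈ R, i ≠ ψ → a i = 0 := by
    intro R hR
    obtain ⟨ψ, hψ, hψ0⟩ : ∃ ψ ∈ R, a ψ ≠ 0 := by
      by_contra hcon
      push Not at hcon
      rw [Finset.sum_eq_zero (fun i hi => by rw [hcon i hi]; ring)] at hR
      omega
    refine ⟨ψ, hψ, ?_, ?_⟩
    · have h1 : a ψ ^ 2 ≤ 1 := by
        rw [← hR]
        exact Finset.single_le_sum (f := fun i => a i ^ 2) (fun i _ => sq_nonneg _) hψ
      have h2 : -2 < a ψ := by nlinarith
      have h3 : a ψ < 2 := by nlinarith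
      omega
    · intro i hi hne
      rw [← Finset.add_sum_erase _ _ hψ] at hR
      have h1 : 1 ≤ a ψ ^ 2 := by
        have : 0 < a ψ ^ 2 := by positivity
        omega
      have h2 : 0 ≤ ∑ i ∈ R.erase ψ, a i ^ 2 := Finset.sum_nonneg fun i _ => sq_nonneg _
      have h3 : ∑ i ∈ R.erase ψ, a i ^ 2 = 0 := by omega
      have := (Finset.sum_eq_zero_iff_of_nonneg (fun i _ => sq_nonneg (a i))).mp h3 i
        (Finset.mem_erase.mpr ⟨hne, hi⟩)
      exact pow_eq_zero_iff (two_ne_zero) |>.mp this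
  rcases r23 with ⟨e23, n23⟩ | ⟨e23, n23⟩
  · -- common centre p2
    have e24 : p4 = p2 ∧ q4 ≠ q2 := by
      rcases r24 with h | ⟨h, h'⟩
      · exact h
      · exfalso
        rcases r34 with ⟨h1, -⟩ | ⟨h1, -⟩
        · exact h' (h1.trans e23)
        · exact n23 (h1.symm.trans h)
    obtain ⟨e24, n24⟩ := e24
    have n34 : q4 ≠ q3 := by
      rcases r34 with ⟨-, h⟩ | ⟨-, h⟩
      · exact h
      · exact absurd (e24.trans e23.symm) h
    subst e23
    subst e24
    have hs := fun {M : Type} [AddCommMonoid M] (g : I → M) => split5 (M := M) hop2 hoq2 hoq3 hoq4 hpq2 hpq3 hpq4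
      n23.symm n24.symm n34.symm g
    rw [hs, hao] at haa
    have e2 : a q2 = a p4 - 3 := by omega
    have e3 : a q3 = a p4 - 3 := by omega
    have e4 : a q4 = a p4 - 3 := by omega
    rw [e2, e3, e4] at haa
    set R := ((((Finset.univ.erase o).erase p4).erase q2).erase q3).erase q4 with hR
    have hRn : 0 ≤ ∑ i ∈ R, a i ^ 2 := Finset.sum_nonneg fun i _ => sq_nonneg _
    have hap : a p4 = 2 := by
      have h1 : a p4 ^ 2 + 3 * (a p4 - 3) ^ 2 ≤ 8 := by nlinarith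
      have h2 : 1 < a p4 := by nlinarith
      have h3 : a p4 < 4 := by nlinarith
      have h5 : a p4 = 2 ∨ a p4 = 3 := by omega
      rcases h5 with h5 | h5
      · exact h5
      · rw [h5] at h1; omega
    rw [hap] at haa e2 e3 e4
    have hR1 : ∑ i ∈ R, a i ^ 2 = 1 := by omega
    obtain ⟨ψ, hψR, hψ, hψz⟩ := rest1 hR1
    have hψm : ψ ≠ o ∧ ψ ≠ p4 ∧ ψ ≠ q2 := by
      simp only [hR, Finset.mem_erase, Finset.mem_univ, and_true] at hψR
      exact ⟨hψR.2.2.2.2, hψR.2.2.2.1, hψR.2.2.1⟩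
    refine ⟨ψ, hψm.1, ?_⟩
    rw [hs, ← Finset.add_sum_erase _ _ hψR, Finset.sum_eq_zero (s := R.erase ψ), hao, hdo, e2, e3, e4, hap,
      ← hd2, ← hd3, ← hd4] at had
    swap
    · intro i hi
      rw [hψz i (Finset.mem_of_mem_erase hi) (Finset.ne_of_mem_erase hi), zero_mul]
    rw [hs, ← Finset.add_sum_erase _ _ hψR, Finset.sum_eq_zero (s := R.erase ψ), hao, hdo, e2, e3, e4, hap,
      ← hd2, ← hd3, ← hd4, h2o, hfp2, hfq2, hz2 q3 hpq3.symm n23, hz2 q4 hpq4.symm n24,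
      hz2 ψ hψm.2.1 hψm.2.2] at hT
    swap
    · intro i hi
      rw [hψz i (Finset.mem_of_mem_erase hi) (Finset.ne_of_mem_erase hi)]
      simp
    have hd := hdeg p4
    have hdψ := hdeg ψ
    rcases hψ with h | h
    · rw [h] at had hT
      have h6 : deg ψ = deg p4 - 1 := by linarith
      have hd' : (deg p4 : ℝ) ≠ 0 := by exact_mod_cast hd.ne'
      have hdψ' : (deg ψ : ℝ) ≠ 0 := by exact_mod_cast hdψ.ne'
      push_cast at hT
      field_simp at hT
      have h7 : ((deg p4 * deg ψ - 4 * deg ψ + deg p4 : ℤ) : ℝ) = 0 := by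
        push_cast
        linear_combination hT
      have h8 : deg p4 * deg ψ - 4 * deg ψ + deg p4 = 0 := by exact_mod_cast h7
      rw [h6] at h8
      have h9 : (deg p4 - 2) ^ 2 = 0 := by linarith
      have h10 : deg p4 - 2 = 0 := pow_eq_zero_iff (two_ne_zero) |>.mp h9
      omega
    · rw [h] at had
      omega
  · -- common centre q2
    have e24 : q4 = q2 ∧ p4 ≠ p2 := by
      rcases r24 with ⟨h, h'⟩ | h
      · exfalso
        rcases r34 with ⟨h1, -⟩ | ⟨h1, -⟩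
        · exact n23 (h1.symm.trans h)
        · exact h' (h1.trans e23)
      · exact h
    obtain ⟨e24, n24⟩ := e24
    have n34 : p4 ≠ p3 := by
      rcases r34 with ⟨-, h⟩ | ⟨-, h⟩
      · exact absurd (e24.trans e23.symm) h
      · exact h
    subst e23
    subst e24
    have hs := fun {M : Type} [AddCommMonoid M] (g : I → M) => split5 (M := M) hoq2 hop2 hop3 hop4 hpq2.symm
      hpq3.symm hpq4.symm n23.symm n24.symm n34.symm g
    rw [hs, hao] at haa
    have e2 : a p2 = a q4 + 3 := by omega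
    have e3 : a p3 = a q4 + 3 := by omega
    have e4 : a p4 = a q4 + 3 := by omega
    rw [e2, e3, e4] at haa
    set R := ((((Finset.univ.erase o).erase q4).erase p2).erase p3).erase p4 with hR
    have hRn : 0 ≤ ∑ i ∈ R, a i ^ 2 := Finset.sum_nonneg fun i _ => sq_nonneg _
    have hap : a q4 = -2 := by
      have h1 : a q4 ^ 2 + 3 * (a q4 + 3) ^ 2 ≤ 8 := by nlinarith
      have h2 : a q4 < -1 := by nlinarith
      have h3 : -4 < a q4 := by nlinarith
      have h5 : a q4 = -2 ∨ a q4 = -3 := by omega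
      rcases h5 with h5 | h5
      · exact h5
      · rw [h5] at h1; omega
    rw [hap] at haa e2 e3 e4
    have hR1 : ∑ i ∈ R, a i ^ 2 = 1 := by omega
    obtain ⟨ψ, hψR, hψ, hψz⟩ := rest1 hR1
    have hψm : ψ ≠ o ∧ ψ ≠ q4 ∧ ψ ≠ p2 := by
      simp only [hR, Finset.mem_erase, Finset.mem_univ, and_true] at hψR
      exact ⟨hψR.2.2.2.2, hψR.2.2.2.1, hψR.2.2.1⟩
    refine ⟨ψ, hψm.1, ?_⟩
    rw [hs, ← Finset.add_sum_erase _ _ hψR, Finset.sum_eq_zero (s := R.erase ψ), hao, hdo, e2, e3, e4, hap,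
      hd2, hd3, hd4] at had
    swap
    · intro i hi
      rw [hψz i (Finset.mem_of_mem_erase hi) (Finset.ne_of_mem_erase hi), zero_mul]
    rw [hs, ← Finset.add_sum_erase _ _ hψR, Finset.sum_eq_zero (s := R.erase ψ), hao, hdo, e2, e3, e4, hap,
      hd2, hd3, hd4, h2o, hfp2, hfq2, hz2 p3 n23 hpq3, hz2 p4 n24 hpq4,
      hz2 ψ hψm.2.2 hψm.2.1] at hT
    swap
    · intro i hi
      rw [hψz i (Finset.mem_of_mem_erase hi) (Finset.ne_of_mem_erase hi)]
      simp
    have hd := hdeg q4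
    have hdψ := hdeg ψ
    rcases hψ with h | h
    · rw [h] at had
      omega
    · exfalso
      rw [h] at had hT
      have h6 : deg ψ = deg q4 + 1 := by linarith
      have hd' : (0 : ℝ) < deg q4 := by exact_mod_cast hd
      have hdψ' : (0 : ℝ) < deg ψ := by exact_mod_cast hdψ
      push_cast at hT
      field_simp at hT
      have h7 : ((deg q4 * deg ψ + 4 * deg ψ - deg q4 : ℤ) : ℝ) = 0 := by
        push_cast
        linear_combination hT
      have h8 : deg q4 * deg ψ + 4 * deg ψ - deg q4 = 0 := by exact_mod_cast h7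
      rw [h6] at h8
      nlinarith

end Cfsg.Agent.H67.Col
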