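import Mathlib

set_option autoImplicit false

/-!
The friendship theorem for regular graphs, and its use for groups with a class of involutions that forms a
projective plane under commutation.
-/

namespace Cfsg.Agent.H67

open Matrix

/-- There is no `k`-regular graph (`3 ≤ k`) in which any two different vertices have exactly one common
neighbour. -/
theorem no_regular_friendship {V : Type*} [Fintype V] [Nonempty V] (R : V → V → Prop)
    [DecidableRel R] (hirr : ∀ v, ¬ R v v) (hsymm : ∀ u v, R u v → R v u) (k : ℕ) (hk : 3 ≤ k)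
    (hdeg : ∀ u, (Finset.univ.filter (R u)).card = k)
    (hfr : ∀ u v, u ≠ v → (Finset.univ.filter (fun z => R u z ∧ R z v)).card = 1) : False := by
  classical
  obtain ⟨p, hp, hpk⟩ := Nat.exists_prime_and_dvd (show k - 1 ≠ 1 by omega)
  haveI := Fact.mk hp
  have hk1 : (k : ZMod p) = 1 := by
    have h1 : ((k - 1 : ℕ) : ZMod p) = 0 := (ZMod.natCast_eq_zero_iff _ _).mpr hpk
    rw [Nat.cast_sub (by omega), Nat.cast_one, sub_eq_zero] at h1
    exact h1
  let A : Matrix V V (ZMod p) := Matrix.of fun u v => if R u v then 1 else 0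
  let J : Matrix V V (ZMod p) := Matrix.of fun _ _ => 1
  have hA : ∀ u v, A u v = if R u v then 1 else 0 := fun _ _ => rfl
  have hJ : ∀ u v, J u v = 1 := fun _ _ => rfl
  have hA2 : A * A = J := by
    ext u v
    rw [Matrix.mul_apply, hJ]
    have h1 : ∀ z, A u z * A z v = if R u z ∧ R z v then 1 else 0 := by
      intro z
      rw [hA, hA]
      by_cases h2 : R u z <;> by_cases h3 : R z v <;> simp [h2, h3]
    simp only [h1]
    rw [Finset.sum_boole]
    by_cases huv : u = v
    · subst huv
      have h4 : (Finset.univ.filter (fun z => R u z ∧ R z u)) = Finset.univ.filter (R u) := by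
        ext z
        simp only [Finset.mem_filter, Finset.mem_univ, true_and]
        exact ⟨fun h => h.1, fun h => ⟨h, hsymm _ _ h⟩⟩
      rw [h4, hdeg, hk1]
    · rw [hfr u v huv, Nat.cast_one]
  have hAJ : A * J = J := by
    ext u v
    rw [Matrix.mul_apply, hJ]
    simp only [hA, hJ, mul_one]
    rw [Finset.sum_boole, hdeg, hk1]
  have hpow : ∀ n : ℕ, A ^ (n + 2) = J := by
    intro n
    induction n with
    | zero => rw [zero_add, pow_two, hA2]
    | succ n ih =>
      rw [show n + 1 + 2 = (n + 2) + 1 by ring, pow_succ', ih, hAJ]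
  have htr : Matrix.trace (A ^ p) = Matrix.trace A ^ p := ZMod.trace_pow_card A
  have htA : Matrix.trace A = 0 := by
    rw [Matrix.trace]
    refine Finset.sum_eq_zero fun v _ => ?_
    rw [Matrix.diag_apply, hA, if_neg (hirr v)]
  have htJ : Matrix.trace J = (Fintype.card V : ZMod p) := by
    rw [Matrix.trace]
    simp [hJ]
  have hcard : (Fintype.card V : ZMod p) = 1 := by
    obtain ⟨u⟩ := ‹Nonempty V›
    have h5 : ∑ v, (A * A) u v = (Fintype.card V : ZMod p) := by
      rw [hA2]; simp [hJ]
    have h6 : ∑ v, (A * A) u v = 1 := by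
      simp only [Matrix.mul_apply]
      rw [Finset.sum_comm]
      simp only [← Finset.mul_sum]
      have h7 : ∀ z, ∑ v, A z v = 1 := by
        intro z
        simp only [hA]
        rw [Finset.sum_boole, hdeg, hk1]
      simp only [h7, mul_one]
    rw [← h5, h6]
  obtain ⟨n, hn⟩ : ∃ n, p = n + 2 := ⟨p - 2, by have := hp.two_le; omega⟩
  have hAp : A ^ p = J := by
    have h8 := hpow n
    have h9 : A ^ p = A ^ (n + 2) := congrArg (fun m => A ^ m) hn
    rw [h9, h8]
  rw [hAp, htA, zero_pow hp.ne_zero, htJ, hcard] at htr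
  exact one_ne_zero htr

end Cfsg.Agent.H67
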