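import Mathlib
import Cfsg.Agent.H67.Kazarin
import Cfsg.Agent.Solv.Core
import Cfsg.Agent.Solv.MinNormal

set_option autoImplicit false
set_option linter.unusedSectionVars false
set_option maxHeartbeats 400000

/-!
Two-transitive linear groups over `F_2` with 2-group two-point stabilizers, containing an element of
order three with exactly one fixed point: a transvection exists.
-/

namespace Cfsg.Agent.H67.Pyr

open Subgroup

universe u

variable {E : Type u} [CommGroup E] [Finite E]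

theorem two_group {T : Subgroup (MulAut E)} {a b : E} 
    (reg : ∀ α ∈ T, Odd (orderOf α) → α a = a → α b = b → α = 1)
    (h : ∀ α ∈ T, α a = a ∧ α b = b) : IsPGroup 2 T := by
  rw [isPGroup_iff_pow_pow_eq_one]
  rintro ⟨α, hα⟩
  obtain ⟨k, m, hm, hk⟩ := Nat.exists_eq_two_pow_mul_odd (n := orderOf α) (orderOf_pos α).ne'
  refine ⟨k, ?_⟩
  apply Subtype.ext
  have h1 : α ^ 2 ^ k ∈ T := T.pow_mem hα _
  have h2 : orderOf (α ^ 2 ^ k) = m := by
    rw [orderOf_pow_of_dvd (by positivity) ⟨m, hk⟩, hk, Nat.mul_div_cancel_left _ (by positivity)]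
  have h3 := reg _ h1 (by rw [h2]; exact hm) (h _ h1).1 (h _ h1).2
  simpa using h3

/-- the hypotheses. -/
structure Hy (L : Subgroup (MulAut E)) (g : MulAut E) (e0 : E) : Prop where
  sq : ∀ x : E, x * x = 1
  card : 8 ≤ Nat.card E
  two : ∀ a b c d : E, a ≠ 1 → b ≠ 1 → a ≠ b → c ≠ 1 → d ≠ 1 → c ≠ d → ∃ α ∈ L, α a = c ∧ α b = d
  reg : ∀ α ∈ L, Odd (orderOf α) → ∀ a b : E, a ≠ 1 → b ≠ 1 → a ≠ b → α a = a → α b = b → α = 1
  mem : g ∈ L
  ord : orderOf g = 3
  ene : e0 ≠ 1
  fix : g e0 = e0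

namespace Hy

variable {L : Subgroup (MulAut E)} {g : MulAut E} {e0 : E} (H : Hy L g e0)
include H

theorem g3 (v : E) : g (g (g v)) = v := by
  have h : g ^ 3 = 1 := by rw [← H.ord]; exact pow_orderOf_eq_one g
  have h2 : (g ^ 3) v = v := by rw [h]; rfl
  simpa [pow_succ, MulAut.mul_apply] using h2

theorem g_ne : g ≠ 1 := by
  intro h
  have := H.ord
  rw [h, orderOf_one] at this
  omega

theorem fixed {v : E} (h : g v = v) : v = 1 ∨ v = e0 := by
  by_contra hcon
  push Not at hcon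
  exact H.g_ne (H.reg g H.mem (by rw [H.ord]; decide) v e0 hcon.1 H.ene hcon.2 h H.fix)

/-- the kernel of the norm -/
def K (_ : Hy L g e0) : Subgroup E where
  carrier := {v | v * g v * g (g v) = 1}
  one_mem' := by simp
  mul_mem' := by
    intro a b ha hb
    simp only [Set.mem_setOf_eq] at *
    rw [map_mul, map_mul]
    calc a * b * (g a * g b) * (g (g a) * g (g b)) = (a * g a * g (g a)) * (b * g b * g (g b)) := by
          simp only [mul_assoc, mul_left_comm, mul_comm]
      _ = 1 := by rw [ha, hb, one_mul]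
  inv_mem' := by
    intro a ha
    simp only [Set.mem_setOf_eq] at *
    rw [map_inv, map_inv, ← mul_inv, ← mul_inv, ha, inv_one]

theorem mem_K {v : E} : v ∈ H.K ↔ v * g v * g (g v) = 1 := Iff.rfl

theorem inv_eq (v : E) : v⁻¹ = v := inv_eq_of_mul_eq_one_left (H.sq v)

theorem nm_mem (v : E) : v * g v * g (g v) = 1 ∨ v * g v * g (g v) = e0 := by
  apply H.fixed
  rw [map_mul, map_mul, H.g3]
  simp only [mul_assoc, mul_left_comm, mul_comm]

theorem e0_notMem : e0 ∉ H.K := by
  rw [H.mem_K, H.fix, H.fix, H.sq, one_mul]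
  exact H.ene

theorem g_mem_K {v : E} (hv : v ∈ H.K) : g v ∈ H.K := by
  rw [H.mem_K] at *
  rw [H.g3]
  rw [← hv]
  simp only [mul_assoc, mul_left_comm, mul_comm]

theorem index_K : H.K.index = 2 := by
  rw [Subgroup.index_eq_two_iff]
  refine ⟨e0, fun b => ?_⟩
  have h1 : b * e0 * g (b * e0) * g (g (b * e0)) = b * g b * g (g b) * e0 := by
    rw [map_mul, map_mul, H.fix, H.fix]
    calc b * e0 * (g b * e0) * (g (g b) * e0) = (b * g b * g (g b)) * (e0 * e0) * e0 := by
          simp only [mul_assoc, mul_left_comm, mul_comm]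
      _ = _ := by rw [H.sq, mul_one]
  rcases H.nm_mem b with h | h
  · right
    refine ⟨H.mem_K.2 h, ?_⟩
    rw [H.mem_K, h1, h, one_mul]
    exact H.ene
  · left
    refine ⟨?_, ?_⟩
    · rw [H.mem_K, h1, h, H.sq]
    · rw [H.mem_K, h]
      exact H.ene

theorem card_eq : Nat.card E = 2 * Nat.card H.K := by
  rw [← H.index_K, mul_comm]
  exact (Subgroup.card_mul_index _).symm

theorem gg {v : E} (hv : v ∈ H.K) : g (g v) = v * g v := by
  have h := H.mem_K.1 hv
  rw [← H.inv_eq (v * g v)]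
  exact (inv_eq_of_mul_eq_one_right h).symm

theorem g_ne_of {v : E} (hv : v ∈ H.K) (hv1 : v ≠ 1) : g v ≠ v := by
  intro h
  rcases H.fixed h with h | h
  · exact hv1 h
  · exact H.e0_notMem (h ▸ hv)

end Hy

end Cfsg.Agent.H67.Pyr
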