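import Cfsg.Agent.H67.PyrA
import Cfsg.Agent.Hall.Basic
import Cfsg.Agent.Cop.Basic

set_option autoImplicit false
set_option linter.unusedSectionVars false
set_option maxHeartbeats 400000

/-!
The centralizer of an element of order three is transitive on the kernel of its norm.
-/

namespace Cfsg.Agent.H67.Pyr

open Subgroup Pointwise

universe u

theorem conj_of_coset {G : Type*} [Group G] [Finite G] {p : ℕ} [hp : Fact p.Prime] {A : Subgroup G} (hA : IsPGroup p A) {s : G}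
    (hs : s ∈ Subgroup.normalizer (A : Set G)) (hsp : (orderOf s).Coprime p) {a : G} (ha : a ∈ A)
    (hx : (orderOf (a * s)).Coprime p) : ∃ c ∈ A, c * (a * s) * c⁻¹ = s := by
  obtain ⟨k, hk⟩ := IsPGroup.iff_card.1 hA
  set x := a * s with hxdef
  have hxn : x ∈ Subgroup.normalizer (A : Set G) := mul_mem (Subgroup.le_normalizer ha) hs
  have hdisj : ∀ y : G, (orderOf y).Coprime p → A ⊓ Subgroup.zpowers y = ⊥ := by
    intro y hy
    refine Subgroup.inf_eq_bot_of_coprime ?_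
    rw [hk, Nat.card_zpowers]
    exact Nat.Coprime.pow_left _ hy.symm
  set L := A ⊔ Subgroup.zpowers s with hL
  have hLn : L ≤ Subgroup.normalizer (A : Set G) := sup_le Subgroup.le_normalizer (by rwa [Subgroup.zpowers_le])
  have hLx : L = A ⊔ Subgroup.zpowers x := by
    apply le_antisymm
    · refine sup_le le_sup_left ?_
      rw [Subgroup.zpowers_le]
      have : s = a⁻¹ * x := by rw [hxdef]; group
      rw [this]
      exact mul_mem (Subgroup.mem_sup_left (inv_mem ha)) (Subgroup.mem_sup_right (Subgroup.mem_zpowers x))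
    · refine sup_le le_sup_left ?_
      rw [Subgroup.zpowers_le]
      exact mul_mem (Subgroup.mem_sup_left ha) (Subgroup.mem_sup_right (Subgroup.mem_zpowers s))
  have hcop : ∀ y : G, (orderOf y).Coprime p → (Nat.card A).Coprime (Nat.card (Subgroup.zpowers y)) := by
    intro y hy
    rw [hk, Nat.card_zpowers]
    exact Nat.Coprime.pow_left _ hy.symm
  have hcard : ∀ y : G, y ∈ Subgroup.normalizer (A : Set G) → (orderOf y).Coprime p →
      Nat.card A * Nat.card (Subgroup.zpowers y) = Nat.card (A ⊔ Subgroup.zpowers y : Subgroup G) := by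
    intro y hy hyp
    have h1 : Subgroup.zpowers y ≤ Subgroup.normalizer (A : Set G) := by rwa [Subgroup.zpowers_le]
    have h2 := (Cfsg.Agent.Cop.isComplement'_subgroupOf_sup h1 (hcop y hyp)).card_mul
    rwa [Nat.card_congr (Subgroup.subgroupOfEquivOfLe (le_sup_left : A ≤ A ⊔ Subgroup.zpowers y)).toEquiv,
      Nat.card_congr (Subgroup.subgroupOfEquivOfLe (le_sup_right : Subgroup.zpowers y ≤ A ⊔ Subgroup.zpowers y)).toEquiv]
      at h2
  have hcxs : Nat.card (Subgroup.zpowers x) = Nat.card (Subgroup.zpowers s) := by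
    have h1 := hcard s hs hsp
    have h2 := hcard x hxn hx
    rw [← hLx, hL, ← h1] at h2
    exact Nat.eq_of_mul_eq_mul_left Nat.card_pos h2
  obtain ⟨c', hc', hcx'⟩ := Cfsg.Agent.Cop.sz_rel (N := A) (A := Subgroup.zpowers s) (B := Subgroup.zpowers x)
    (by rwa [Subgroup.zpowers_le]) (by rw [← hL, hLx]; exact le_sup_right) hcxs (hcop s hsp)
    (Or.inr inferInstance)
  obtain ⟨c, hc, hcx⟩ : ∃ c ∈ A, MulAut.conj c • Subgroup.zpowers x = Subgroup.zpowers s := by
    refine ⟨c'⁻¹, inv_mem hc', ?_⟩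
    rw [← hcx', smul_smul, ← map_mul, inv_mul_cancel, map_one, one_smul]
  refine ⟨c, hc, ?_⟩
  have h1 : c * x * c⁻¹ ∈ Subgroup.zpowers s := by
    rw [← hcx]
    exact ⟨x, Subgroup.mem_zpowers x, rfl⟩
  have h2 : c * x * c⁻¹ * s⁻¹ ∈ A := by
    have e : c * x * c⁻¹ * s⁻¹ = c * a * (s * c⁻¹ * s⁻¹) := by rw [hxdef]; group
    rw [e]
    exact mul_mem (mul_mem hc ha) ((Subgroup.mem_normalizer_iff.1 hs _).1 (A.inv_mem hc))
  have h3 : c * x * c⁻¹ * s⁻¹ ∈ A ⊓ Subgroup.zpowers s :=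
    Subgroup.mem_inf.2 ⟨h2, (Subgroup.zpowers s).mul_mem h1 ((Subgroup.zpowers s).inv_mem (Subgroup.mem_zpowers s))⟩
  rw [hdisj s hsp, Subgroup.mem_bot] at h3
  exact mul_inv_eq_one.1 h3

variable {E : Type u} [CommGroup E] [Finite E]

/-- pointwise stabilizer of two elements. -/
def pst (L : Subgroup (MulAut E)) (a b : E) : Subgroup (MulAut E) where
  carrier := {α | α ∈ L ∧ α a = a ∧ α b = b}
  one_mem' := ⟨L.one_mem, rfl, rfl⟩
  mul_mem' := by
    rintro α β ⟨h1, h2, h3⟩ ⟨h4, h5, h6⟩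
    exact ⟨L.mul_mem h1 h4, by rw [MulAut.mul_apply, h5, h2], by rw [MulAut.mul_apply, h6, h3]⟩
  inv_mem' := by
    rintro α ⟨h1, h2, h3⟩
    refine ⟨L.inv_mem h1, ?_, ?_⟩
    · conv_lhs => rw [← h2]
      exact α.symm_apply_apply a
    · conv_lhs => rw [← h3]
      exact α.symm_apply_apply b

theorem mem_pst {L : Subgroup (MulAut E)} {a b : E} {α : MulAut E} :
    α ∈ pst L a b ↔ α ∈ L ∧ α a = a ∧ α b = b := Iff.rfl

namespace Hy

variable {L : Subgroup (MulAut E)} {g : MulAut E} {e0 : E} (H : Hy L g e0)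
include H

theorem pst_two {a b : E} (ha : a ≠ 1) (hb : b ≠ 1) (hab : a ≠ b) : IsPGroup 2 (pst L a b) := by
  apply two_group (a := a) (b := b)
  · intro α hα ho h1 h2
    exact H.reg α hα.1 ho a b ha hb hab h1 h2
  · intro α hα
    exact hα.2

theorem trans {v w : E} (hv : v ∈ H.K) (hw : w ∈ H.K) (hv1 : v ≠ 1) (hw1 : w ≠ 1) :
    ∃ c ∈ L, c * g = g * c ∧ c v = w := by
  have hgw1 : g w ≠ 1 := by simpa using hw1
  have hgv1 : g v ≠ 1 := by simpa using hv1
  obtain ⟨y, hy, hyv, hygv⟩ := H.two v (g v) w (g w) hv1 hgv1 (H.g_ne_of hv hv1).symm hw1 hgw1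
    (H.g_ne_of hw hw1).symm
  have hyw : y⁻¹ w = v := by rw [← hyv]; exact y.symm_apply_apply v
  have hygw : y⁻¹ (g w) = g v := by rw [← hygv]; exact y.symm_apply_apply (g v)
  set T := pst L w (g w) with hT
  haveI : Fact (Nat.Prime 2) := ⟨Nat.prime_two⟩
  have hTp : IsPGroup 2 T := H.pst_two hw1 hgw1 (H.g_ne_of hw hw1).symm
  have hgi1 : g⁻¹ (g w) = w := g.symm_apply_apply w
  have hgi2 : g⁻¹ w = w * g w := by
    rw [← H.gg hw]
    conv_lhs => rw [← H.g3 w]
    exact g.symm_apply_apply _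
  have hgn : g ∈ Subgroup.normalizer (T : Set (MulAut E)) := by
    have hle : ∀ τ ∈ T, g * τ * g⁻¹ ∈ T := by
      rintro τ ⟨h1, h2, h3⟩
      refine ⟨L.mul_mem (L.mul_mem H.mem h1) (L.inv_mem H.mem), ?_, ?_⟩
      · rw [MulAut.mul_apply, MulAut.mul_apply, hgi2, map_mul, h2, h3, map_mul, H.gg hw]
        rw [mul_comm w (g w), ← mul_assoc, H.sq, one_mul]
      · rw [MulAut.mul_apply, MulAut.mul_apply, hgi1, h2]
    rw [Subgroup.mem_normalizer_iff]
    intro τ
    refine ⟨hle τ, fun h => ?_⟩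
    have h3 : g ^ 3 = 1 := by rw [← H.ord]; exact pow_orderOf_eq_one g
    have h4 := hle _ (hle _ h)
    have h5 : g * (g * (g * τ * g⁻¹) * g⁻¹) * g⁻¹ = g ^ 3 * τ * (g ^ 3)⁻¹ := by
      simp only [pow_succ, pow_zero, one_mul, mul_inv_rev, mul_assoc]
    rw [h5, h3, one_mul, inv_one, mul_one] at h4
    exact h4
  set g' := y * g * y⁻¹ with hg'
  have hg'L : g' ∈ L := L.mul_mem (L.mul_mem hy H.mem) (L.inv_mem hy)
  have hg'w : g' w = g w := by rw [hg', MulAut.mul_apply, MulAut.mul_apply, hyw, hygv]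
  have hg'gw : g' (g w) = g (g w) := by
    rw [hg', MulAut.mul_apply, MulAut.mul_apply, hygw, H.gg hv, map_mul, hyv, hygv, H.gg hw]
  have ha : g' * g⁻¹ ∈ T := by
    refine ⟨L.mul_mem hg'L (L.inv_mem H.mem), ?_, ?_⟩
    · rw [MulAut.mul_apply, hgi2, map_mul, hg'w, hg'gw, H.gg hw]
      rw [mul_comm w (g w), ← mul_assoc, H.sq, one_mul]
    · rw [MulAut.mul_apply, hgi1, hg'w]
  have hog' : orderOf g' = 3 := by
    rw [hg', ← MulAut.conj_apply, MulEquiv.orderOf_eq, H.ord]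
  obtain ⟨c, hc, hcg⟩ := conj_of_coset hTp hgn (by rw [H.ord]; decide) ha
    (by rw [inv_mul_cancel_right, hog']; decide)
  rw [inv_mul_cancel_right] at hcg
  refine ⟨c * y, L.mul_mem hc.1 hy, ?_, ?_⟩
  · have h1 : g = c * (y * g * y⁻¹) * c⁻¹ := by rw [← hg', hcg]
    calc c * y * g = (c * (y * g * y⁻¹) * c⁻¹) * (c * y) := by group
      _ = g * (c * y) := by rw [← h1]
  · rw [MulAut.mul_apply, hyv, hc.2.1]

end Hy

end Cfsg.Agent.H67.Pyr
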