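import Cfsg.Agent.H67.PyrB

set_option autoImplicit false
set_option linter.unusedSectionVars false
set_option maxHeartbeats 400000

/-!
The transvection.
-/

namespace Cfsg.Agent.H67.Pyr

open Subgroup Pointwise

universe u

variable {E : Type u} [CommGroup E] [Finite E]

namespace Hy

variable {L : Subgroup (MulAut E)} {g : MulAut E} {e0 : E} (H : Hy L g e0)

/-- stabilizer of `e0`. -/
def S (_ : Hy L g e0) : Subgroup (MulAut E) where
  carrier := {α | α ∈ L ∧ α e0 = e0}
  one_mem' := ⟨L.one_mem, rfl⟩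
  mul_mem' := by
    rintro α β ⟨h1, h2⟩ ⟨h4, h5⟩
    exact ⟨L.mul_mem h1 h4, by rw [MulAut.mul_apply, h5, h2]⟩
  inv_mem' := by
    rintro α ⟨h1, h2⟩
    refine ⟨L.inv_mem h1, ?_⟩
    conv_lhs => rw [← h2]
    exact α.symm_apply_apply e0

include H

theorem mem_S {α : MulAut E} : α ∈ H.S ↔ α ∈ L ∧ α e0 = e0 := Iff.rfl

theorem gS : g ∈ H.S := ⟨H.mem, H.fix⟩

theorem exists_K : ∃ v ∈ H.K, v ≠ 1 := by
  have h1 := H.card_eq
  have h2 := H.card
  have h3 : H.K ≠ ⊥ := by
    intro h
    rw [h, Subgroup.card_bot] at h1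
    omega
  obtain ⟨a, ha⟩ := (Subgroup.ne_bot_iff_exists_ne_one (H := H.K)).1 h3
  exact ⟨a, a.2, fun h => ha (Subtype.ext h)⟩

theorem K_ne {v : E} (hv : v ∈ H.K) : v ≠ e0 := fun h => H.e0_notMem (h ▸ hv)

theorem transS {v w : E} (hv1 : v ≠ 1) (hv0 : v ≠ e0) (hw1 : w ≠ 1) (hw0 : w ≠ e0) :
    ∃ s ∈ H.S, s v = w := by
  obtain ⟨s, hs, h1, h2⟩ := H.two e0 v e0 w H.ene hv1 hv0.symm H.ene hw1 hw0.symm
  exact ⟨s, ⟨hs, h1⟩, h2⟩

theorem card_S : ∃ b, Nat.card H.S = (Nat.card E - 2) * 2 ^ b := by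
  haveI : Fact (Nat.Prime 2) := ⟨Nat.prime_two⟩
  obtain ⟨v, hv, hv1⟩ := H.exists_K
  have hv0 := H.K_ne hv
  have hst : IsPGroup 2 (MulAction.stabilizer H.S v) := by
    rw [isPGroup_iff_pow_pow_eq_one]
    rintro ⟨⟨α, hα⟩, hαv⟩
    have hm : α ∈ pst L e0 v := ⟨hα.1, hα.2, hαv⟩
    obtain ⟨k, hk⟩ := (isPGroup_iff_pow_pow_eq_one.1 (H.pst_two H.ene hv1 hv0.symm)) ⟨α, hm⟩
    have hk' : α ^ 2 ^ k = 1 := by simpa using congrArg Subtype.val hk
    exact ⟨k, Subtype.ext (Subtype.ext hk')⟩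
  obtain ⟨b, hb⟩ := IsPGroup.iff_card.1 hst
  refine ⟨b, ?_⟩
  have horb : MulAction.orbit H.S v = ({1, e0} : Set E)ᶜ := by
    ext w
    constructor
    · rintro ⟨s, rfl⟩
      simp only [Set.mem_compl_iff, Set.mem_insert_iff, Set.mem_singleton_iff]
      push Not
      constructor
      · change (s : MulAut E) v ≠ 1
        simpa using hv1
      · change (s : MulAut E) v ≠ e0
        intro h
        exact hv0 ((s : MulAut E).injective (h.trans s.2.2.symm))
    · intro hw
      simp only [Set.mem_compl_iff, Set.mem_insert_iff, Set.mem_singleton_iff] at hw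
      push Not at hw
      obtain ⟨s, hs, h⟩ := H.transS hv1 hv0 hw.1 hw.2
      exact ⟨⟨s, hs⟩, h⟩
  have h1 := Subgroup.card_mul_index (MulAction.stabilizer H.S v)
  rw [MulAction.index_stabilizer, horb, hb] at h1
  have h2 := Set.ncard_add_ncard_compl ({1, e0} : Set E)
  rw [Set.ncard_pair H.ene.symm] at h2
  have h3 : (({1, e0} : Set E)ᶜ).ncard = Nat.card E - 2 := by omega
  rw [h3] at h1
  rw [← h1, mul_comm]

theorem card_C : ∃ c, Nat.card (centralizer ({(⟨g, H.gS⟩ : H.S)} : Set H.S)) =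
    (Nat.card H.K - 1) * 2 ^ c := by
  haveI : Fact (Nat.Prime 2) := ⟨Nat.prime_two⟩
  obtain ⟨v, hv, hv1⟩ := H.exists_K
  have hv0 := H.K_ne hv
  set C := centralizer ({(⟨g, H.gS⟩ : H.S)} : Set H.S) with hC
  have hst : IsPGroup 2 (MulAction.stabilizer C v) := by
    rw [isPGroup_iff_pow_pow_eq_one]
    rintro ⟨⟨⟨α, hα⟩, hαC⟩, hαv⟩
    have hm : α ∈ pst L e0 v := ⟨hα.1, hα.2, hαv⟩
    obtain ⟨k, hk⟩ := (isPGroup_iff_pow_pow_eq_one.1 (H.pst_two H.ene hv1 hv0.symm)) ⟨α, hm⟩
    have hk' : α ^ 2 ^ k = 1 := by simpa using congrArg Subtype.val hk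
    exact ⟨k, Subtype.ext (Subtype.ext (Subtype.ext hk'))⟩
  obtain ⟨b, hb⟩ := IsPGroup.iff_card.1 hst
  refine ⟨b, ?_⟩
  have horb : MulAction.orbit C v = (H.K : Set E) \ {1} := by
    ext w
    constructor
    · rintro ⟨s, rfl⟩
      have hs : ((s : H.S) : MulAut E) * g = g * ((s : H.S) : MulAut E) := by
        have h := mem_centralizer_singleton_iff.1 s.2
        exact congrArg Subtype.val h
      have hsg : ∀ x, ((s : H.S) : MulAut E) (g x) = g (((s : H.S) : MulAut E) x) := by
        intro x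
        rw [← MulAut.mul_apply, hs, MulAut.mul_apply]
      refine ⟨?_, ?_⟩
      · change ((s : H.S) : MulAut E) v ∈ H.K
        rw [H.mem_K, ← hsg, ← hsg, ← map_mul, ← map_mul, H.mem_K.1 hv, map_one]
      · change ((s : H.S) : MulAut E) v ≠ 1
        simpa using hv1
    · rintro ⟨hw, hw1⟩
      obtain ⟨c, hcL, hcg, hcv⟩ := H.trans hv hw hv1 hw1
      have hce : c e0 = e0 := by
        have h1 : g (c e0) = c e0 := by
          rw [← MulAut.mul_apply, ← hcg, MulAut.mul_apply, H.fix]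
        rcases H.fixed h1 with h | h
        · exfalso
          exact H.ene (by simpa using h)
        · exact h
      refine ⟨⟨⟨c, hcL, hce⟩, ?_⟩, hcv⟩
      rw [hC, mem_centralizer_singleton_iff]
      exact Subtype.ext hcg
  have h1 := Subgroup.card_mul_index (MulAction.stabilizer C v)
  rw [MulAction.index_stabilizer, horb, hb] at h1
  have h3 : ((H.K : Set E) \ {1}).ncard = Nat.card H.K - 1 := by
    rw [Set.ncard_diff_singleton_of_mem H.K.one_mem]
    rfl
  rw [h3] at h1
  rw [← h1, mul_comm]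

theorem index_C : ∃ k, (centralizer ({(⟨g, H.gS⟩ : H.S)} : Set H.S)).index = 2 ^ k := by
  obtain ⟨b, hb⟩ := H.card_S
  obtain ⟨c, hc⟩ := H.card_C
  have h1 := Subgroup.card_mul_index (centralizer ({(⟨g, H.gS⟩ : H.S)} : Set H.S))
  rw [hb, hc, H.card_eq] at h1
  have h2 := H.card_eq
  have h3 := H.card
  have h4 : 0 < Nat.card H.K - 1 := by omega
  have h5 : 2 * Nat.card H.K - 2 = (Nat.card H.K - 1) * 2 := by omega
  rw [h5] at h1
  have h6 : 2 ^ c * (centralizer ({(⟨g, H.gS⟩ : H.S)} : Set H.S)).index = 2 * 2 ^ b := by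
    apply Nat.eq_of_mul_eq_mul_left h4
    rw [← mul_assoc, h1, mul_assoc]
  have h7 : (centralizer ({(⟨g, H.gS⟩ : H.S)} : Set H.S)).index ∣ 2 ^ (b + 1) := by
    rw [pow_succ, mul_comm (2 ^ b) 2, ← h6]
    exact Dvd.intro_left _ rfl
  obtain ⟨k, -, hk⟩ := (Nat.dvd_prime_pow Nat.prime_two).1 h7
  exact ⟨k, hk⟩

theorem core : ∃ t ∈ L, t ≠ 1 ∧ ∀ v, t v = v ∨ t v = v * e0 := by
  classical
  obtain ⟨k, hk⟩ := H.index_C
  have hsol := kazarin_aux (Nat.card H.S) rfl (⟨g, H.gS⟩ : H.S) Nat.prime_two k hk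
  have hne : normalClosure ({(⟨g, H.gS⟩ : H.S)} : Set H.S) ≠ ⊥ := by
    intro h
    have h1 : (⟨g, H.gS⟩ : H.S) ∈ normalClosure ({(⟨g, H.gS⟩ : H.S)} : Set H.S) :=
      subset_normalClosure rfl
    rw [h, Subgroup.mem_bot] at h1
    exact H.g_ne (congrArg Subtype.val h1)
  obtain ⟨M, hMn, hMle, hM1, hmin⟩ := Solv.exists_minimal_normal _ normalClosure_normal hne
  have hMsol : Group.IsSolvable M :=
    Group.isSolvable_of_isSolvable_injective (f := Subgroup.inclusion hMle) (Subgroup.inclusion_injective hMle)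
  obtain ⟨r, hr, hMr⟩ := Solv.minimal_normal_isPGroup M hMsol hM1
    (fun K hK hKM => hmin K hK hKM)
  haveI : Fact r.Prime := ⟨hr⟩
  obtain ⟨t, ht1⟩ := (Subgroup.ne_bot_iff_exists_ne_one (H := M)).1 hM1
  have ht1' : ((t : H.S) : MulAut E) ≠ 1 := fun h => ht1 (Subtype.ext (Subtype.ext h))
  obtain ⟨v, hv, hv1⟩ := H.exists_K
  have hv0 := H.K_ne hv
  by_cases hr2 : r = 2
  · subst hr2
    refine ⟨((t : H.S) : MulAut E), t.1.2.1, ht1', ?_⟩
    -- the action on `E / e0`
    set N := zpowers e0 with hN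
    have hmemN : ∀ x : E, x ∈ N ↔ x = 1 ∨ x = e0 := by
      intro x
      constructor
      · intro hx
        obtain ⟨n, rfl⟩ := mem_zpowers_iff.1 hx
        have h2 : e0 ^ (2 : ℤ) = 1 := by
          have := H.sq e0
          rw [← this, zpow_two]
        rcases Int.even_or_odd' n with ⟨m, hm | hm⟩
        · left; rw [hm, zpow_mul, h2, one_zpow]
        · right; rw [hm, zpow_add, zpow_mul, h2, one_zpow, one_mul, zpow_one]
      · rintro (rfl | rfl)
        · exact N.one_mem
        · exact mem_zpowers _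
    have hinv : ∀ α : H.S, N ≤ N.comap ((α : MulAut E) : E →* E) := by
      intro α x hx
      rw [mem_comap]
      rcases (hmemN x).1 hx with rfl | rfl
      · rw [map_one]; exact N.one_mem
      · have : ((α : MulAut E) : E →* E) x = x := α.2.2
        rw [this]; exact hx
    let act : MulAction M (E ⧸ N) :=
      { smul := fun α q => QuotientGroup.map N N (((α : H.S) : MulAut E) : E →* E) (hinv α) q
        one_smul := by rintro ⟨v⟩; rfl
        mul_smul := by rintro α β ⟨v⟩; rfl }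
    have hsm : ∀ (α : M) (x : E), α • (QuotientGroup.mk x : E ⧸ N) =
        QuotientGroup.mk (((α : H.S) : MulAut E) x) := fun α x => rfl
    have hcN : Nat.card N = 2 := by
      rw [hN, Nat.card_zpowers]
      exact orderOf_eq_prime (by rw [pow_two]; exact H.sq e0) H.ene
    have hdvd : 2 ∣ Nat.card (E ⧸ N) := by
      have h1 := Subgroup.card_eq_card_quotient_mul_card_subgroup N
      rw [hcN] at h1
      have h4 : 4 ∣ Nat.card E := by
        have h5 : IsPGroup 2 E := by
          rw [isPGroup_iff_pow_pow_eq_one]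
          exact fun x => ⟨1, by rw [pow_one, pow_two]; exact H.sq x⟩
        obtain ⟨n, hn⟩ := IsPGroup.iff_card.1 h5
        have h8 := H.card
        rw [hn] at h8 ⊢
        have : 2 ≤ n := by
          by_contra hcon
          have : n ≤ 1 := by omega
          have := Nat.pow_le_pow_right (n := 2) (by norm_num) this
          omega
        exact (Nat.pow_dvd_pow 2 this)
      obtain ⟨m, hm⟩ := h4
      exact ⟨m, by omega⟩
    have hfix1 : (QuotientGroup.mk 1 : E ⧸ N) ∈ MulAction.fixedPoints M (E ⧸ N) := by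
      intro α
      rw [hsm, map_one]
    obtain ⟨q, hq, hq1⟩ := hMr.exists_fixed_point_of_prime_dvd_card_of_fixed_point (E ⧸ N) hdvd hfix1
    obtain ⟨w, rfl⟩ := QuotientGroup.mk_surjective q
    have hwN : w ∉ N := by
      intro h
      apply hq1
      rw [QuotientGroup.mk_one]
      exact ((QuotientGroup.eq_one_iff w).2 h).symm
    rw [hmemN] at hwN
    push Not at hwN
    have hwfix : ∀ α : M, ((α : H.S) : MulAut E) w = w ∨ ((α : H.S) : MulAut E) w = w * e0 := by
      intro α
      have h1 := hq α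
      rw [hsm, eq_comm, QuotientGroup.eq, hmemN] at h1
      rcases h1 with h1 | h1
      · left
        exact (inv_mul_eq_one.1 h1).symm
      · right
        have h2 := congrArg (w * ·) h1
        simp only [mul_inv_cancel_left] at h2
        exact h2
    intro x
    by_cases hx1 : x = 1
    · left; rw [hx1, map_one]
    by_cases hx0 : x = e0
    · left; rw [hx0]; exact t.1.2.2
    obtain ⟨s, hs, hsw⟩ := H.transS hwN.1 hwN.2 hx1 hx0
    have hcm : (⟨s, hs⟩ : H.S)⁻¹ * (t : H.S) * (⟨s, hs⟩ : H.S)⁻¹⁻¹ ∈ M := hMn.conj_mem _ t.2 _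
    have h2 := hwfix ⟨_, hcm⟩
    have h3 : ∀ y, s ((s⁻¹ * ((t : H.S) : MulAut E) * s) y) = ((t : H.S) : MulAut E) (s y) := by
      intro y
      rw [← MulAut.mul_apply, ← MulAut.mul_apply]
      congr 1
      group
    have h4 : (((⟨_, hcm⟩ : M) : H.S) : MulAut E) = s⁻¹ * ((t : H.S) : MulAut E) * s := by
      simp
    rw [h4] at h2
    rcases h2 with h2 | h2
    · left
      have := h3 w
      rw [h2, hsw] at this
      exact this.symm
    · right
      have := h3 w
      rw [h2, map_mul, hsw, hs.2] at this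
      exact this.symm
  · exfalso
    haveI : Fintype M := Fintype.ofFinite M
    have hodd : Odd (Nat.card M) := by
      obtain ⟨n, hn⟩ := IsPGroup.iff_card.1 hMr
      rw [hn]
      exact (hr.odd_of_ne_two hr2).pow
    have hMfix : ∀ x : E, (∀ β : M, ((β : H.S) : MulAut E) x = x) → x = 1 ∨ x = e0 := by
      intro x hx
      by_contra hcon
      push Not at hcon
      apply ht1'
      apply H.reg _ t.1.2.1 _ x e0 hcon.1 H.ene hcon.2 (hx t) t.1.2.2
      have h1 : orderOf ((t : H.S) : MulAut E) ∣ Nat.card M := by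
        have h2 := orderOf_dvd_natCard t
        rwa [← Subgroup.orderOf_coe, ← Subgroup.orderOf_coe] at h2
      exact Odd.of_dvd_nat hodd h1
    set Nm : E → E := fun x => ∏ α : M, ((α : H.S) : MulAut E) x with hNm
    have h1 : ∀ x, Nm x = 1 ∨ Nm x = e0 := by
      intro x
      apply hMfix
      intro β
      rw [hNm]
      simp only
      rw [map_prod]
      exact Fintype.prod_equiv (Equiv.mulLeft β) _ _ (fun α => rfl)
    have h2 : ∀ s (hs : s ∈ H.S) (x : E), Nm (s x) = Nm x := by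
      intro s hs x
      have h3 : s (Nm x) = Nm x := by
        rcases h1 x with h | h
        · rw [h, map_one]
        · rw [h]; exact hs.2
      rw [← h3, hNm]
      simp only
      rw [map_prod]
      symm
      refine Fintype.prod_equiv (MulAut.conjNormal (⟨s, hs⟩ : H.S)).toEquiv _ _ (fun α => ?_)
      have h4 : (((MulAut.conjNormal (⟨s, hs⟩ : H.S) α : M) : H.S) : MulAut E) =
          s * ((α : H.S) : MulAut E) * s⁻¹ := by
        rw [MulAut.conjNormal_apply]
        simp
      change s (((α : H.S) : MulAut E) x) = (((MulAut.conjNormal (⟨s, hs⟩ : H.S) α : M) : H.S) : MulAut E) (s x)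
      rw [h4, ← MulAut.mul_apply, ← MulAut.mul_apply]
      congr 1
      group
    have h5 : Nm (v * e0) = Nm v * e0 := by
      rw [hNm]
      simp only [map_mul]
      rw [Finset.prod_mul_distrib]
      congr 1
      have h6 : ∀ α : M, ((α : H.S) : MulAut E) e0 = e0 := fun α => α.1.2.2
      simp only [h6]
      rw [Finset.prod_const, Finset.card_univ, ← Nat.card_eq_fintype_card]
      obtain ⟨m, hm⟩ := hodd
      rw [hm, pow_succ, pow_mul, pow_two, H.sq, one_pow, one_mul]
    obtain ⟨s, hs, hsv⟩ := H.transS hv1 hv0 (w := v * e0)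
      (fun h => hv0 (by rw [← H.inv_eq e0]; exact eq_inv_of_mul_eq_one_left h))
      (fun h => hv1 (by simpa using h))
    have h7 := h2 s hs v
    rw [hsv, h5] at h7
    exact H.ene (by simpa using h7)

end Hy

end Cfsg.Agent.H67.Pyr
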