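import Mathlib
import Cfsg.Agent.H67.Elem

set_option autoImplicit false

/-!
Simple groups with a Sylow 2-subgroup of order 4: all involutions are conjugate.
-/

namespace Cfsg.Agent.H67

open Subgroup

universe u

/-- Elements of prime power order normalizing a Sylow subgroup lie in it. -/
theorem mem_sylow_of_mem_normalizer {G : Type u} [Group G] {p : ℕ} [Fact p.Prime] [Finite G]
    (P : Sylow p G) {x : G} {k : ℕ} (hx : orderOf x = p ^ k)
    (hn : x ∈ normalizer ((P : Subgroup G) : Set G)) : x ∈ P := by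
  have h1 : IsPGroup p (zpowers x) := IsPGroup.of_card (n := k) (by rw [Nat.card_zpowers, hx])
  have h2 := h1.inf_normalizer_sylow P
  have h3 : x ∈ zpowers x ⊓ normalizer (P : Set G) := ⟨mem_zpowers x, hn⟩
  rw [h2] at h3
  exact h3.2

/-- Five different elements need a subgroup of order at least five. -/
theorem five_le_card {G : Type u} [Group G] [Finite G] (S : Subgroup G) (l : List G) (hl : l.Nodup)
    (hS : ∀ x ∈ l, x ∈ S) : l.length ≤ Nat.card S := by
  classical
  have h1 : (l.toFinset : Set G) ⊆ (S : Set G) := by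
    intro x hx
    simp only [List.coe_toFinset, Set.mem_ofPred_eq] at hx
    exact hS x hx
  have h2 := Set.ncard_le_ncard h1 (Set.toFinite _)
  rw [Set.ncard_coe_finset, List.toFinset_card_of_nodup hl] at h2
  exact h2

theorem mem_centralizer_of_conj_sq {G : Type u} [Group G] [Finite G] {n x : G} (hn : Odd (orderOf n))
    (h : n * (n * x * n⁻¹) * n⁻¹ = x) : n * x * n⁻¹ = x := by
  have h1 : (n ^ 2) ∈ centralizer ({x} : Set G) := by
    rw [mem_centralizer_singleton_iff]
    have h2 : n ^ 2 * x * (n ^ 2)⁻¹ = x := by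
      calc n ^ 2 * x * (n ^ 2)⁻¹ = n * (n * x * n⁻¹) * n⁻¹ := by rw [pow_two]; group
        _ = x := h
    calc n ^ 2 * x = (n ^ 2 * x * (n ^ 2)⁻¹) * n ^ 2 := by group
      _ = x * n ^ 2 := by rw [h2]
  have h3 : n ∈ zpowers (n ^ 2) := by
    obtain ⟨k, hk⟩ := hn
    have h4 : n = (n ^ 2) ^ (k + 1) := by
      rw [← pow_mul]
      have : 2 * (k + 1) = orderOf n + 1 := by omega
      rw [this, pow_succ, pow_orderOf_eq_one, one_mul]
    have h6 : (n ^ 2) ^ (k + 1) ∈ zpowers (n ^ 2) := pow_mem (mem_zpowers _) _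
    rwa [← h4] at h6
  have h5 : n ∈ centralizer ({x} : Set G) := (zpowers_le.mpr h1) h3
  rw [mem_centralizer_singleton_iff] at h5
  rw [h5]; group

/-- In a simple group with Sylow 2-subgroup `S` of order four there is an element of odd order normalizing `S`
and acting without fixed points. -/
theorem exists_fpf_of_sylow_four {G : Type u} [Group G] [Finite G] [IsSimpleGroup G] (S : Sylow 2 G)
    (hS : Nat.card S = 4) (hne : (S : Subgroup G) ≠ ⊤) :
    ∃ n : G, Odd (orderOf n) ∧ (∀ x ∈ S, n * x * n⁻¹ ∈ S) ∧ (∀ x ∈ S, x ≠ 1 → n * x * n⁻¹ ≠ x) := by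
  haveI : Fact (Nat.Prime 2) := ⟨Nat.prime_two⟩
  have hcomm : ∀ a b : S, a * b = b * a :=
    IsPGroup.commutative_of_card_eq_prime_sq (p := 2) (by
      have h6 : Nat.card (S : Subgroup G) = 2 ^ 2 := by rw [hS]; norm_num
      exact h6)
  have hSC : (S : Subgroup G) ≤ centralizer (S : Set G) := by
    intro x hx
    rw [mem_centralizer_iff]
    intro y hy
    exact congrArg Subtype.val (hcomm ⟨y, hy⟩ ⟨x, hx⟩)
  have hN : ¬ normalizer ((S : Subgroup G) : Set G) ≤ centralizer (S : Set G) := by
    intro h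
    have h1 := MonoidHom.ker_transferSylow_isComplement' S h
    rcases (MonoidHom.normal_ker (MonoidHom.transferSylow S h)).eq_bot_or_eq_top with h2 | h2
    · rw [h2] at h1
      exact hne (isComplement'_bot_left.mp h1)
    · rw [h2] at h1
      have := isComplement'_top_left.mp h1
      rw [this] at hS
      simp at hS
  obtain ⟨n0, hn0, hn0C⟩ := SetLike.not_le_iff_exists.mp hN
  obtain ⟨k, m, hm, hkm⟩ := Nat.exists_eq_two_pow_mul_odd (orderOf_pos n0).ne'
  obtain ⟨i, j, hij, hi, hj⟩ := exists_decomp n0 (2 ^ k) m hkm (Nat.Coprime.pow_left k (Nat.coprime_two_left.mpr hm))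
  have h3 : n0 ^ i ∈ S := mem_sylow_of_mem_normalizer S hi (pow_mem hn0 i)
  have h4 : n0 ^ j ∉ centralizer (S : Set G) := by
    intro h
    apply hn0C
    rw [hij]
    exact mul_mem (hSC h3) h
  set n := n0 ^ j with hn
  have hnN : n ∈ normalizer ((S : Subgroup G) : Set G) := pow_mem hn0 j
  have hodd : Odd (orderOf n) := by rw [hj]; exact hm
  have hnS : ∀ x ∈ S, n * x * n⁻¹ ∈ S := fun x hx => (mem_normalizer_iff.mp hnN x).mp hx
  refine ⟨n, hodd, hnS, ?_⟩
  intro x hx hx1 hfix
  apply h4
  rw [mem_centralizer_iff]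
  intro y hy
  have key : n * y * n⁻¹ = y := by
    by_cases hy1 : y = 1
    · subst hy1; simp
    by_cases hyx : y = x
    · rw [hyx]; exact hfix
    apply mem_centralizer_of_conj_sq hodd
    by_contra hcon
    set y1 := n * y * n⁻¹ with hy1'
    set y2 := n * y1 * n⁻¹ with hy2'
    have hinj : ∀ a b : G, n * a * n⁻¹ = n * b * n⁻¹ → a = b := by
      intro a b h
      simpa using h
    have e1 : y1 ≠ y := by
      intro h
      apply hcon
      rw [hy2', h, ← hy1', h]
    have e2 : y2 ≠ y1 := by
      intro h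
      apply e1
      apply hinj
      rw [← hy2', h, hy1']
    have e3 : y1 ≠ 1 := by
      intro h
      apply hy1
      apply hinj
      rw [← hy1', h]; simp
    have e4 : y2 ≠ 1 := by
      intro h
      apply e3
      apply hinj
      rw [← hy2', h]; simp
    have e5 : y1 ≠ x := by
      intro h
      apply hyx
      apply hinj
      rw [← hy1', h, hfix]
    have e6 : y2 ≠ x := by
      intro h
      apply e5
      apply hinj
      rw [← hy2', h, hfix]
    have h5 := five_le_card (S : Subgroup G) [1, x, y, y1, y2] (by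
      simp only [List.nodup_cons, List.mem_cons, List.not_mem_nil, or_false, not_or, not_false_eq_true,
        List.nodup_nil, and_true]
      exact ⟨⟨fun h => hx1 h.symm, fun h => hy1 h.symm, fun h => e3 h.symm, fun h => e4 h.symm⟩,
        ⟨fun h => hyx h.symm, fun h => e5 h.symm, fun h => e6 h.symm⟩,
        ⟨fun h => e1 h.symm, fun h => hcon h.symm⟩, fun h => e2 h.symm⟩) (by
      intro z hz
      simp only [List.mem_cons, List.not_mem_nil, or_false] at hz
      rcases hz with rfl | rfl | rfl | rfl | rfl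
      · exact one_mem _
      · exact hx
      · exact hy
      · exact hnS _ hy
      · exact hnS _ (hnS _ hy))
    have h6 : Nat.card (S : Subgroup G) = 4 := hS
    rw [h6] at h5
    simp at h5
  calc y * n = (n * y * n⁻¹) * n := by rw [key]
    _ = n * y := by group

/-- In such a group, the nonidentity elements of `S` are `t`, `n t n⁻¹`, `n² t n⁻²`. -/
theorem eq_conj_of_sylow_four {G : Type u} [Group G] [Finite G] (S : Subgroup G)
    (hS : Nat.card S = 4) {n : G} (hodd : Odd (orderOf n)) (hnS : ∀ x ∈ S, n * x * n⁻¹ ∈ S)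
    (hfpf : ∀ x ∈ S, x ≠ 1 → n * x * n⁻¹ ≠ x) {t : G} (ht : t ∈ S) (ht1 : t ≠ 1) {y : G} (hy : y ∈ S)
    (hy1 : y ≠ 1) : y = t ∨ y = n * t * n⁻¹ ∨ y = n * (n * t * n⁻¹) * n⁻¹ := by
  by_contra hcon
  push Not at hcon
  obtain ⟨c1, c2, c3⟩ := hcon
  set t1 := n * t * n⁻¹ with ht1'
  set t2 := n * t1 * n⁻¹ with ht2'
  have hinj : ∀ a b : G, n * a * n⁻¹ = n * b * n⁻¹ → a = b := by
    intro a b h
    simpa using h
  have e1 : t1 ≠ t := hfpf t ht ht1
  have e3 : t1 ≠ 1 := by
    intro h
    apply ht1
    apply hinj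
    rw [← ht1', h]; simp
  have e2 : t2 ≠ t1 := hfpf t1 (hnS _ ht) e3
  have e4 : t2 ≠ 1 := by
    intro h
    apply e3
    apply hinj
    rw [← ht2', h]; simp
  have e5 : t2 ≠ t := by
    intro h
    exact e1 (mem_centralizer_of_conj_sq hodd h)
  have h5 := five_le_card S [1, t, t1, t2, y] (by
      simp only [List.nodup_cons, List.mem_cons, List.not_mem_nil, or_false, not_or, not_false_eq_true,
        List.nodup_nil, and_true]
      exact ⟨⟨fun h => ht1 h.symm, fun h => e3 h.symm, fun h => e4 h.symm, fun h => hy1 h.symm⟩,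
        ⟨fun h => e1 h.symm, fun h => e5 h.symm, fun h => c1 h.symm⟩,
        ⟨fun h => e2 h.symm, fun h => c2 h.symm⟩, fun h => c3 h.symm⟩) (by
      intro z hz
      simp only [List.mem_cons, List.not_mem_nil, or_false] at hz
      rcases hz with rfl | rfl | rfl | rfl | rfl
      · exact one_mem _
      · exact ht
      · exact hnS _ ht
      · exact hnS _ (hnS _ ht)
      · exact hy)
  rw [hS] at h5
  simp at h5

/-- In a simple group with a Sylow 2-subgroup of order four all involutions are conjugate. -/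
theorem isConj_involutions_of_sylow_four {G : Type u} [Group G] [Finite G] [IsSimpleGroup G] (S : Sylow 2 G)
    (hS : Nat.card S = 4) (hne : (S : Subgroup G) ≠ ⊤) {t u : G} (ht : orderOf t = 2) (hu : orderOf u = 2) :
    IsConj t u := by
  haveI : Fact (Nat.Prime 2) := ⟨Nat.prime_two⟩
  obtain ⟨n, hodd, hnS, hfpf⟩ := exists_fpf_of_sylow_four S hS hne
  have hconjS : ∀ x : G, orderOf x = 2 → ∃ y ∈ S, IsConj x y ∧ y ≠ 1 := by
    intro x hx
    have h1 : IsPGroup 2 (zpowers x) := IsPGroup.of_card (n := 1) (by rw [Nat.card_zpowers, hx]; norm_num)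
    obtain ⟨Q, hQ⟩ := h1.exists_le_sylow
    obtain ⟨g, hg⟩ := MulAction.exists_smul_eq G Q S
    refine ⟨g * x * g⁻¹, ?_, isConj_iff.mpr ⟨g, rfl⟩, ?_⟩
    · have hxQ : x ∈ Q := hQ (mem_zpowers x)
      rw [← hg, ← SetLike.mem_coe]
      change g * x * g⁻¹ ∈ ((g • Q : Sylow 2 G) : Subgroup G)
      rw [Sylow.coe_subgroup_smul, mem_pointwise_smul_iff_inv_smul_mem]
      have h5 : (MulAut.conj g)⁻¹ • (g * x * g⁻¹) = x := by
        rw [inv_smul_eq_iff]
        simp
      rw [h5]
      exact hxQ
    · intro h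
      have : x = 1 := by
        have h2 : g * x = g := by
          calc g * x = (g * x * g⁻¹) * g := by group
            _ = g := by rw [h, one_mul]
        simpa using h2
      rw [this, orderOf_one] at hx
      exact absurd hx (by norm_num)
  obtain ⟨a, haS, hta, ha1⟩ := hconjS t ht
  obtain ⟨b, hbS, hub, hb1⟩ := hconjS u hu
  have hab : IsConj a b := by
    rcases eq_conj_of_sylow_four (S : Subgroup G) hS hodd hnS hfpf haS ha1 hbS hb1 with h | h | h
    · rw [h]
    · exact isConj_iff.mpr ⟨n, h.symm⟩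
    · exact isConj_iff.mpr ⟨n * n, by rw [h]; group⟩
  exact hta.trans (hab.trans hub.symm)

end Cfsg.Agent.H67
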