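import Mathlib
import Cfsg.Prelude.Def_OddOrderLocal
import Cfsg.Agent.H67.Basic
import Cfsg.Agent.H67.Elem
import Cfsg.Agent.H67.Friendship
import Cfsg.Agent.H67.SylowFour

set_option autoImplicit false

/-!
S4018: involutions of a group with abelian Sylow 3-subgroup and small normalizer form a friendship graph.
-/

namespace Cfsg.Agent.H67

open Subgroup

universe u

/-- A group with the stated properties is not simple. -/
theorem not_simple_of_small_normalizer {G : Type u} [Group G] [Finite G]
    (P : Sylow 3 G) (hab : IsMulCommutative P)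
    (hN : Nat.card (Subgroup.normalizer ((P : Subgroup G) : Set G)) = 4 * Nat.card P)
    (hC : Nat.card (Subgroup.centralizer (P : Set G)) = 2 * Nat.card P)
    (hTI : Cfsg.IsTISubset (Subgroup.centralizer (P : Set G) : Set G))
    (heven : ∀ H : Subgroup G, H ≠ ⊤ → 2 ∣ Nat.card H → Nat.card H ∣ 4 * Nat.card P) :
    ¬ IsSimpleGroup G := by
  classical
  intro hsimple
  haveI : Fact (Nat.Prime 2) := ⟨Nat.prime_two⟩
  haveI : Fact (Nat.Prime 3) := ⟨Nat.prime_three⟩
  set N := normalizer ((P : Subgroup G) : Set G) with hNdef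
  set C := centralizer (P : Set G) with hCdef
  set m := Nat.card P with hm
  obtain ⟨a, ha⟩ := P.2.exists_card_eq
  have hma : m = 3 ^ a := ha
  have hmodd : Odd m := by rw [hma]; exact Odd.pow (by decide)
  have hmpos : 0 < m := Nat.card_pos
  have hNG : 4 * m ∣ Nat.card G := hN ▸ card_subgroup_dvd_card N
  -- `m ≠ 1`
  have hm1 : m ≠ 1 := by
    intro h1
    have hPbot : (P : Subgroup G) = ⊥ := by
      rw [← card_eq_one]; exact h1
    have hNtop : N = ⊤ := by rw [hNdef, hPbot]; exact normalizer_eq_top_iff.mpr inferInstance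
    have h4 : Nat.card G = 2 ^ 2 := by
      have := hN
      rw [hNtop, h1] at this
      rw [← card_top (G := G), this]
      norm_num
    have hcomm : ∀ a b : G, a * b = b * a := IsPGroup.commutative_of_card_eq_prime_sq (p := 2) h4
    obtain ⟨t, ht⟩ := exists_prime_orderOf_dvd_card' (G := G) 2 (by rw [h4]; norm_num)
    have hn : (zpowers t).Normal := ⟨fun x hx g => by
      rw [hcomm g x, mul_inv_cancel_right]; exact hx⟩
    rcases hn.eq_bot_or_eq_top with h5 | h5
    · have h6 : Nat.card (zpowers t) = 1 := by rw [h5]; simp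
      rw [Nat.card_zpowers, ht] at h6
      omega
    · have h6 : Nat.card (zpowers t) = 4 := by rw [h5, card_top, h4]; norm_num
      rw [Nat.card_zpowers, ht] at h6
      omega
  have ha0 : a ≠ 0 := by rintro rfl; exact hm1 (by rw [hma]; norm_num)
  have hm3 : 3 ≤ m := by
    rw [hma]
    calc 3 = 3 ^ 1 := by norm_num
      _ ≤ 3 ^ a := Nat.pow_le_pow_right (by norm_num) (Nat.one_le_iff_ne_zero.mpr ha0)
  -- facts on `P`
  have hPcomm : ∀ x ∈ P, ∀ y ∈ P, x * y = y * x := by
    intro x hx y hy
    have := hab.is_comm.comm ⟨x, hx⟩ ⟨y, hy⟩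
    exact congrArg Subtype.val this
  have hPsq : ∀ x ∈ P, x * x = 1 → x = 1 := by
    intro x hx hxx
    have h1 : orderOf x ∣ 2 := orderOf_dvd_of_pow_eq_one (by rw [pow_two]; exact hxx)
    have h2 : orderOf x ∣ m := by
      have := orderOf_dvd_natCard (⟨x, hx⟩ : P)
      rwa [orderOf_mk] at this
    have h3 : Nat.Coprime 2 m := Nat.coprime_two_left.mpr hmodd
    exact orderOf_eq_one_iff.mp (Nat.eq_one_of_dvd_coprimes h3 h1 h2)
  have hPC : (P : Subgroup G) ≤ C := by
    intro x hx
    rw [hCdef, mem_centralizer_iff]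
    intro y hy
    exact hPcomm y hy x hx
  have hCP : ∀ c ∈ C, ∀ x ∈ P, x * c = c * x := by
    intro c hc x hx
    exact mem_centralizer_iff.mp hc x hx
  -- the involution `t`
  obtain ⟨t', ht'⟩ := exists_prime_orderOf_dvd_card' (G := C) 2 (by rw [hC]; exact dvd_mul_right _ _)
  obtain ⟨t, htC⟩ := t'
  rw [orderOf_mk] at ht'
  have ht2 : t * t = 1 := by
    have := pow_orderOf_eq_one t
    rwa [ht', pow_two] at this
  have ht1 : t ≠ 1 := by
    rintro rfl
    rw [orderOf_one] at ht'
    omega
  have htinv : t⁻¹ = t := inv_eq_of_mul_eq_one_left ht2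
  have htP : t ∉ P := fun h => ht1 (hPsq t h ht2)
  have hidx : ((P : Subgroup G).subgroupOf C).index = 2 := by
    have h1 := natCard_mul_relIndex (P : Subgroup G) C hPC
    rw [hC] at h1
    have h2 : m * (P : Subgroup G).relIndex C = m * 2 := by rw [mul_comm m 2]; exact h1
    exact Nat.eq_of_mul_eq_mul_left hmpos h2
  have hcoset : ∀ c ∈ C, c ∉ P → ∀ d ∈ C, d ∉ P → c * d ∈ P := by
    intro c hc hcP d hd hdP
    have h1 := mul_mem_iff_of_index_two hidx (a := ⟨c, hc⟩) (b := ⟨d, hd⟩)
    rw [mem_subgroupOf, mem_subgroupOf, mem_subgroupOf] at h1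
    exact h1.mpr ⟨fun h => absurd h hcP, fun h => absurd h hdP⟩
  -- `C` is commutative
  have htcomm : ∀ d ∈ C, d * t = t * d := by
    intro d hd
    by_cases hdP : d ∈ P
    · exact hCP t htC d hdP
    · have h1 := hCP t htC (d * t) (hcoset d hd hdP t htC htP)
      have h2 : d * t * t = t * (d * t) := h1
      rw [← mul_assoc] at h2
      exact mul_right_cancel h2
  have hCcomm : ∀ c ∈ C, ∀ d ∈ C, c * d = d * c := by
    intro c hc d hd
    by_cases hcP : c ∈ P
    · exact hCP d hd c hcP
    · have h1 := hCP d hd (c * t) (hcoset c hc hcP t htC htP)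
      -- c * t * d = d * (c * t)
      have h2 : c * d * t = d * c * t := by
        calc c * d * t = c * (d * t) := by group
          _ = c * (t * d) := by rw [htcomm d hd]
          _ = c * t * d := by group
          _ = d * (c * t) := h1
          _ = d * c * t := by group
      exact mul_right_cancel h2
  have huniq : ∀ u ∈ C, u * u = 1 → u ≠ 1 → u = t := by
    intro u hu huu hu1
    have huP : u ∉ P := fun h => hu1 (hPsq u h huu)
    have h1 := hcoset u hu huP t htC htP
    have h2 : (u * t) * (u * t) = 1 := by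
      calc (u * t) * (u * t) = u * (t * u) * t := by group
        _ = u * (u * t) * t := by rw [htcomm u hu]
        _ = (u * u) * (t * t) := by group
        _ = 1 := by rw [huu, ht2, one_mul]
    have h3 := hPsq _ h1 h2
    calc u = (u * t) * t⁻¹ := by group
      _ = t := by rw [h3, one_mul, htinv]
  -- `N` centralizes `t`
  have hNt : ∀ g ∈ N, g * t * g⁻¹ = t := by
    intro g hg
    apply huniq
    · rw [hCdef, mem_centralizer_iff]
      intro x hx
      have h1 : g⁻¹ * x * g ∈ P := by
        have h2 : g⁻¹ ∈ N := inv_mem hg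
        have h5 := (mem_normalizer_iff.mp h2 x).mp hx
        rw [inv_inv] at h5
        exact h5
      have h3 := hCP t htC _ h1
      calc x * (g * t * g⁻¹) = g * ((g⁻¹ * x * g) * t) * g⁻¹ := by group
        _ = g * (t * (g⁻¹ * x * g)) * g⁻¹ := by rw [h3]
        _ = g * t * g⁻¹ * x := by group
    · calc g * t * g⁻¹ * (g * t * g⁻¹) = g * (t * t) * g⁻¹ := by group
        _ = 1 := by rw [ht2]; group
    · intro h
      apply ht1
      calc t = g⁻¹ * (g * t * g⁻¹) * g := by group
        _ = 1 := by rw [h]; group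
  have hNCt : N ≤ centralizer ({t} : Set G) := by
    intro g hg
    rw [mem_centralizer_singleton_iff]
    calc g * t = (g * t * g⁻¹) * g := by group
      _ = t * g := by rw [hNt g hg]
  have hCttop : centralizer ({t} : Set G) ≠ ⊤ := by
    intro h
    have hn : (zpowers t).Normal := by
      constructor
      intro x hx g
      obtain ⟨k, rfl⟩ := mem_zpowers_iff.mp hx
      have hg : g ∈ centralizer ({t} : Set G) := by rw [h]; exact mem_top g
      rw [mem_centralizer_singleton_iff] at hg
      have h1 : g * t * g⁻¹ = t := by rw [hg]; group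
      rw [← conj_zpow, h1]
      exact zpow_mem (mem_zpowers t) k
    rcases hn.eq_bot_or_eq_top with h5 | h5
    · exact ht1 (zpowers_eq_bot.mp h5)
    · have h6 : Nat.card (zpowers t) = Nat.card G := by rw [h5, card_top]
      rw [Nat.card_zpowers, ht'] at h6
      rw [← h6] at hNG
      have := Nat.le_of_dvd (by norm_num) hNG
      omega
  have hCt : centralizer ({t} : Set G) = N := by
    symm
    apply eq_of_le_of_card_ge hNCt
    rw [hN]
    apply Nat.le_of_dvd (by positivity)
    apply heven _ hCttop
    have h1 : t ∈ centralizer ({t} : Set G) := by rw [mem_centralizer_singleton_iff]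
    have := orderOf_dvd_natCard (⟨t, h1⟩ : centralizer ({t} : Set G))
    rwa [orderOf_mk, ht'] at this
  -- the TI property
  have hTI' : ∀ g c : G, c ∈ C → c ≠ 1 → g * c * g⁻¹ ∈ C → g * t * g⁻¹ = t := by
    intro g c hc hc1 hgc
    have hgN : g ∈ normalizer (C : Set G) := by
      by_contra h
      exact hc1 (hTI g h c hc hgc)
    have h1 : g * t * g⁻¹ ∈ C := (mem_normalizer_iff.mp hgN t).mp htC
    apply huniq _ h1
    · calc g * t * g⁻¹ * (g * t * g⁻¹) = g * (t * t) * g⁻¹ := by group
        _ = 1 := by rw [ht2]; group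
    · intro h
      apply ht1
      calc t = g⁻¹ * (g * t * g⁻¹) * g := by group
        _ = 1 := by rw [h]; group
  -- a Sylow 2-subgroup containing `t`
  have htp : IsPGroup 2 (zpowers t) := IsPGroup.of_card (n := 1) (by rw [Nat.card_zpowers, ht']; norm_num)
  obtain ⟨S, hS⟩ := htp.exists_le_sylow
  have htS : t ∈ S := hS (mem_zpowers t)
  obtain ⟨b, hb⟩ := S.2.exists_card_eq
  have hcop : Nat.Coprime (Nat.card S) m := by
    have : Nat.card S = 2 ^ b := hb
    rw [this, hma]
    exact Nat.Coprime.pow _ _ (by norm_num)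
  have hStop : (S : Subgroup G) ≠ ⊤ := by
    intro h
    have h1 : Nat.card S = Nat.card G := by
      have : Nat.card (S : Subgroup G) = Nat.card G := by rw [h, card_top]
      exact this
    rw [h1] at hcop
    have h2 : m ∣ Nat.card G := (dvd_mul_left m 4).trans hNG
    exact hm1 (Nat.eq_one_of_dvd_coprimes hcop h2 dvd_rfl)
  have hScard : Nat.card S = 4 := by
    apply Nat.dvd_antisymm
    · have h1 : Nat.card (S : Subgroup G) ∣ 4 * m := by
        apply heven _ hStop
        have := orderOf_dvd_natCard (⟨t, htS⟩ : (S : Subgroup G))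
        rwa [orderOf_mk, ht'] at this
      exact hcop.dvd_of_dvd_mul_right h1
    · have h1 : 2 ^ 2 ∣ Nat.card G := (dvd_mul_right 4 m).trans hNG
      exact S.pow_dvd_card_of_pow_dvd_card h1
  have hinvol : ∀ u : G, orderOf u = 2 → ∃ g : G, g * t * g⁻¹ = u := by
    intro u hu
    exact isConj_iff.mp (isConj_involutions_of_sylow_four S hScard hStop ht' hu)
  obtain ⟨n, hodd, hnS, hfpf⟩ := exists_fpf_of_sylow_four S hScard hStop
  set s := n * t * n⁻¹ with hs
  have hsS : s ∈ S := hnS t htS
  have hst : s ≠ t := hfpf t htS ht1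
  have hScomm : ∀ x ∈ S, ∀ y ∈ S, x * y = y * x := by
    intro x hx y hy
    have h1 : Nat.card S = 2 ^ 2 := by rw [hScard]; norm_num
    exact congrArg Subtype.val (IsPGroup.commutative_of_card_eq_prime_sq (p := 2) h1 ⟨x, hx⟩ ⟨y, hy⟩)
  have hs2 : s * s = 1 := by
    rw [hs]
    calc n * t * n⁻¹ * (n * t * n⁻¹) = n * (t * t) * n⁻¹ := by group
      _ = 1 := by rw [ht2]; group
  have hs1 : s ≠ 1 := by
    intro h
    apply ht1
    calc t = n⁻¹ * (n * t * n⁻¹) * n := by group
      _ = 1 := by rw [← hs, h]; group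
  have hsinv : s⁻¹ = s := inv_eq_of_mul_eq_one_left hs2
  have hstc : s * t = t * s := hScomm s hsS t htS
  have hsN : s ∈ N := by
    rw [← hCt, mem_centralizer_singleton_iff]
    exact hstc
  have hsC : s ∉ C := fun h => hst (huniq s h hs2 hs1)
  have hsfix : ∀ x ∈ P, s * x * s⁻¹ = x → x = 1 := by
    intro x hx hsx
    by_contra hx1
    have h1 : n⁻¹ * x * n ∈ centralizer ({t} : Set G) := by
      rw [mem_centralizer_singleton_iff]
      have h2 : s * x = x * s := by
        calc s * x = (s * x * s⁻¹) * s := by group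
          _ = x * s := by rw [hsx]
      calc n⁻¹ * x * n * t = n⁻¹ * (x * (n * t * n⁻¹)) * n := by group
        _ = n⁻¹ * ((n * t * n⁻¹) * x) * n := by rw [← hs, h2]
        _ = t * (n⁻¹ * x * n) := by group
    rw [hCt] at h1
    obtain ⟨k, hk⟩ : ∃ k, orderOf x = 3 ^ k := by
      have h3 : orderOf x ∣ 3 ^ a := by
        have h3' := orderOf_dvd_natCard (⟨x, hx⟩ : (P : Subgroup G))
        rw [orderOf_mk] at h3'
        rwa [ha] at h3'
      obtain ⟨k, -, hk⟩ := (Nat.dvd_prime_pow Nat.prime_three).mp h3
      exact ⟨k, hk⟩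
    have h5 : orderOf (n⁻¹ * x * n) = 3 ^ k := by
      have := orderOf_conj_eq n⁻¹ x
      rw [inv_inv] at this
      rw [this, hk]
    have h6 : n⁻¹ * x * n ∈ P := mem_sylow_of_mem_normalizer P h5 h1
    apply hst
    apply hTI' n (n⁻¹ * x * n) (hPC h6)
    · intro h
      apply hx1
      calc x = n * (n⁻¹ * x * n) * n⁻¹ := by group
        _ = 1 := by rw [h]; group
    · have e : n * (n⁻¹ * x * n) * n⁻¹ = x := by group
      rw [e]
      exact hPC hx
  have hsP : ∀ x ∈ P, s * x * s⁻¹ ∈ P := fun x hx => (mem_normalizer_iff.mp hsN x).mp hx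
  have hsinvP : ∀ x ∈ P, s * x * s⁻¹ = x⁻¹ := by
    intro x hx
    have h1 := hsP x hx
    have h2 := hsfix (x * (s * x * s⁻¹)) (mul_mem hx h1) (by
      calc s * (x * (s * x * s⁻¹)) * s⁻¹ = (s * x * s⁻¹) * ((s * s) * x * (s * s)⁻¹) := by group
        _ = (s * x * s⁻¹) * x := by rw [hs2]; group
        _ = x * (s * x * s⁻¹) := hPcomm _ h1 _ hx)
    exact (inv_eq_of_mul_eq_one_right h2).symm
  have hsinvC : ∀ c ∈ C, s * c * s⁻¹ = c⁻¹ := by
    intro c hc
    by_cases hcP : c ∈ P
    · exact hsinvP c hcP
    · have h1 := hsinvP (c * t) (hcoset c hc hcP t htC htP)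
      have h2 : s * (c * t) * s⁻¹ = s * c * s⁻¹ * t := by
        calc s * (c * t) * s⁻¹ = s * c * s⁻¹ * (s * t * s⁻¹) := by group
          _ = s * c * s⁻¹ * t := by rw [hNt s hsN]
      rw [h2] at h1
      calc s * c * s⁻¹ = (s * c * s⁻¹ * t) * t⁻¹ := by group
        _ = (c * t)⁻¹ * t⁻¹ := by rw [h1]
        _ = (c * t)⁻¹ * t := by rw [htinv]
        _ = (t * c)⁻¹ * t := by rw [htcomm c hc]
        _ = c⁻¹ * (t⁻¹ * t) := by group
        _ = c⁻¹ := by group
  -- `N \ C` consists of involutions
  have hCN : C ≤ N := by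
    intro c hc
    rw [hNdef, mem_normalizer_iff]
    intro x
    constructor
    · intro hx
      have h1 : c * x * c⁻¹ = x := by rw [← hCP c hc x hx]; group
      rw [h1]; exact hx
    · intro hx
      have h1 := hCP c hc _ hx
      have h2 : c * x * c⁻¹ * c = c * x := by group
      rw [h2] at h1
      have h3 : x = c * x * c⁻¹ := mul_left_cancel h1
      rw [h3]; exact hx
  have hidxN : (C.subgroupOf N).index = 2 := by
    have h1 := natCard_mul_relIndex C N hCN
    rw [hC, hN] at h1
    have h2 : (2 * m) * C.relIndex N = (2 * m) * 2 := by rw [h1]; ring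
    exact Nat.eq_of_mul_eq_mul_left (by positivity) h2
  have hNcoset : ∀ c ∈ N, c ∉ C → ∀ d ∈ N, d ∉ C → c * d ∈ C := by
    intro c hc hcP d hd hdP
    have h1 := mul_mem_iff_of_index_two hidxN (a := ⟨c, hc⟩) (b := ⟨d, hd⟩)
    rw [mem_subgroupOf, mem_subgroupOf, mem_subgroupOf] at h1
    exact h1.mpr ⟨fun h => absurd h hcP, fun h => absurd h hdP⟩
  have hNsq : ∀ h ∈ N, h ∉ C → h * h = 1 := by
    intro h hh hhC
    have h1 := hNcoset h hh hhC s hsN hsC
    have h2 := hsinvC _ h1
    -- s * (h * s) * s⁻¹ = (h * s)⁻¹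
    have h3 : s * h = s⁻¹ * h⁻¹ := by
      calc s * h = s * (h * s) * s⁻¹ := by group
        _ = (h * s)⁻¹ := h2
        _ = s⁻¹ * h⁻¹ := by group
    rw [hsinv] at h3
    have h4 : h = h⁻¹ := mul_left_cancel h3
    calc h * h = h * h⁻¹ := by rw [← h4]
      _ = 1 := by group
  -- involutions commuting with `t`
  have hset : {v : G | orderOf v = 2 ∧ v ≠ t ∧ t * v = v * t} = (N : Set G) \ (C : Set G) := by
    ext v
    simp only [Set.mem_ofPred_eq, Set.mem_sdiff, SetLike.mem_coe]
    constructor
    · rintro ⟨hv2, hvt, hcomm⟩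
      have hvN : v ∈ N := by
        rw [← hCt, mem_centralizer_singleton_iff]
        exact hcomm.symm
      refine ⟨hvN, fun hvC => hvt (huniq v hvC ?_ ?_)⟩
      · have := pow_orderOf_eq_one v
        rwa [hv2, pow_two] at this
      · rintro rfl
        rw [orderOf_one] at hv2
        omega
    · rintro ⟨hvN, hvC⟩
      have hv1 : v ≠ 1 := by rintro rfl; exact hvC (one_mem _)
      refine ⟨?_, ?_, ?_⟩
      · exact orderOf_eq_prime (by rw [pow_two]; exact hNsq v hvN hvC) hv1
      · rintro rfl; exact hvC htC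
      · have := hNt v hvN
        calc t * v = (v * t * v⁻¹) * v := by rw [this]
          _ = v * t := by group
  have hcardset : {v : G | orderOf v = 2 ∧ v ≠ t ∧ t * v = v * t}.ncard = 2 * m := by
    rw [hset, ncard_diff_eq C N hCN]
    have : C.relIndex N = 2 := hidxN
    rw [this, hC]
    omega
  -- graph
  let V := {u : G // orderOf u = 2}
  haveI : Fintype V := Fintype.ofFinite V
  haveI : Nonempty V := ⟨⟨t, ht'⟩⟩
  let R : V → V → Prop := fun u v => v ≠ u ∧ (u : G) * v = v * u
  haveI : DecidableRel R := fun _ _ => Classical.dec _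
  have hVsq : ∀ u : V, (u : G) * u = 1 := by
    intro u
    have := pow_orderOf_eq_one (u : G)
    rwa [u.2, pow_two] at this
  have hV1 : ∀ u : V, (u : G) ≠ 1 := by
    intro u h
    have := u.2
    rw [h, orderOf_one] at this
    omega
  have hVinv : ∀ u : V, (u : G)⁻¹ = u := fun u => inv_eq_of_mul_eq_one_left (hVsq u)
  -- conjugation into `N \ C`
  have hconjN : ∀ (g : G) (u : V), (g * t * g⁻¹) * u = u * (g * t * g⁻¹) → (u : G) ≠ g * t * g⁻¹ →
      g⁻¹ * u * g ∈ N ∧ g⁻¹ * u * g ∉ C := by
    intro g u hgu hne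
    have h1 : g⁻¹ * (u : G) * g ∈ N := by
      rw [← hCt, mem_centralizer_singleton_iff]
      calc g⁻¹ * (u : G) * g * t = g⁻¹ * (u * (g * t * g⁻¹)) * g := by group
        _ = g⁻¹ * ((g * t * g⁻¹) * u) * g := by rw [hgu]
        _ = t * (g⁻¹ * u * g) := by group
    refine ⟨h1, fun h2 => hne ?_⟩
    have h3 := huniq _ h2 (by
      calc g⁻¹ * (u : G) * g * (g⁻¹ * u * g) = g⁻¹ * (u * u) * g := by group
        _ = 1 := by rw [hVsq]; group) (by
      intro h4
      apply hV1 u
      calc (u : G) = g * (g⁻¹ * u * g) * g⁻¹ := by group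
        _ = 1 := by rw [h4]; group)
    rw [← h3]; group
  refine no_regular_friendship R (fun v h => h.1 rfl) (fun u v h => ⟨h.1.symm, h.2.symm⟩) (2 * m) (by omega) ?_ ?_
  · -- degree
    intro u
    obtain ⟨g, hg⟩ := hinvol u u.2
    have h1 : ((Finset.univ.filter (R u) : Finset V) : Set V).ncard = (Finset.univ.filter (R u)).card :=
      Set.ncard_coe_finset _
    rw [← h1, ← Set.ncard_image_of_injective _ (Subtype.val_injective : Function.Injective (Subtype.val : V → G))]
    have h2 : (Subtype.val : V → G) '' ((Finset.univ.filter (R u) : Finset V) : Set V) =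
        (fun x => g * x * g⁻¹) '' {v : G | orderOf v = 2 ∧ v ≠ t ∧ t * v = v * t} := by
      ext x
      simp only [Set.mem_image, Finset.coe_filter, Finset.mem_univ, true_and, Set.mem_ofPred_eq]
      constructor
      · rintro ⟨v, hv, rfl⟩
        refine ⟨g⁻¹ * v * g, ⟨?_, ?_, ?_⟩, by group⟩
        · have := orderOf_conj_eq g⁻¹ (v : G)
          rw [inv_inv] at this
          rw [this, v.2]
        · intro h
          apply hv.1
          apply Subtype.ext
          rw [← hg, ← h]; group
        · have h3 := hv.2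
          rw [← hg] at h3
          calc t * (g⁻¹ * v * g) = g⁻¹ * ((g * t * g⁻¹) * v) * g := by group
            _ = g⁻¹ * (v * (g * t * g⁻¹)) * g := by rw [h3]
            _ = g⁻¹ * v * g * t := by group
      · rintro ⟨v, ⟨hv2, hvt, hcomm⟩, rfl⟩
        refine ⟨⟨g * v * g⁻¹, by rw [orderOf_conj_eq, hv2]⟩, ⟨?_, ?_⟩, rfl⟩
        · intro h
          apply hvt
          have h3 := congrArg Subtype.val h
          simp only at h3
          rw [← hg] at h3
          simpa using h3
        · change (u : G) * (g * v * g⁻¹) = g * v * g⁻¹ * u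
          rw [← hg]
          calc g * t * g⁻¹ * (g * v * g⁻¹) = g * (t * v) * g⁻¹ := by group
            _ = g * (v * t) * g⁻¹ := by rw [hcomm]
            _ = g * v * g⁻¹ * (g * t * g⁻¹) := by group
    rw [h2, Set.ncard_image_of_injective _ (fun x y h => by simpa using h), hcardset]
  · -- unique common neighbour
    intro u v huv
    rw [Finset.card_eq_one]
    have huv' : (u : G) ≠ v := fun h => huv (Subtype.ext h)
    set w : G := u * v with hw
    have hw1 : w ≠ 1 := by
      intro h
      apply huv'
      calc (u : G) = u * v * (v : G)⁻¹ := by group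
        _ = (v : G)⁻¹ := by rw [← hw, h, one_mul]
        _ = v := hVinv v
    have huw : (u : G) * w * (u : G)⁻¹ = w⁻¹ := by
      rw [hw, hVinv u]
      calc (u : G) * (u * v) * u = (u * u) * (v * u) := by group
        _ = v * u := by rw [hVsq, one_mul]
        _ = (v : G)⁻¹ * (u : G)⁻¹ := by rw [hVinv, hVinv]
        _ = (u * v : G)⁻¹ := by group
    have hvw : (v : G) * w * (v : G)⁻¹ = w⁻¹ := by
      rw [hw]
      calc (v : G) * (u * v) * (v : G)⁻¹ = v * u := by group
        _ = (v : G)⁻¹ * (u : G)⁻¹ := by rw [hVinv, hVinv]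
        _ = (u * v : G)⁻¹ := by group
    have hvuw : (v : G) = u * w := by
      rw [hw, ← mul_assoc, hVsq, one_mul]
    -- uniqueness
    have hun : ∀ z₁ z₂ : V, (R u z₁ ∧ R z₁ v) → (R u z₂ ∧ R z₂ v) → z₁ = z₂ := by
      intro z₁ z₂ h1 h2
      obtain ⟨g, hg⟩ := hinvol z₁ z₁.2
      obtain ⟨h, hh⟩ := hinvol z₂ z₂.2
      have key : ∀ (g : G) (z : V), g * t * g⁻¹ = z → (R u z ∧ R z v) → g⁻¹ * w * g ∈ C := by
        intro g z hgz hz
        obtain ⟨a1, a2⟩ := hconjN g u (by rw [hgz]; exact hz.1.2.symm) (by
          rw [hgz]; intro h; exact hz.1.1 (Subtype.ext h.symm))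
        obtain ⟨b1, b2⟩ := hconjN g v (by rw [hgz]; exact hz.2.2) (by
          rw [hgz]; intro h; exact hz.2.1 (Subtype.ext h))
        have h3 := hNcoset _ a1 a2 _ b1 b2
        have e : g⁻¹ * (u : G) * g * (g⁻¹ * v * g) = g⁻¹ * w * g := by rw [hw]; group
        rwa [e] at h3
      have k1 := key g z₁ hg h1
      have k2 := key h z₂ hh h2
      have k3 := hTI' (h⁻¹ * g) (g⁻¹ * w * g) k1 (by
        intro h4
        apply hw1
        calc w = g * (g⁻¹ * w * g) * g⁻¹ := by group
          _ = 1 := by rw [h4]; group) (by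
        have e : h⁻¹ * g * (g⁻¹ * w * g) * (h⁻¹ * g)⁻¹ = h⁻¹ * w * h := by group
        rw [e]; exact k2)
      apply Subtype.ext
      rw [← hg, ← hh]
      calc g * t * g⁻¹ = h * (h⁻¹ * g * t * (h⁻¹ * g)⁻¹) * h⁻¹ := by group
        _ = h * t * h⁻¹ := by rw [k3]
    -- existence
    have hex : ∃ z : V, R u z ∧ R z v := by
      have hzinv : ∀ z : G, z * z = 1 → z⁻¹ = z := fun z hz => inv_eq_of_mul_eq_one_left hz
      rcases Nat.even_or_odd (orderOf w) with heo | heo
      · obtain ⟨j, hj⟩ := heo
        have hopos := orderOf_pos w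
        have hjpos : 0 < j := by omega
        have hz2 : w ^ j * w ^ j = 1 := by rw [← pow_add, ← hj, pow_orderOf_eq_one]
        have hz1 : w ^ j ≠ 1 := by
          intro h
          have := Nat.le_of_dvd hjpos (orderOf_dvd_of_pow_eq_one h)
          omega
        have hzo : orderOf (w ^ j) = 2 := orderOf_eq_prime (by rw [pow_two]; exact hz2) hz1
        have huz : (u : G) * w ^ j = w ^ j * u := by
          have h1 : (u : G) * w ^ j * (u : G)⁻¹ = w ^ j := by
            rw [← conj_pow, huw, inv_pow, hzinv _ hz2]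
          calc (u : G) * w ^ j = (u * w ^ j * (u : G)⁻¹) * u := by group
            _ = w ^ j * u := by rw [h1]
        have hvz : w ^ j * (v : G) = v * w ^ j := by
          have h1 : (v : G) * w ^ j * (v : G)⁻¹ = w ^ j := by
            rw [← conj_pow, hvw, inv_pow, hzinv _ hz2]
          calc w ^ j * (v : G) = ((v : G) * w ^ j * (v : G)⁻¹) * v := by rw [h1]
            _ = v * w ^ j := by group
        -- if `w ^ j` equals `u` or `v` then `w` is an involution
        have haux : w * w = 1 → j = 1 := by
          intro h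
          have h1 : orderOf w ∣ 2 := orderOf_dvd_of_pow_eq_one (by rw [pow_two]; exact h)
          have := Nat.le_of_dvd (by norm_num) h1
          omega
        have haux2 : w⁻¹ = w → w * w = 1 := by
          intro h
          nth_rewrite 1 [← h]
          exact inv_mul_cancel w
        refine ⟨⟨w ^ j, hzo⟩, ⟨?_, huz⟩, ⟨?_, hvz⟩⟩
        · intro h
          have h1 : w ^ j = (u : G) := congrArg Subtype.val h
          have h2 : (u : G) * w * (u : G)⁻¹ = w := by
            rw [← h1, ← pow_succ, pow_succ']
            group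
          rw [huw] at h2
          have h3 := haux (haux2 h2)
          rw [h3, pow_one] at h1
          apply hV1 v
          have h4 : (u : G) * v = u := h1
          simpa using h4
        · intro h
          have h1 : (v : G) = w ^ j := congrArg Subtype.val h
          have h2 : (v : G) * w * (v : G)⁻¹ = w := by
            rw [h1, ← pow_succ, pow_succ']
            group
          rw [hvw] at h2
          have h3 := haux (haux2 h2)
          rw [h3, pow_one] at h1
          apply hV1 u
          have h4 : (u : G) * v = v := by rw [← hw]; exact h1.symm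
          simpa using h4
      · -- odd order
        have huo : 2 ∣ Nat.card (normalizer ((zpowers w : Subgroup G) : Set G)) := by
          have h1 : (u : G) ∈ normalizer ((zpowers w : Subgroup G) : Set G) := by
            rw [mem_normalizer_zpowers_iff, huw]
            exact inv_mem (mem_zpowers w)
          have := orderOf_dvd_natCard (⟨u, h1⟩ : normalizer ((zpowers w : Subgroup G) : Set G))
          rwa [orderOf_mk, u.2] at this
        have hwN : w ∈ normalizer ((zpowers w : Subgroup G) : Set G) := le_normalizer (mem_zpowers w)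
        have htop : normalizer ((zpowers w : Subgroup G) : Set G) ≠ ⊤ := by
          intro h
          have hn : (zpowers w).Normal := normalizer_eq_top_iff.mp h
          rcases hn.eq_bot_or_eq_top with h5 | h5
          · exact hw1 (zpowers_eq_bot.mp h5)
          · have h6 : (u : G) ∈ zpowers w := by rw [h5]; exact mem_top _
            have h7 := orderOf_dvd_of_mem_zpowers h6
            rw [u.2] at h7
            exact (Nat.not_even_iff_odd.mpr heo) (even_iff_two_dvd.mpr h7)
        have h1 := heven _ htop huo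
        have h2 : orderOf w ∣ 4 * m := by
          have := orderOf_dvd_natCard (⟨w, hwN⟩ : normalizer ((zpowers w : Subgroup G) : Set G))
          rw [orderOf_mk] at this
          exact this.trans h1
        have h3 : orderOf w ∣ m := by
          have h4 : Nat.Coprime (orderOf w) 4 := by
            have : Nat.Coprime (orderOf w) (2 ^ 2) := Nat.Coprime.pow_right 2 (Nat.coprime_two_right.mpr heo)
            simpa using this
          exact h4.dvd_of_dvd_mul_left h2
        rw [hma] at h3
        obtain ⟨k, -, hk⟩ := (Nat.dvd_prime_pow Nat.prime_three).mp h3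
        have hwp : IsPGroup 3 (zpowers w) := IsPGroup.of_card (n := k) (by rw [Nat.card_zpowers, hk])
        obtain ⟨Q, hQ⟩ := hwp.exists_le_sylow
        obtain ⟨g, hg⟩ := MulAction.exists_smul_eq G P Q
        have hwQ : w ∈ (Q : Subgroup G) := hQ (mem_zpowers w)
        have hgw : g⁻¹ * w * g ∈ P := by
          rw [← hg, Sylow.coe_subgroup_smul, mem_pointwise_smul_iff_inv_smul_mem] at hwQ
          have h5 : (MulAut.conj g)⁻¹ • w = g⁻¹ * w * g := by
            rw [inv_smul_eq_iff]
            simp [mul_assoc]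
          rw [h5] at hwQ
          exact hwQ
        set w' := g⁻¹ * w * g with hw'
        have hw'1 : w' ≠ 1 := by
          intro h
          apply hw1
          calc w = g * w' * g⁻¹ := by rw [hw']; group
            _ = 1 := by rw [h]; group
        have hconj : ∀ x : V, (x : G) * w * (x : G)⁻¹ = w⁻¹ →
            (g * t * g⁻¹) * (x : G) = x * (g * t * g⁻¹) ∧ (x : G) ≠ g * t * g⁻¹ := by
          intro x hx
          have h6 := hTI' (g⁻¹ * x * g) w' (hPC hgw) hw'1 (by
            have e : g⁻¹ * (x : G) * g * w' * (g⁻¹ * x * g)⁻¹ = g⁻¹ * (x * w * (x : G)⁻¹) * g := by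
              rw [hw']; group
            rw [e, hx]
            have e2 : g⁻¹ * w⁻¹ * g = w'⁻¹ := by rw [hw']; group
            rw [e2]
            exact inv_mem (hPC hgw))
          refine ⟨?_, ?_⟩
          · calc (g * t * g⁻¹) * (x : G) = g * (t * (g⁻¹ * x * g)) * g⁻¹ := by group
              _ = g * ((g⁻¹ * x * g * t * (g⁻¹ * x * g)⁻¹) * (g⁻¹ * x * g)) * g⁻¹ := by rw [h6]
              _ = x * (g * t * g⁻¹) := by group
          · intro h7
            have h8 : t * w' * t⁻¹ = w'⁻¹ := by
              calc t * w' * t⁻¹ = g⁻¹ * ((g * t * g⁻¹) * w * (g * t * g⁻¹)⁻¹) * g := by rw [hw']; group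
                _ = g⁻¹ * w⁻¹ * g := by rw [← h7, hx]
                _ = w'⁻¹ := by rw [hw']; group
            have h9 : t * w' * t⁻¹ = w' := by rw [← hCP t htC w' hgw]; group
            rw [h9] at h8
            apply hw'1
            apply hPsq w' hgw
            nth_rewrite 2 [h8]
            group
        have hzo : orderOf (g * t * g⁻¹) = 2 := by rw [orderOf_conj_eq, ht']
        obtain ⟨a1, a2⟩ := hconj u huw
        obtain ⟨b1, b2⟩ := hconj v hvw
        refine ⟨⟨g * t * g⁻¹, hzo⟩, ⟨?_, a1.symm⟩, ⟨?_, b1⟩⟩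
        · intro h
          exact a2 (congrArg Subtype.val h).symm
        · intro h
          exact b2 (congrArg Subtype.val h)
    obtain ⟨z, hz⟩ := hex
    refine ⟨z, ?_⟩
    ext z'
    simp only [Finset.mem_filter, Finset.mem_univ, true_and, Finset.mem_singleton]
    constructor
    · intro hz'
      exact hun z' z hz' hz
    · rintro rfl
      exact hz

end Cfsg.Agent.H67
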